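import Cfsg.Agent.Lib.LocalEven.PMinFF.Structure
import Cfsg.Agent.Lib.LocalEven.PMinFF.Atoms
import Cfsg.Agent.Lib.LocalEven.PMinFF.OneOrder

/-!
# The atoms in `T`, their pairs, and the centraliser of the fixed space
-/

set_option autoImplicit false
set_option linter.all false

namespace CfsgLib.LocalEven.PMinPush

open Subgroup CfsgLib.LocalEven.OffSL2 CfsgLib.LocalEven.PMinFF

variable {P : Type*} [Group P] [Finite P] {p : ℕ} [Fact p.Prime]
variable {U : Type*} [AddCommGroup U] [Finite U]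
variable {act : P →* AddMonoid.End U} {T M : Subgroup P} {y : U} {q : ℕ} {L : Subgroup P → Subgroup P}

/-- All atoms have order `q`, some lie in `T`, and `L` chooses their pairs. -/
structure AtSys (p : ℕ) (act : P →* AddMonoid.End U) (T M : Subgroup P) (q : ℕ) (L : Subgroup P → Subgroup P) :
    Prop where
  all : ∀ Z, Atom p act Z → Nat.card Z = q
  ne : (sig p act T q).Nonempty
  pairs : Pairs p act T M q L

/-- The fixed space of the atoms in `T`. -/
abbrev fE (p : ℕ) (act : P →* AddMonoid.End U) (T : Subgroup P) (q : ℕ) : AddSubgroup U :=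
  fix act (sSup (sig p act T q))

/-- The fixed space of the atoms in `T` other than `B`. -/
abbrev fD (p : ℕ) (act : P →* AddMonoid.End U) (T : Subgroup P) (q : ℕ) (B : Subgroup P) : AddSubgroup U :=
  fix act (sSup (sig p act T q \ {B}))

omit [Finite P] [Fact p.Prime] [Finite U] in
theorem mem_fix_sSup {S : Set (Subgroup P)} {v : U} : v ∈ fix act (sSup S) ↔ ∀ X ∈ S, v ∈ fix act X := by
  refine ⟨fun h X hX => fix_anti act (le_sSup hX) h, fun h a ha => ?_⟩
  exact (sSup_le fun X hX x hx => h X hX x hx : sSup S ≤ stabV act v) ha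

omit [Finite P] [Finite U] in
/-- Elements centralising a set of generators centralise the group. -/
theorem commute_of_gen {k : P} {B B1 : Subgroup P} (h1 : ∀ b ∈ B, k * b = b * k) (h2 : ∀ b ∈ B1, k * b = b * k) :
    ∀ l ∈ B ⊔ B1, k * l = l * k := fun l hl => by
  have hle : B ⊔ B1 ≤ Subgroup.centralizer {k} := sup_le (fun b hb => mem_centralizer_singleton_iff.2 (h1 b hb).symm)
    fun b hb => mem_centralizer_singleton_iff.2 (h2 b hb).symm
  exact (mem_centralizer_singleton_iff.1 (hle hl)).symm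

variable (hP : PMod p act T M y)
include hP

/-- An exact subgroup of `T` lies in the group of the atoms. -/
theorem AtSys.exact_le (h : AtSys p act T M q L) {X : Subgroup P} (hX : Exact p act X) (hXT : X ≤ T) :
    X ≤ sSup (sig p act T q) :=
  (hX.le_atoms hP).trans (sSup_le fun Z hZ => le_sSup ⟨⟨hZ.1, h.all Z hZ.1⟩, hZ.2.trans hXT⟩)

/-- A `p`-group fixing a proper subgroup fixes a vector outside it modulo it. -/
theorem exists_fixed_mod {K : Subgroup P} (hK : IsPGroup p K) {S : AddSubgroup U} (hS : S ≠ ⊤)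
    (hn : ∀ k ∈ K, ∀ u ∈ S, act k u ∈ S) : ∃ v, v ∉ S ∧ ∀ k ∈ K, act k v - v ∈ S := by
  letI : MulAction K (U ⧸ S) :=
    { smul := fun k x => QuotientAddGroup.map S S (act (k : P)) (fun u hu => hn k k.2 u hu) x
      one_smul := fun x => by
        induction x using QuotientAddGroup.induction_on with
        | _ u => exact congrArg QuotientAddGroup.mk (OffSL2.act_one act u)
      mul_smul := fun k k' x => by
        induction x using QuotientAddGroup.induction_on with
        | _ u => exact congrArg QuotientAddGroup.mk (OffSL2.act_mul act (k : P) k' u) }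
  have h0 : (0 : U ⧸ S) ∈ MulAction.fixedPoints K (U ⧸ S) := fun k =>
    map_zero (QuotientAddGroup.map S S (act (k : P)) (fun u hu => hn k k.2 u hu))
  obtain ⟨x, hx⟩ : ∃ x : U, x ∉ S := by
    by_contra hall
    push Not at hall
    exact hS (eq_top_iff.2 fun u _ => hall u)
  have hpx : p • (QuotientAddGroup.mk x : U ⧸ S) = 0 := by
    rw [← QuotientAddGroup.mk_nsmul, hP.hpU]; rfl
  have hdvd : p ∣ Nat.card (U ⧸ S) :=
    (addOrderOf_eq_prime hpx (fun e => hx ((QuotientAddGroup.eq_zero_iff x).1 e))) ▸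
      addOrderOf_dvd_natCard (QuotientAddGroup.mk x : U ⧸ S)
  obtain ⟨f, hf, hf0⟩ := hK.exists_fixed_point_of_prime_dvd_card_of_fixed_point (U ⧸ S) hdvd h0
  obtain ⟨w, rfl⟩ := QuotientAddGroup.mk_surjective f
  exact ⟨w, fun hw => hf0.symm ((QuotientAddGroup.eq_zero_iff _).2 hw), fun k hk =>
    QuotientAddGroup.eq_iff_sub_mem.1 (hf ⟨k, hk⟩)⟩

/-- Two pairs on `B` centralised by the other atoms in `T`, case `q = 2`. -/
theorem pair_le_two [Fact (Nat.Prime 2)] (hP2 : PMod 2 act T M y) {b : P} {c : U} {φ : U →+ ZMod 2}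
    (hb : Tr act b c φ) (hB : zpowers b ∈ sig 2 act T 2) {L1 L2 : Subgroup P}
    (h1 : Pair act M (zpowers b) L1) (h2 : Pair act M (zpowers b) L2)
    (c1 : ∀ D ∈ sig 2 act T 2, D ≠ zpowers b → ∀ d ∈ D, ∀ l ∈ L1, d * l = l * d)
    (c2 : ∀ D ∈ sig 2 act T 2, D ≠ zpowers b → ∀ d ∈ D, ∀ l ∈ L2, d * l = l * d) : L1 ≤ L2 := by
  classical
  obtain ⟨l, hl, hne⟩ := h1.moves
  obtain ⟨m, hm, hmne⟩ := h2.moves
  obtain ⟨d, hdd⟩ : ∃ d, d = m * b * m⁻¹ := ⟨_, rfl⟩
  obtain ⟨d', hdd'⟩ : ∃ d', d' = l * b * l⁻¹ := ⟨_, rfl⟩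
  have hdL : d ∈ L2 := hdd ▸ mul_mem (mul_mem hm (h2.le (mem_zpowers b))) (inv_mem hm)
  have hd'L : d' ∈ L1 := hdd' ▸ mul_mem (mul_mem hl (h1.le (mem_zpowers b))) (inv_mem hl)
  have hD : cj m (zpowers b) = zpowers d := hdd ▸ MonoidHom.map_zpowers _ _
  have hD' : cj l (zpowers b) = zpowers d' := hdd' ▸ MonoidHom.map_zpowers _ _
  have hd : Tr act d (act m c) (φ.comp (act m⁻¹ : U →+ U)) := hdd ▸ hb.conj m
  have hd' : Tr act d' (act l c) (φ.comp (act l⁻¹ : U →+ U)) := hdd' ▸ hb.conj l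
  have hz : ∀ {x z : P}, x * z = z * x → ∀ a ∈ zpowers x, ∀ a' ∈ zpowers z, a * a' = a' * a := by
    rintro x z hxz _ ⟨i, rfl⟩ _ ⟨j, rfl⟩
    exact (Commute.zpow_zpow (show Commute x z from hxz) i j).eq
  have hnc : ¬ d * b = b * d := fun e => hmne (h2.eq_of_commute hb.atom.1.el hm fun a ha a' ha' =>
    hz e a (hD ▸ ha) a' ha')
  have hnc' : ¬ d' * b = b * d' := fun e => hne (h1.eq_of_commute hb.atom.1.el hl fun a ha a' ha' =>
    hz e a (hD' ▸ ha) a' ha')
  have f1 : φ (act m c) = 1 := (zmod2_cases _).resolve_left fun e => hnc (hb.rel hP2 hd e).2.symm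
  have f2 : φ (act l c) = 1 := (zmod2_cases _).resolve_left fun e => hnc' (hb.rel hP2 hd' e).2.symm
  suffices hmem : d' ∈ L2 by
    rw [← h1.gen2 l hl hne, hD']
    exact sup_le h2.le (zpowers_le.2 hmem)
  by_cases heq : zpowers d' = zpowers d
  · exact zpowers_le.2 hdL (heq ▸ mem_zpowers d')
  have hsd : zpowers d ∉ sig 2 act T 2 := fun hs =>
    hnc (sig_comm hP2 _ hs _ hB d (mem_zpowers d) b (mem_zpowers b))
  have hsd' : zpowers d' ∉ sig 2 act T 2 := fun hs =>
    hnc' (sig_comm hP2 _ hs _ hB d' (mem_zpowers d') b (mem_zpowers b))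
  rcases zmod2_cases ((φ.comp (act m⁻¹ : U →+ U)) (act l c)) with e | e
  · exfalso
    have hcomm := (hd.rel hP2 hd' e).2
    have hex : ∀ X ∈ insert (zpowers d') (insert (zpowers d) (sig 2 act T 2 \ {zpowers b})), AtQ 2 act 2 X := by
      rintro X (rfl | rfl | hX)
      exacts [hd'.atom, hd.atom, hX.1.1]
    have hcc : ∀ X ∈ insert (zpowers d') (insert (zpowers d) (sig 2 act T 2 \ {zpowers b})),
        ∀ Y ∈ insert (zpowers d') (insert (zpowers d) (sig 2 act T 2 \ {zpowers b})),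
        ∀ a ∈ X, ∀ a' ∈ Y, a * a' = a' * a := by
      rintro X (rfl | rfl | hX) Y (rfl | rfl | hY) a ha a' ha'
      · exact hz rfl a ha a' ha'
      · exact hz hcomm.symm a ha a' ha'
      · exact (c1 Y hY.1 hY.2 a' ha' a ((zpowers_le.2 hd'L) ha)).symm
      · exact hz hcomm a ha a' ha'
      · exact hz rfl a ha a' ha'
      · exact (c2 Y hY.1 hY.2 a' ha' a ((zpowers_le.2 hdL) ha)).symm
      · exact c1 X hX.1 hX.2 a ha a' ((zpowers_le.2 hd'L) ha')
      · exact c2 X hX.1 hX.2 a ha a' ((zpowers_le.2 hdL) ha')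
      · exact sig_comm hP2 X hX.1 Y hY.1 a ha a' ha'
    have hcard := commset_card_le hP2 (q := 2) hex hcc
    rw [Set.ncard_insert_of_notMem ?_ (Set.toFinite _), Set.ncard_insert_of_notMem ?_ (Set.toFinite _),
      Set.ncard_diff_singleton_of_mem hB] at hcard
    · omega
    · exact fun hm' => hsd hm'.1
    · rintro (e' | hm')
      exacts [heq e', hsd' hm'.1]
  have h3 := hd.sum hP2 hd' e
  have h4 : φ (act m c + act l c) = 0 := by rw [map_add, f1, f2]; rfl
  have h5 := (hb.rel hP2 h3 h4).2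
  have hs : zpowers (d * d' * d⁻¹) ∈ sig 2 act T 2 := by
    refine mem_sig_of_commute hP2 h3.atom fun X hX a ha x hx => ?_
    by_cases hXb : X = zpowers b
    · subst hXb; exact hz h5.symm a ha x hx
    · have hxd : Commute x d := c2 X hX hXb x hx d hdL
      have hxd' : Commute x d' := c1 X hX hXb x hx d' hd'L
      obtain ⟨i, rfl⟩ := ha
      exact (((hxd.mul_right hxd').mul_right hxd.inv_right).symm.zpow_left i).eq
  by_cases he : zpowers (d * d' * d⁻¹) = zpowers b
  · have h7 : d' = d⁻¹ * b * d := by rw [← h3.gen_eq hb he]; group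
    rw [h7]
    exact mul_mem (mul_mem (inv_mem hdL) (h2.le (mem_zpowers b))) hdL
  · exfalso
    have h6 : d * d' * d⁻¹ * d = d * (d * d' * d⁻¹) := c2 _ hs he _ (mem_zpowers _) d hdL
    have h7 : d * d' * d⁻¹ = d' := by
      calc d * d' * d⁻¹ = d⁻¹ * (d * (d * d' * d⁻¹)) := by group
        _ = d⁻¹ * ((d * d' * d⁻¹) * d) := by rw [h6]
        _ = _ := by group
    rw [h7] at hs
    exact hnc' (sig_comm hP2 _ hs _ hB d' (mem_zpowers d') b (mem_zpowers b))

/-- Atoms of order two belong to the prime two. -/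
theorem prime_two {B : Subgroup P} (hB : AtQ p act 2 B) : p = 2 := by
  obtain ⟨n, hn⟩ := IsPGroup.iff_card.1 hB.1.el.isPGroup
  rw [hB.2] at hn
  rcases n with _ | n
  · simp at hn
  · exact (Nat.prime_dvd_prime_iff_eq Fact.out Nat.prime_two).1 (hn.symm ▸ dvd_pow_self p (Nat.succ_ne_zero n))

/-- A pair with the centralising property is the chosen one. -/
theorem AtSys.unique (h : AtSys p act T M q L) {B : Subgroup P} (hB : B ∈ sig p act T q) {L1 : Subgroup P}
    (h1 : Pair act M B L1) (hc : ∀ D ∈ sig p act T q, D ≠ B → ∀ d ∈ D, ∀ l ∈ L1, d * l = l * d) : L1 = L B := by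
  classical
  have hL := h.pairs
  have hcL : ∀ D ∈ sig p act T q, D ≠ B → ∀ d ∈ D, ∀ l ∈ L B, d * l = l * d :=
    fun D hD hne => (hL.other B hB D hD hne).1
  by_cases hq : 3 ≤ q
  · obtain ⟨l, hl, hne⟩ := h1.moves
    obtain ⟨X, hX, m, hm, he⟩ := exists_mem_pairs hP hL hq (hB.1.cj l)
    by_cases hXB : X = B
    · subst hXB
      rw [← h1.gen2 l hl hne, ← (hL.pair _ hB).gen2 m hm (he ▸ hne), he]
    · exfalso
      refine hne (h1.eq_of_commute hB.1.1.el hl fun a ha b hb => ?_)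
      exact ((hL.other X hX B hB (Ne.symm hXB)).1 b hb a (cj_le_of_mem hm (hL.pair X hX).le (he.ge ha))).symm
  have h2 : q = 2 := by
    have := hB.1.2 ▸ (Subgroup.one_lt_card_iff_ne_bot B |>.2 hB.1.1.ne)
    omega
  subst h2
  obtain rfl := prime_two hP hB.1
  obtain ⟨b, c, φ, hb, rfl⟩ := exists_tr hP hB.1
  exact le_antisymm (pair_le_two hP hP hb hB h1 (hL.pair _ hB) hc hcL)
    (pair_le_two hP hP hb hB (hL.pair _ hB) h1 hcL hc)

/-- `T` permutes the atoms in `T` and their pairs. -/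
theorem AtSys.equiv (h : AtSys p act T M q L) {t : P} (ht : t ∈ T) {B : Subgroup P} (hB : B ∈ sig p act T q) :
    cj t B ∈ sig p act T q ∧ L (cj t B) = cj t (L B) := by
  have hmem : ∀ {s : P}, s ∈ T → ∀ {D : Subgroup P}, D ∈ sig p act T q → cj s D ∈ sig p act T q :=
    fun hs D hD => ⟨hD.1.cj _, cj_le_of_mem hs hD.2⟩
  refine ⟨hmem ht hB, (h.unique hP (hmem ht hB) ((h.pairs.pair B hB).conj (hP.TM ht)) fun D hD hne d hd l hl => ?_).symm⟩
  have h1 := (h.pairs.other B hB (cj t⁻¹ D) (hmem (T.inv_mem ht) hD) fun e => hne (by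
      rw [← e, cj_cj, mul_inv_cancel, cj_one])).1 _ (conj_mem_cj hd) _ (mem_cj.1 hl)
  rw [inv_inv] at h1
  simpa [mul_assoc] using congrArg (fun z => t * z * t⁻¹) h1

/-- `T` stabilises the group of its atoms. -/
theorem AtSys.cj_E (h : AtSys p act T M q L) {t : P} (ht : t ∈ T) :
    cj t (sSup (sig p act T q)) = sSup (sig p act T q) :=
  cj_sSup_sig (cj_le_of_mem ht sSup_sig_le)

/-- Commutators of atoms in `T` lie in the fixed space. -/
theorem sub_mem_fE {B : Subgroup P} (hB : B ∈ sig p act T q) {b : P} (hb : b ∈ B) (v : U) :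
    act b v - v ∈ fE p act T q := (sig_exact hP).2 b (le_sSup hB hb) v

/-- An element of `T` fixing the fixed space normalises each atom in `T`. -/
theorem AtSys.fix_norm (h : AtSys p act T M q L) {t : P} (ht : t ∈ T) (hfix : ∀ v ∈ fE p act T q, act t v = v)
    {B : Subgroup P} (hB : B ∈ sig p act T q) : cj t B = B := by
  by_contra hne
  obtain ⟨c, ⟨b, hb, u, rfl⟩, hc0⟩ := exists_cval hP hB.1.1
  have h1 := hfix _ (sub_mem_fE hP hB hb u)
  rw [map_sub, show act t (act b u) = act (t * b * t⁻¹) (act t u) by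
    rw [← OffSL2.act_mul, ← OffSL2.act_mul]; congr 2; group] at h1
  have h2 := (h.pairs.other B hB _ (h.equiv hP ht hB).1 hne).2 _ (conj_mem_cj hb) (act t u)
  rw [h1] at h2
  exact hc0 (sub_eq_zero.2 ((h.pairs.pair B hB).free b hb u h2))

/-- An element of `T` fixing the fixed space centralises each atom in `T`. -/
theorem AtSys.fix_comm (h : AtSys p act T M q L) {t : P} (ht : t ∈ T) (hfix : ∀ v ∈ fE p act T q, act t v = v)
    {B : Subgroup P} (hB : B ∈ sig p act T q) : ∀ b ∈ B, t * b = b * t := by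
  intro b hb
  have hK : ∀ k ∈ zpowers t, cj k B = B := by
    intro k hk
    have hle : zpowers t ≤ normalizer (B : Set P) :=
      zpowers_le.2 (mem_normalizer_of_conj (cj_le.1 (h.fix_norm hP ht hfix hB).le))
    exact cj_eq_self (hle hk)
  have hsB : ∀ k ∈ zpowers t, ∀ u ∈ fix act B, act k u ∈ fix act B := fun k hk u hu => by
    have := act_fix_cj (k := k) hu
    rwa [hK k hk] at this
  obtain ⟨v, hv, hkv⟩ := exists_fixed_mod hP (hP.syl.pgr.to_le (zpowers_le.2 ht)) (S := fix act B) (fun e => by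
    refine hB.1.1.ne ((Subgroup.eq_bot_iff_forall _).2 fun x hx => hP.inj (AddMonoidHom.ext fun u => ?_))
    show act x u = act 1 u
    rw [OffSL2.act_one]
    exact (e.ge (AddSubgroup.mem_top u)) x hx) hsB
  obtain ⟨z, hz⟩ : ∃ z, z = act t⁻¹ v - v := ⟨_, rfl⟩
  have hzB : z ∈ fix act B := hz ▸ hkv _ (inv_mem (mem_zpowers t))
  have hb' : t * b * t⁻¹ ∈ B := (hK t (mem_zpowers t)).le (conj_mem_cj hb)
  have e1 : act (t * b * t⁻¹) v = act b v := by
    have e2 : act (t * b * t⁻¹) v = act t (act b v - v) + act t (v + z) := by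
      rw [OffSL2.act_mul, OffSL2.act_mul, show act t⁻¹ v = v + z by rw [hz]; abel, map_add (act b), hzB b hb,
        ← map_add]
      congr 1; abel
    rw [e2, hfix _ (sub_mem_fE hP hB hb v), show v + z = act t⁻¹ v by rw [hz]; abel, OffSL2.act_inv']
    abel
  obtain ⟨d, hd⟩ : ∃ d, d = (t * b * t⁻¹)⁻¹ * b := ⟨_, rfl⟩
  have hd1 : d = 1 := by
    by_contra hd1
    refine hv (atom_fix_elem hP hB.1.1 (hd ▸ mul_mem (inv_mem hb') hb) hd1 ?_)
    rw [hd, OffSL2.act_mul, ← e1, OffSL2.act_inv]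
  rw [hd, inv_mul_eq_one] at hd1
  calc t * b = t * b * t⁻¹ * t := by group
    _ = b * t := by rw [hd1]

/-- An element of `T` fixing the fixed space centralises the pair up to the atom. -/
theorem AtSys.fix_pair (h : AtSys p act T M q L) {t : P} (ht : t ∈ T) (hfix : ∀ v ∈ fE p act T q, act t v = v)
    {B : Subgroup P} (hB : B ∈ sig p act T q) : ∃ b ∈ B, ∀ l ∈ L B, b * t * l = l * (b * t) := by
  have hp := h.pairs.pair B hB
  have hn := h.fix_norm hP ht hfix hB
  have hnL : cj t (L B) = L B := by rw [← (h.equiv hP ht hB).2, hn]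
  obtain ⟨l, hl, hne⟩ := hp.moves
  have hm : t * l * t⁻¹ ∈ L B := hnL.le (conj_mem_cj hl)
  have he : cj (t * l * t⁻¹) B = cj t (cj l B) := by
    calc cj (t * l * t⁻¹) B = cj (t * l * t⁻¹) (cj t B) := by rw [hn]
      _ = cj (t * l) B := by rw [cj_cj, inv_mul_cancel_right]
      _ = _ := (cj_cj t l B).symm
  have hmne : cj (t * l * t⁻¹) B ≠ B := fun e => hne (by
    rw [he] at e
    have e2 := congrArg (PMinFF.cj t⁻¹) e
    rw [cj_cj, inv_mul_cancel, cj_one] at e2
    rw [e2]
    conv_lhs => rw [← hn, cj_cj, inv_mul_cancel, cj_one])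
  obtain ⟨b, hb, hbe⟩ := hp.orbit hP hB.1.1 hl hm hne hmne
  rw [he, cj_cj] at hbe
  have hK : IsPGroup p (zpowers (b * t)) := hP.syl.pgr.to_le (zpowers_le.2 (T.mul_mem (hB.2 hb) ht))
  have hbt : ∀ a ∈ B, b * t * a = a * (b * t) := fun a ha => by
    rw [mul_assoc, h.fix_comm hP ht hfix hB a ha, ← mul_assoc, hB.1.1.el.comm b hb a ha, mul_assoc]
  have hle : zpowers (b * t) ≤ Subgroup.centralizer (B : Set P) :=
    zpowers_le.2 (mem_centralizer_iff.2 fun a ha => (hbt a ha).symm)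
  have hle2 : zpowers (b * t) ≤ normalizer ((cj l B : Subgroup P) : Set P) :=
    zpowers_le.2 (mem_normalizer_of_conj (cj_le.1 hbe.le))
  obtain ⟨hc1, -⟩ := (hp.duo hP hB.1.1 hl hne).1.central hP hK
    (fun k hk a ha => (mem_centralizer_iff.1 (hle hk) a ha).symm) (fun k hk => cj_eq_self (hle2 hk))
  refine ⟨b, hb, fun x hx => commute_of_gen hbt (hc1 _ (mem_zpowers _)) x ?_⟩
  rwa [hp.gen2 l hl hne]

/-- The space fixed by the other atoms. -/
theorem AtSys.fD_eq (h : AtSys p act T M q L) {B : Subgroup P} (hB : B ∈ sig p act T q) {l : P} (hl : l ∈ L B)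
    (hne : cj l B ≠ B) :
    fD p act T q B = fE p act T q ⊔ (fE p act T q).map (act l) ∧
      Nat.card (fD p act T q B) = q * Nat.card (fE p act T q) := by
  classical
  have hp := h.pairs.pair B hB
  obtain ⟨S, hS⟩ : ∃ S, S = fE p act T q ⊔ (fE p act T q).map (act l) := ⟨_, rfl⟩
  obtain ⟨D0, hD0⟩ : ∃ D0, D0 = sSup (sig p act T q \ {B}) := ⟨_, rfl⟩
  have hSle : S ≤ fD p act T q B := by
    rw [hS]
    refine sup_le (fix_anti act (sSup_le_sSup Set.diff_subset)) ?_
    rintro _ ⟨v, hv, rfl⟩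
    refine mem_fix_sSup.2 fun X hX x hx => ?_
    show act x (act l v) = act l v
    rw [← OffSL2.act_mul, (h.pairs.other B hB X hX.1 hX.2).1 x hx l hl, OffSL2.act_mul,
      hv x (le_sSup hX.1 hx)]
  have hEx0 := (exact_sSup hP (S := sig p act T q \ {B}) (fun X hX => hX.1.1.1)
    fun X hX Y hY => sig_comm hP X hX.1 Y hY.1).1
  have hEx := (sig_exact hP (q := q)).1
  have hcardE : Nat.card ↥(sSup (sig p act T q)) ≤ q * Nat.card D0 := by
    have hle : sSup (sig p act T q) ≤ B ⊔ D0 := sSup_le fun X hX => by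
      by_cases hXB : X = B
      · subst hXB; exact le_sup_left
      · exact (hD0 ▸ le_sSup ⟨hX, hXB⟩ : X ≤ D0).trans le_sup_right
    refine (Subgroup.card_le_of_le hle).trans ?_
    rw [← hB.1.2, ← Nat.card_prod]
    have hn : B ≤ normalizer (D0 : Set P) := le_normalizer_iff.2 fun a ha d hd => by
      have : d ∈ sSup (sig p act T q) := (hD0 ▸ sSup_le_sSup Set.diff_subset : D0 ≤ sSup (sig p act T q)) hd
      rw [hEx.el.comm a (le_sSup hB ha) d this, mul_inv_cancel_right]; exact hd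
    refine Nat.card_le_card_of_surjective
      (fun x : B × D0 => (⟨x.1 * x.2, mul_mem (mem_sup_left x.1.2) (mem_sup_right x.2.2)⟩ : ↥(B ⊔ D0))) ?_
    rintro ⟨x, hx⟩
    rw [← SetLike.mem_coe, coe_mul_of_left_le_normalizer_right B D0 hn] at hx
    obtain ⟨a, ha, d, hd, rfl⟩ := hx
    exact ⟨(⟨a, ha⟩, ⟨d, hd⟩), rfl⟩
  have hfD : Nat.card (fD p act T q B) ≤ q * Nat.card (fE p act T q) := by
    have e1 := hEx0.eq
    have e2 := hEx.eq
    rw [meas] at e1 e2
    refine Nat.le_of_mul_le_mul_left ?_ (Nat.card_pos : 0 < Nat.card D0)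
    rw [show Nat.card D0 * Nat.card (fD p act T q B) = Nat.card U by rw [hD0]; exact e1, ← e2,
      ← mul_assoc, mul_comm (Nat.card D0) q]
    exact Nat.mul_le_mul_right _ hcardE
  obtain ⟨hduo, -⟩ := hp.duo hP hB.1.1 hl hne
  obtain ⟨v, hv, hv'⟩ := hduo.exists_out
  have hw : ∀ w ∈ fE p act T q, act l w ∈ fix act (cj l B) := fun w hw =>
    act_fix_cj (fix_anti act (le_sSup hB) hw)
  have hlow : q * Nat.card (fE p act T q) ≤ Nat.card S := by
    refine le_of_eq_of_le (show q * Nat.card (fE p act T q) = Nat.card (B × fE p act T q) by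
      rw [Nat.card_prod, hB.1.2]) ?_
    refine Nat.card_le_card_of_injective
      (fun x : B × fE p act T q => (⟨(act (x.1 : P) v - v) + act l (x.2 : U), hS ▸
        AddSubgroup.add_mem_sup (sub_mem_fE hP hB x.1.2 v) ⟨x.2, x.2.2, rfl⟩⟩ : S)) ?_
    rintro ⟨⟨b, hb⟩, ⟨w, hw1⟩⟩ ⟨⟨b', hb'⟩, ⟨w', hw1'⟩⟩ e
    have e1 : (act b v - v) + act l w = (act b' v - v) + act l w' := congrArg Subtype.val e
    have e2 : act b v - act b' v = act l w' - act l w := by
      rw [show act b v - act b' v = ((act b v - v) + act l w) - ((act b' v - v) + act l w) by abel, e1]; abel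
    obtain rfl := hduo.inj hP hv hv' hb hb' (e2 ▸ sub_mem (hw w' hw1') (hw w hw1))
    rw [sub_self, eq_comm, sub_eq_zero] at e2
    obtain rfl := OffSL2.act_injective act l e2
    rfl
  have he := add_eq_of_card hSle (hfD.trans hlow)
  rw [← hS]
  exact ⟨he.symm, le_antisymm hfD (he ▸ hlow)⟩

/-- The spaces fixed by all atoms but one span the space. -/
theorem AtSys.span (h : AtSys p act T M q L) :
    fE p act T q ⊔ (⨆ B ∈ sig p act T q, fD p act T q B) = ⊤ := by
  classical
  suffices ∀ s : Finset (Subgroup P), (∀ B ∈ s, B ∈ sig p act T q) →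
      fix act (sSup (sig p act T q \ (s : Set (Subgroup P)))) ≤
        fE p act T q ⊔ ⨆ B ∈ sig p act T q, fD p act T q B by
    refine top_le_iff.1 (le_trans ?_ (this (Set.toFinite (sig p act T q)).toFinset fun B hB =>
      (Set.Finite.mem_toFinset _).1 hB))
    rw [Set.Finite.coe_toFinset, Set.diff_self, sSup_empty, fix_bot]
  intro s hs
  induction s using Finset.induction_on with
  | empty => rw [Finset.coe_empty, Set.diff_empty]; exact le_sup_left
  | insert B0 s hB0 ih =>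
    have hB0s := hs B0 (Finset.mem_insert_self _ _)
    have ih' := ih fun B hB => hs B (Finset.mem_insert_of_mem hB)
    obtain ⟨X, hX⟩ : ∃ X, X = sSup (sig p act T q \ ↑(insert B0 s)) := ⟨_, rfl⟩
    obtain ⟨Y, hY⟩ : ∃ Y, Y = sSup (sig p act T q \ (s : Set (Subgroup P))) := ⟨_, rfl⟩
    rw [← hY] at ih'
    rw [← hX]
    have hY0 : B0 ≤ Y := hY ▸ le_sSup ⟨hB0s, fun e => hB0 e⟩
    have hXY : X ≤ Y := by
      rw [hX, hY]; exact sSup_le_sSup (Set.diff_subset_diff_right (by simp))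
    have hexX := (exact_sSup hP (S := sig p act T q \ ↑(insert B0 s)) (fun Z hZ => hZ.1.1.1)
      fun Z hZ Z' hZ' => sig_comm hP Z hZ.1 Z' hZ'.1).1
    have hexY := (exact_sSup hP (S := sig p act T q \ (s : Set (Subgroup P))) (fun Z hZ => hZ.1.1.1)
      fun Z hZ Z' hZ' => sig_comm hP Z hZ.1 Z' hZ'.1).1
    rw [← hX] at hexX
    rw [← hY] at hexY
    obtain ⟨l, hl, hne⟩ := (h.pairs.pair B0 hB0s).moves
    obtain ⟨-, hcD⟩ := h.fD_eq hP hB0s hl hne
    have hDX : fD p act T q B0 ≤ fix act X := hX ▸ fix_anti act (sSup_le_sSup fun Z hZ =>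
      ⟨hZ.1, fun e => hZ.2 (by rw [Set.mem_singleton_iff.1 e]; simp)⟩)
    have hinf : fix act Y ⊓ fD p act T q B0 ≤ fE p act T q := fun v hv => mem_fix_sSup.2 fun Z hZ => by
      by_cases hZB : Z = B0
      · subst hZB; exact fix_anti act hY0 hv.1
      · exact fix_anti act (le_sSup (show Z ∈ sig p act T q \ {B0} from ⟨hZ, hZB⟩)) hv.2
    have hYcard : Nat.card Y ≤ q * Nat.card X := by
      have hle : Y ≤ B0 ⊔ X := by
        rw [hY]
        refine sSup_le fun Z hZ => ?_
        by_cases hZB : Z = B0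
        · subst hZB; exact le_sup_left
        · refine (le_trans ?_ le_sup_right : Z ≤ B0 ⊔ X)
          rw [hX]; exact le_sSup ⟨hZ.1, by simpa [hZB] using hZ.2⟩
      refine (Subgroup.card_le_of_le hle).trans ?_
      rw [← hB0s.1.2, ← Nat.card_prod]
      have hn : B0 ≤ normalizer (X : Set P) := le_normalizer_iff.2 fun a ha d hd => by
        rw [hexY.el.comm a (hY0 ha) d (hXY hd), mul_inv_cancel_right]; exact hd
      refine Nat.card_le_card_of_surjective
        (fun x : B0 × X => (⟨x.1 * x.2, mul_mem (mem_sup_left x.1.2) (mem_sup_right x.2.2)⟩ : ↥(B0 ⊔ X))) ?_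
      rintro ⟨x, hx⟩
      rw [← SetLike.mem_coe, coe_mul_of_left_le_normalizer_right B0 X hn] at hx
      obtain ⟨a, ha, d, hd, rfl⟩ := hx
      exact ⟨(⟨a, ha⟩, ⟨d, hd⟩), rfl⟩
    have hfX : Nat.card (fix act X) ≤ q * Nat.card (fix act Y) := by
      have e1 := hexX.eq
      have e2 := hexY.eq
      rw [meas] at e1 e2
      refine Nat.le_of_mul_le_mul_left ?_ (Nat.card_pos : 0 < Nat.card X)
      rw [e1, ← e2, ← mul_assoc, mul_comm (Nat.card X) q]
      exact Nat.mul_le_mul_right _ hYcard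
    have hcs := CfsgLib.LocalEven.OffSL2.card_sup_mul_inf (fix act Y) (fD p act T q B0)
    have hi := AddSubgroup.card_le_of_le hinf
    have hge : Nat.card (fix act X) ≤ Nat.card ↥(fix act Y ⊔ fD p act T q B0) := by
      refine Nat.le_of_mul_le_mul_right ?_ (Nat.card_pos : 0 < Nat.card (fE p act T q))
      calc Nat.card (fix act X) * Nat.card (fE p act T q) ≤ q * Nat.card (fix act Y) * Nat.card (fE p act T q) :=
            Nat.mul_le_mul_right _ hfX
        _ = Nat.card (fix act Y) * Nat.card (fD p act T q B0) := by rw [hcD]; ring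
        _ = Nat.card ↥(fix act Y ⊔ fD p act T q B0) * Nat.card ↥(fix act Y ⊓ fD p act T q B0) := hcs.symm
        _ ≤ _ := Nat.mul_le_mul_left _ hi
    rw [← add_eq_of_card (sup_le (fix_anti act hXY) hDX) hge]
    exact sup_le ih' (le_trans (le_biSup (fun B => fD p act T q B) hB0s) le_sup_right)

/-- The centraliser in `T` of the fixed space is the group of the atoms. -/
theorem AtSys.centralizer_fE (h : AtSys p act T M q L) {t : P} (ht : t ∈ T)
    (hfix : ∀ v ∈ fE p act T q, act t v = v) : t ∈ sSup (sig p act T q) := by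
  classical
  suffices ∀ s : Finset (Subgroup P), (∀ B ∈ s, B ∈ sig p act T q) →
      ∃ e ∈ sSup (sig p act T q), ∀ B ∈ s, ∀ l ∈ L B, e * t * l = l * (e * t) by
    obtain ⟨e, he, hall⟩ := this (Set.toFinite (sig p act T q)).toFinset fun B hB => (Set.Finite.mem_toFinset _).1 hB
    have hkE : ∀ v ∈ fE p act T q, act (e * t) v = v := fun v hv => by
      rw [OffSL2.act_mul, hfix v hv, hv e he]
    have hle : fE p act T q ⊔ (⨆ B ∈ sig p act T q, fD p act T q B) ≤ fix act (zpowers (e * t)) := by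
      have hfk : ∀ {v : U}, act (e * t) v = v → v ∈ fix act (zpowers (e * t)) := fun {v} hv a ha =>
        (zpowers_le.2 hv : zpowers (e * t) ≤ stabV act v) ha
      refine sup_le (fun v hv => hfk (hkE v hv)) (iSup₂_le fun B hB => ?_)
      obtain ⟨l, hl, hne⟩ := (h.pairs.pair B hB).moves
      rw [(h.fD_eq hP hB hl hne).1]
      refine sup_le (fun v hv => hfk (hkE v hv)) ?_
      rintro _ ⟨v, hv, rfl⟩
      refine hfk ?_
      show act (e * t) (act l v) = act l v
      rw [← OffSL2.act_mul, hall B ((Set.Finite.mem_toFinset _).2 hB) l hl, OffSL2.act_mul, hkE v hv]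
    have h1 : e * t = 1 := hP.inj (AddMonoidHom.ext fun u => by
      show act (e * t) u = act 1 u
      rw [OffSL2.act_one]
      exact (h.span hP ▸ hle) (AddSubgroup.mem_top u) _ (mem_zpowers _))
    rw [eq_inv_of_mul_eq_one_right h1]
    exact inv_mem he
  intro s hs
  induction s using Finset.induction_on with
  | empty => exact ⟨1, one_mem _, by simp⟩
  | insert B0 s hB0 ih =>
    obtain ⟨e, he, hall⟩ := ih fun B hB => hs B (Finset.mem_insert_of_mem hB)
    have hB0s := hs B0 (Finset.mem_insert_self _ _)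
    obtain ⟨b, hb, hbl⟩ := h.fix_pair hP (T.mul_mem (sSup_sig_le he) ht)
      (fun v hv => by rw [OffSL2.act_mul, hfix v hv, hv e he]) hB0s
    refine ⟨b * e, mul_mem (le_sSup hB0s hb) he, fun B hB l hl => ?_⟩
    rcases Finset.mem_insert.1 hB with rfl | hB'
    · rw [mul_assoc b e t]; exact hbl l hl
    · have hne : B0 ≠ B := fun e' => hB0 (e' ▸ hB')
      have h1 := (h.pairs.other B (hs B hB) B0 hB0s hne).1 b hb l hl
      rw [mul_assoc b e t, mul_assoc, hall B hB' l hl, ← mul_assoc, h1, mul_assoc]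

/-- The subgroup spanned by the pairs. -/
def lhat (p : ℕ) (act : P →* AddMonoid.End U) (T : Subgroup P) (q : ℕ) (L : Subgroup P → Subgroup P) :
    Subgroup P := ⨆ B ∈ sig p act T q, L B

omit hP in
theorem le_lhat {B : Subgroup P} (hB : B ∈ sig p act T q) : L B ≤ lhat p act T q L :=
  le_biSup (fun B => L B) hB

/-- The pairs generate a normal subgroup covering `P` over `T` and containing all atoms. -/
theorem AtSys.lhat_normal (h : AtSys p act T M q L) :
    (∀ g : P, ∀ n ∈ lhat p act T q L, g * n * g⁻¹ ∈ lhat p act T q L) ∧ lhat p act T q L ⊔ T = ⊤ ∧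
      ∀ Z, Atom p act Z → Z ≤ lhat p act T q L := by
  obtain ⟨N, hN⟩ : ∃ N, N = lhat p act T q L := ⟨_, rfl⟩
  rw [← hN]
  obtain ⟨B0, hB0⟩ := h.ne
  have hnM : ¬ N ≤ M := fun hle => (h.pairs.pair B0 hB0).notM ((hN ▸ le_lhat hB0 : L B0 ≤ N).trans hle)
  have hT : T ≤ normalizer (N : Set P) := fun t ht => mem_normalizer_of_conj (cj_le.1 (by
    rw [hN]
    refine map_le_iff_le_comap.2 (iSup₂_le fun B hB => map_le_iff_le_comap.1 ?_)
    exact (h.equiv hP ht hB).2.ge.trans (le_lhat (h.equiv hP ht hB).1)))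
  have htop : normalizer (N : Set P) = ⊤ := by
    by_contra hne
    exact hnM (le_normalizer.trans (hP.pmin _ hT hne))
  have hnorm : ∀ g : P, ∀ n ∈ N, g * n * g⁻¹ ∈ N := fun g n hn =>
    (mem_normalizer_iff.1 (htop.ge (mem_top g)) n).1 hn
  refine ⟨hnorm, ?_, fun Z hZ => atom_le_normal hP hnorm hB0.1.1.toExact hB0.1.1.ne
    ((h.pairs.pair B0 hB0).le.trans (hN ▸ le_lhat hB0)) hZ⟩
  by_contra hne
  exact hnM (le_sup_left.trans (hP.pmin _ le_sup_right hne))

end CfsgLib.LocalEven.PMinPush
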