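import Cfsg.Agent.Lib.LocalEven.PMinPush.Quot

/-!
# The blocks when the atoms have at least three elements
-/

set_option autoImplicit false
set_option linter.all false

namespace CfsgLib.LocalEven.PMinPush

open Subgroup Cfsg CfsgLib.LocalEven.OffSL2 CfsgLib.LocalEven.PMinFF
open CfsgLib.LocalEvenB.SubBlocks (IsSubBlock)
open scoped IsMulCommutative commutatorElement

/-- An alternating group of odd degree that is a derived `SL₂` of a field with at least three elements has degree five. -/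
theorem alt_degree {p : ℕ} [Fact p.Prime] {F : Type*} [Field F] [Fintype F] [CharP F p] (h3 : 3 ≤ Fintype.card F)
    {m : ℕ} (e : ↥(commutator (Matrix.SpecialLinearGroup (Fin 2) F)) ≃* ↥(alternatingGroup (Fin (2 * m + 1)))) :
    m = 2 := by
  classical
  obtain ⟨a, ha, b, hb, hab⟩ := sl2_res_not_comm (p := p) (F := F) h3
  rw [pResidual_SL2] at ha hb
  obtain ⟨a', ha'⟩ : ∃ a', a' = e ⟨a, ha⟩ := ⟨_, rfl⟩
  obtain ⟨b', hb'⟩ : ∃ b', b' = e ⟨b, hb⟩ := ⟨_, rfl⟩
  have hne : a' * b' ≠ b' * a' := fun h => hab (by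
    rw [ha', hb', ← map_mul, ← map_mul] at h
    exact congrArg Subtype.val (e.injective h))
  by_contra hm2
  rcases Nat.lt_or_ge m 3 with hm | hm
  · interval_cases m
    · haveI : Subsingleton (Equiv.Perm (Fin (2 * 0 + 1))) := by
        show Subsingleton (Equiv.Perm (Fin 1)); infer_instance
      exact hne (Subsingleton.elim _ _)
    · refine hne ?_
      have h3' : Nat.card ↥(alternatingGroup (Fin (2 * 1 + 1))) = 3 := by
        rw [nat_card_alternatingGroup]; simp [Nat.factorial]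
      haveI : Fact (Nat.Prime 3) := ⟨by norm_num⟩
      haveI := isCyclic_of_prime_card h3'
      haveI := IsCyclic.commutative (α := ↥(alternatingGroup (Fin (2 * 1 + 1))))
      exact mul_comm' a' b'
    · exact hm2 rfl
  by_cases hp : p = 2
  · subst hp
    obtain ⟨σ, hσ⟩ : ∃ σ : Equiv.Perm (Fin (2 * m + 1)), σ = Equiv.swap ⟨0, by omega⟩ ⟨1, by omega⟩ *
        Equiv.swap ⟨1, by omega⟩ ⟨2, by omega⟩ * Equiv.swap ⟨2, by omega⟩ ⟨3, by omega⟩ *
        Equiv.swap ⟨4, by omega⟩ ⟨5, by omega⟩ := ⟨_, rfl⟩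
    have hsign : σ ∈ alternatingGroup (Fin (2 * m + 1)) := by
      rw [Equiv.Perm.mem_alternatingGroup, hσ, map_mul, map_mul, map_mul, Equiv.Perm.sign_swap (by simp),
        Equiv.Perm.sign_swap (by simp), Equiv.Perm.sign_swap (by simp), Equiv.Perm.sign_swap (by simp)]
      rfl
    have h4 : σ ^ 4 = 1 := by
      ext i
      rw [hσ]
      simp only [pow_succ, pow_zero, one_mul, Equiv.Perm.coe_mul, Function.comp_apply, Equiv.Perm.coe_one, id_eq,
        Equiv.swap_apply_def, Fin.ext_iff]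
      by_cases h0 : (i : ℕ) = 0
      · simp [h0]
      by_cases h1 : (i : ℕ) = 1
      · simp [h1]
      by_cases h2 : (i : ℕ) = 2
      · simp [h2]
      by_cases h3 : (i : ℕ) = 3
      · simp [h3]
      by_cases h4 : (i : ℕ) = 4
      · simp [h4]
      by_cases h5 : (i : ℕ) = 5
      · simp [h5]
      simp [h0, h1, h2, h3, h4, h5]
    have h2 : σ ^ 2 ≠ 1 := fun h => by
      have := congrArg (fun π : Equiv.Perm (Fin (2 * m + 1)) => ((π ⟨0, by omega⟩ : Fin (2 * m + 1)) : ℕ)) h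
      rw [hσ] at this
      simp [pow_two, Equiv.swap_apply_def, Fin.ext_iff] at this
    obtain ⟨g, hg⟩ := e.surjective ⟨σ, hsign⟩
    refine h2 ?_
    have hg4 : (g : Matrix.SpecialLinearGroup (Fin 2) F) ^ 4 = 1 := by
      rw [← Subgroup.coe_pow]
      have : g ^ 4 = 1 := e.injective (by rw [map_pow, hg, map_one]; exact Subtype.ext h4)
      rw [this]; rfl
    have hg2 : g ^ 2 = 1 := Subtype.ext (sl2_char_two_exp hg4)
    have := congrArg e hg2
    rw [map_pow, hg, map_one] at this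
    exact congrArg Subtype.val this
  · obtain ⟨z, hz, hz1, hzc⟩ := sl2_res_central (p := p) (F := F) hp
    rw [pResidual_SL2] at hz
    have hcen : e ⟨z, hz⟩ ∈ Subgroup.center ↥(alternatingGroup (Fin (2 * m + 1))) :=
      Subgroup.mem_center_iff.2 fun g => by
        obtain ⟨g, rfl⟩ := e.surjective g
        rw [← map_mul, ← map_mul]
        exact congrArg e (Subtype.ext (hzc g))
    rw [alternatingGroup.center_eq_bot (by simp; omega), Subgroup.mem_bot, ← map_one e] at hcen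
    exact hz1 (congrArg Subtype.val (e.injective hcen))

variable {G : Type*} [Group G] [Finite G] {p : ℕ} [Fact p.Prime]
variable {P : Type*} [Group P] [Finite P] {T : Sylow p G} {M : Subgroup G} {mk : G →* P}
variable {V : Subgroup G} [IsMulCommutative V] {act : P →* AddMonoid.End (Additive ↥V)} {y : Additive ↥V}
variable {q : ℕ} {L : Subgroup P → Subgroup P} {X : Subgroup P → Subgroup G}
variable (h : Ctx p T M mk V act y) (hA : AtSys p act ((T : Subgroup G).map mk) (M.map mk) q L)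
variable (hX : LocFam p T mk V act q L X) (hq : 3 ≤ q)
include h hA hX hq

/-- The pairs of distinct atoms commute. -/
theorem Ctx.big_commute {B D : Subgroup P} (hB : B ∈ sig p act ((T : Subgroup G).map mk) q)
    (hD : D ∈ sig p act ((T : Subgroup G).map mk) q) (hne : D ≠ B) :
    (∀ a ∈ L B, ∀ b ∈ L D, a * b = b * a) ∧ img act (L B) ≤ fix act (L D) := by
  have hgen : ∀ {B D : Subgroup P}, B ∈ sig p act ((T : Subgroup G).map mk) q →
      D ∈ sig p act ((T : Subgroup G).map mk) q → D ≠ B → ∀ l ∈ L B, ∀ b ∈ L D, ∀ a ∈ PMinFF.cj l B, a * b = b * a := by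
    intro B D hB hD hne l hl b hb a ha
    obtain ⟨m, hm, hmne⟩ := (hA.pairs.pair D hD).moves
    rw [← (hA.pairs.pair D hD).gen2 m hm hmne] at hb
    refine commute_of_gen (fun d hd => pairs_commute h.pm hA.pairs hq hB hD hne hl (one_mem _) a ha d ?_)
      (fun d hd => pairs_commute h.pm hA.pairs hq hB hD hne hl hm a ha d hd) b hb
    rwa [PMinFF.cj_one]
  obtain ⟨l, hl, hlne⟩ := (hA.pairs.pair B hB).moves
  have hcomm : ∀ a ∈ L B, ∀ b ∈ L D, a * b = b * a := fun a ha b hb => by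
    have ha' := (hA.pairs.pair B hB).gen2 l hl hlne ▸ ha
    refine (commute_of_gen (fun c hc => (hgen hB hD hne 1 (one_mem _) b hb c ?_).symm)
      (fun c hc => (hgen hB hD hne l hl b hb c hc).symm) a ha').symm
    rwa [PMinFF.cj_one]
  refine ⟨hcomm, (AddSubgroup.closure_le _).2 ?_⟩
  rintro _ ⟨e, he, u, rfl⟩
  have hst : ∀ a ∈ L B, ∀ v ∈ fix act (L D), act a v ∈ fix act (L D) := fun a ha v hv d hd => by
    rw [← OffSL2.act_mul, ← hcomm a ha d hd, OffSL2.act_mul, hv d hd]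
  let K : Subgroup P :=
    { carrier := {x | x ∈ L B ∧ ∀ v, act x v - v ∈ fix act (L D)}
      one_mem' := ⟨one_mem _, fun v => by rw [OffSL2.act_one, sub_self]; exact zero_mem _⟩
      mul_mem' := fun {a b} ha hb => ⟨mul_mem ha.1 hb.1, fun v => by
        rw [OffSL2.act_mul, show act a (act b v) - v = (act a (act b v) - act b v) + (act b v - v) by abel]
        exact add_mem (ha.2 _) (hb.2 _)⟩
      inv_mem' := fun {a} ha => ⟨inv_mem ha.1, fun v => by
        have := ha.2 (act a⁻¹ v)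
        rw [OffSL2.act_inv'] at this
        rw [← neg_sub]; exact neg_mem this⟩ }
  have hB' : B ≤ K := fun b hb => ⟨(hA.pairs.pair B hB).le hb, (hA.pairs.other D hD B hB (Ne.symm hne)).2 b hb⟩
  have hle : L B ≤ K := by
    conv_lhs => rw [← (hA.pairs.pair B hB).gen2 l hl hlne]
    refine sup_le hB' ?_
    rintro _ ⟨b, hb, rfl⟩
    refine ⟨mul_mem (mul_mem hl ((hA.pairs.pair B hB).le hb)) (inv_mem hl), fun v => ?_⟩
    have h1 := hst l hl _ ((hB' hb).2 (act l⁻¹ v))
    rw [map_sub, OffSL2.act_inv', ← OffSL2.act_mul, ← OffSL2.act_mul] at h1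
    exact h1
  exact (hle he).2 u

/-- Everything over the pairs normalises each local block. -/
theorem Ctx.big_norm {B : Subgroup P} (hB : B ∈ sig p act ((T : Subgroup G).map mk) q) :
    (lhat p act ((T : Subgroup G).map mk) q L).comap mk ≤ normalizer (X B : Set G) := by
  obtain ⟨N, hN⟩ : ∃ N, N = normalizer (X B : Set G) := ⟨_, rfl⟩
  rw [← hN]
  have hk : mk.ker ≤ N := hN ▸ (hX B hB).ker_norm
  have hle : lhat p act ((T : Subgroup G).map mk) q L ≤ N.map mk := iSup₂_le fun D hD => by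
    refine (pair_res_sup h.pm (hA.pairs.pair D hD) hD.1.1).ge.trans (sup_le ?_ ?_)
    · refine (hX D hD).image.ge.trans (map_mono ?_)
      by_cases hDB : D = B
      · subst hDB; exact hN ▸ le_normalizer
      refine fun x hx => hN ▸ CfsgLib.LocalEven.BlockCent.centralizer_le_normalizer_block h.hG T (hX B hB).block
        (mem_centralizer_iff.2 fun z hz => ?_)
      obtain ⟨v, hv, rfl⟩ := (hX B hB).bM_img hz
      have h1 : v ∈ img act (pResidualOf p (L B)) := hv
      have hle : img act (pResidualOf p (L B)) ≤ img act (L B) := by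
        refine (AddSubgroup.closure_le _).2 ?_
        rintro _ ⟨a, ha, u, rfl⟩
        exact mem_img (res_le (L B) ha) u
      have h2 := (h.big_commute hA hX hq hB hD hDB).2 (hle h1) (mk x) (res_le (L D) ((hX D hD).image.le ⟨x, hx, rfl⟩))
      exact (h.fix_iff.1 h2).symm
    · refine ((le_sSup hD).trans (h.baumann_image hA).ge).trans (map_mono ?_)
      exact hN ▸ (hX B hB).baumann_norm
  refine (comap_mono hle).trans ?_
  rw [comap_map_eq]
  exact sup_le le_rfl hk

theorem Ctx.big_sub {B : Subgroup P} (hB : B ∈ sig p act ((T : Subgroup G).map mk) q) :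
    IsBaumannBlock p (T : Subgroup G) (X B) ∧ (X B).IsSubnormal := by
  obtain ⟨hn, -, -⟩ := hA.lhat_normal h.pm
  haveI : (lhat p act ((T : Subgroup G).map mk) q L).Normal := ⟨fun n hn' g => hn g n hn'⟩
  refine ⟨(hX B hB).block, Subgroup.IsSubnormal.step _ ((lhat p act ((T : Subgroup G).map mk) q L).comap mk) ?_
    (Subgroup.Normal.isSubnormal inferInstance) ?_⟩
  · exact map_le_iff_le_comap.1 ((hX B hB).image.le.trans ((res_le _).trans (le_lhat hB)))
  · exact (normal_subgroupOf_iff_le_normalizer (map_le_iff_le_comap.1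
      ((hX B hB).image.le.trans ((res_le _).trans (le_lhat hB))))).2 (h.big_norm hA hX hq hB)

theorem Ctx.big_conj {B : Subgroup P} (hB : B ∈ sig p act ((T : Subgroup G).map mk) q) (g : G) :
    ∃ D ∈ sig p act ((T : Subgroup G).map mk) q, (X B).map (MulAut.conj g).toMonoidHom = X D := by
  obtain ⟨hn, htop, -⟩ := hA.lhat_normal h.pm
  haveI : (lhat p act ((T : Subgroup G).map mk) q L).Normal := ⟨fun n hn' g => hn g n hn'⟩
  have hg : g ∈ (T : Subgroup G) ⊔ (lhat p act ((T : Subgroup G).map mk) q L).comap mk := by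
    have h1 : mk g ∈ lhat p act ((T : Subgroup G).map mk) q L ⊔ (T : Subgroup G).map mk := htop.ge (mem_top _)
    rw [sup_comm] at h1
    obtain ⟨_, ⟨t, ht, rfl⟩, x, hx, e⟩ := mem_sup_of_normal_right.1 h1
    rw [show g = t * (t⁻¹ * g) by group]
    refine mul_mem_sup ht ?_
    show mk (t⁻¹ * g) ∈ lhat p act ((T : Subgroup G).map mk) q L
    rw [map_mul, map_inv, ← e, inv_mul_cancel_left]; exact hx
  obtain ⟨t, ht, n, hn', rfl⟩ := mem_sup_of_normal_right.1 hg
  have e1 : (X B).map (MulAut.conj (t * n)).toMonoidHom = (X B).map (MulAut.conj t).toMonoidHom := by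
    change PMinFF.cj (t * n) (X B) = PMinFF.cj t (X B)
    rw [← PMinFF.cj_cj, PMinFF.cj_eq_self (h.big_norm hA hX hq hB hn')]
  obtain ⟨hD, hLD⟩ := hA.equiv h.pm (⟨t, ht, rfl⟩ : mk t ∈ (T : Subgroup G).map mk) hB
  refine ⟨_, hD, ?_⟩
  rw [e1]
  obtain ⟨hb, hs⟩ := h.big_sub hA hX hq hB
  obtain ⟨hb', hs'⟩ := h.big_sub hA hX hq hD
  refine (CfsgLib.LocalEvenB.SubBlocks.sub_blocks_eq_or_commute h.hG
    (CfsgLib.LocalEvenB.SubBlocks.isSubBlock_conj ⟨⟨T, hb⟩, hs⟩ t) ⟨⟨T, hb'⟩, hs'⟩).resolve_right fun hc => ?_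
  have himg : ((X B).map (MulAut.conj t).toMonoidHom).map mk = pResidualOf p (L (PMinFF.cj (mk t) B)) := by
    rw [hLD, ← res_map, ← (hX B hB).image, map_map, map_map]
    congr 1
    ext x
    simp
  obtain ⟨a, ha, b, hb2, hab⟩ := pair_res_not_comm h.pm (hA.pairs.pair _ hD) hD.1.1 (hD.1.2 ▸ hq)
  obtain ⟨a', ha', rfl⟩ := himg.ge ha
  obtain ⟨b', hb'', rfl⟩ := (hX _ hD).image.ge hb2
  refine hab ?_
  rw [← map_mul, ← map_mul, commutatorElement_eq_one_iff_mul_comm.1 (Subgroup.mem_bot.1 (hc.le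
    (commutator_mem_commutator ha' hb'')))]

/-- An element of a local block lies in `M` exactly when it lies in `C*`. -/
theorem Ctx.big_inter {B : Subgroup P} (hB : B ∈ sig p act ((T : Subgroup G).map mk) q) {x : G} (hx : x ∈ X B) :
    x ∈ cStarOf p (T : Subgroup G) ↔ x ∈ M := by
  refine ⟨fun h1 => h.cStar_le_M h1, fun h1 => h.norm_baumann_le_cStar hA hX ((hX B hB).norm x hx ?_)⟩
  refine Subgroup.eq_of_le_of_card_ge (map_le_iff_le_comap.2 (sSup_le fun D hD => map_le_iff_le_comap.1 ?_))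
    (PMinFF.card_cj _ _).ge
  refine le_sSup (atom_M_mem_sig h.pm hA.pairs hq (hD.1.cj (mk x)) ?_)
  exact PMinFF.cj_le_of_mem (h.mem_M_iff.2 h1) (hD.2.trans h.pm.TM)

set_option synthInstance.maxHeartbeats 200000 in
set_option maxHeartbeats 1000000 in
theorem Ctx.big_case {B : Subgroup P} (hB : B ∈ sig p act ((T : Subgroup G).map mk) q) :
    (∃ (F : Type) (_ : Field F) (_ : Fintype F) (m : ℕ), 3 < p ^ m ∧ Fintype.card F = p ^ m ∧
          Nonempty (↥(X B) ⧸ pCore p ↥(X B) ≃* Matrix.SpecialLinearGroup (Fin 2) F) ∧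
          cStarOf p (T : Subgroup G) ⊓ X B = X B ⊓ normalizer (((T : Subgroup G) ⊓ X B : Subgroup G) : Set G)) ∨
      (p = 3 ∧ Nonempty (↥(X B) ⧸ pCore p ↥(X B) ≃* ↥(commutator (Matrix.SpecialLinearGroup (Fin 2) (ZMod 3)))) ∧
          ((cStarOf p (T : Subgroup G) ⊓ X B).subgroupOf (X B)).map (QuotientGroup.mk' (pCore p ↥(X B))) =
            Subgroup.center (↥(X B) ⧸ pCore p ↥(X B))) := by
  have hp := hA.pairs.pair B hB
  obtain ⟨e, he⟩ := quot_equiv (p := p) mk (hX B hB).inter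
  obtain ⟨n, hn, hqn⟩ := exists_q_pow h.pm hB.1.1
  obtain ⟨F, iF, iFF, iC, eF, hF, -, ⟨eres⟩⟩ := pair_iso h.pm hp hB.1.1
  have hEle : sSup (sig p act ((T : Subgroup G).map mk) q) ≤ M.map mk := sSup_sig_le.trans h.pm.TM
  have hfixE : ∀ z ∈ L B, PMinFF.cj z B = B →
      PMinFF.cj z (sSup (sig p act ((T : Subgroup G).map mk) q)) = sSup (sig p act ((T : Subgroup G).map mk) q) := by
    intro z hz hzB
    refine Subgroup.eq_of_le_of_card_ge (PMinFF.cj_le.2 fun a ha => ?_) (PMinFF.card_cj _ _).ge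
    obtain ⟨d, hd, b, hb, rfl⟩ := hA.mem_E h.pm hB ha
    rw [show z * (d * b) * z⁻¹ = d * (z * b * z⁻¹) by
      rw [← mul_assoc z d b, ← hA.others_commute h.pm hB d hd z hz]; group]
    exact mul_mem ((sSup_le_sSup Set.diff_subset : sSup (sig p act ((T : Subgroup G).map mk) q \ {B}) ≤ _) hd)
      (le_sSup hB (hzB.le (PMinFF.conj_mem_cj hb)))
  have hM : ∀ z ∈ L B, PMinFF.cj z B = B → z ∈ M.map mk := fun z hz hzB =>
    mem_M_of_cj_le h.pm ⟨B, hB⟩ ((hfixE z hz hzB).le.trans sSup_sig_le)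
  have hnorm : ∀ z ∈ L B, z ∈ M.map mk → ∀ b ∈ B, z * b * z⁻¹ ∈ B := fun z hz hzM b hb => by
    refine (hA.sig_in_pair h.pm hB (D := PMinFF.cj z B) (atom_M_mem_sig h.pm hA.pairs hq (hB.1.cj z) ?_) ?_).le
      (PMinFF.conj_mem_cj hb)
    · exact PMinFF.cj_le_of_mem hzM (hB.2.trans h.pm.TM)
    · exact PMinFF.cj_le_of_mem hz hp.le
  by_cases h4 : 4 ≤ q
  · left
    have hperf := pair_res_eq h.pm hp hB.1.1 (hB.1.2.symm ▸ h4)
    refine ⟨F, iF, iFF, n, by rw [← hqn, hB.1.2]; omega, hF.trans hqn, ⟨?_⟩, ?_⟩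
    · exact (e.trans (MulEquiv.subgroupCongr (hX B hB).image)).trans ((eres.trans (MulEquiv.subgroupCongr
        ((CfsgLib.LocalEvenB.SubBlocks.sl2_quasisimple (F := F) (by rw [hF, hB.1.2]; exact h4)).2))).trans
        Subgroup.topEquiv)
    · have hTX : (T : Subgroup G) ⊓ X B = baumannSubgroupOf p (T : Subgroup G) ⊓ X B :=
        le_antisymm (le_inf (hX B hB).inter_T inf_le_right) (inf_le_inf_right _ h.baumann_le)
      refine le_antisymm (fun x hx => mem_inf.2 ⟨hx.2, ?_⟩) (fun x hx => mem_inf.2 ⟨(h.big_inter hA hX hq hB hx.1).2 ?_, hx.1⟩)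
      · rw [hTX]
        refine inf_normalizer_le_normalizer_inf ⟨(hX B hB).norm x hx.2 ?_, le_normalizer hx.2⟩
        have hxM := h.mem_M_iff.2 (h.cStar_le_M hx.1)
        have hxL : mk x ∈ L B := res_le (L B) ((hX B hB).image.le ⟨x, hx.2, rfl⟩)
        exact hfixE _ hxL (PMinFF.cj_eq_self (PMinFF.mem_normalizer_of_conj (hnorm _ hxL hxM)))
      · rw [← h.mem_M_iff]
        have hxL : mk x ∈ L B := res_le (L B) ((hX B hB).image.le ⟨x, hx.1, rfl⟩)
        refine hM _ hxL (PMinFF.cj_eq_self (PMinFF.mem_normalizer_of_conj fun b hb => ?_))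
        obtain ⟨a, ha, hab⟩ := (hX B hB).image.ge (hperf.ge (hp.le hb))
        have haT : a ∈ (T : Subgroup G) ⊓ X B :=
          ⟨h.baumann_le ((hX B hB).preimage a ha (hab ▸ le_sSup hB hb)), ha⟩
        have h2 := (mem_normalizer_iff.1 hx.2 a).1 haT
        have h3 := (h.baumann_image hA).le ⟨_, (hX B hB).inter_T h2, rfl⟩
        rw [map_mul, map_mul, map_inv, hab] at h3
        exact hA.inf_E h.pm hB h3 (mul_mem (mul_mem hxL (hp.le hb)) (inv_mem hxL))
  · right
    have hq3 : q = 3 := by omega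
    have hp3 : p = 3 := by
      rw [hB.1.2, hq3] at hqn
      have h2 : p ∣ 3 := hqn ▸ dvd_pow_self p (by omega : n ≠ 0)
      exact (Nat.prime_dvd_prime_iff_eq Fact.out (by norm_num : Nat.Prime 3)).1 h2
    have hB3 : Nat.card B = 3 := hB.1.2.trans hq3
    refine ⟨hp3, ?_, ?_⟩
    · obtain ⟨e3⟩ := pair_iso_three h.pm hp hB.1.1 hB3 hp3
      exact ⟨(e.trans (MulEquiv.subgroupCongr (hX B hB).image)).trans e3⟩
    · ext z
      constructor
      · rintro ⟨x, hx, rfl⟩
        rw [SetLike.mem_coe, mem_subgroupOf] at hx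
        refine Subgroup.mem_center_iff.2 fun w => e.injective ?_
        obtain ⟨w', rfl⟩ := QuotientGroup.mk'_surjective _ w
        rw [map_mul, map_mul]
        refine Subtype.ext ?_
        rw [Subgroup.coe_mul, Subgroup.coe_mul, he, he]
        have hxM := h.mem_M_iff.2 (h.cStar_le_M hx.1)
        have hxR : mk (x : G) ∈ pResidualOf p (L B) := (hX B hB).image.le ⟨x, hx.2, rfl⟩
        exact pair_three_commute h.pm hp hB.1.1 hB3 hp3 hxR (hnorm _ (res_le _ hxR) hxM) _
          (res_le (L B) ((hX B hB).image.le ⟨w', w'.2, rfl⟩))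
      · intro hz
        obtain ⟨x, rfl⟩ := QuotientGroup.mk'_surjective _ z
        refine ⟨x, mem_subgroupOf.2 ⟨(h.big_inter hA hX hq hB x.2).2 (h.mem_M_iff.1 ?_), x.2⟩, rfl⟩
        have hxR : mk (x : G) ∈ pResidualOf p (L B) := (hX B hB).image.le ⟨x, x.2, rfl⟩
        have hc : ∀ a ∈ pResidualOf p (L B), a * mk (x : G) = mk (x : G) * a := by
          intro a ha
          obtain ⟨w, hw, rfl⟩ := (hX B hB).image.ge ha
          have h1 := congrArg e (Subgroup.mem_center_iff.1 hz (QuotientGroup.mk' _ ⟨w, hw⟩))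
          rw [map_mul, map_mul] at h1
          have h2 := congrArg Subtype.val h1
          rwa [Subgroup.coe_mul, Subgroup.coe_mul, he, he] at h2
        refine hM _ (res_le _ hxR) (PMinFF.cj_eq_self (PMinFF.mem_normalizer_of_conj fun b hb => ?_))
        rw [← (pair_three h.pm hp hB.1.1 hB3 hp3 hxR).2 hc b (hp.le hb), mul_inv_cancel_right]
        exact hb

/-- The block structure when `q ≥ 3`. -/
theorem Ctx.big_structure : ∃ 𝓑 : Set (Subgroup G), HasBaumannBlockStructure p (T : Subgroup G) 𝓑 ∧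
      (∀ E ∈ 𝓑, ∀ m : ℕ, Nonempty (↥E ⧸ pCore p ↥E ≃* ↥(alternatingGroup (Fin (2 * m + 1)))) →
        ∃ n : ℕ, 2 * m + 1 = 2 ^ n + 1) ∧
      cStarOf p (T : Subgroup G) = (cStarOf p (T : Subgroup G) ⊓ sSup 𝓑) ⊔ (T : Subgroup G) := by
  classical
  obtain ⟨𝓑, h𝓑⟩ : ∃ 𝓑 : Set (Subgroup G), 𝓑 = X '' sig p act ((T : Subgroup G).map mk) q := ⟨_, rfl⟩
  have hmem : ∀ B ∈ sig p act ((T : Subgroup G).map mk) q, X B ∈ 𝓑 := fun B hB => h𝓑 ▸ ⟨B, hB, rfl⟩
  have hint : ∀ x ∈ sSup 𝓑, x ∈ cStarOf p (T : Subgroup G) →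
      x ∈ ⨆ E ∈ 𝓑, (cStarOf p (T : Subgroup G) ⊓ E) := by
    suffices ∀ s : Finset (Subgroup P), (∀ B ∈ s, B ∈ sig p act ((T : Subgroup G).map mk) q) →
        ∀ x ∈ ⨆ B ∈ s, X B, x ∈ M → x ∈ ⨆ E ∈ 𝓑, (cStarOf p (T : Subgroup G) ⊓ E) by
      intro x hx hxc
      refine this (Set.toFinite (sig p act ((T : Subgroup G).map mk) q)).toFinset
        (fun B hB => (Set.Finite.mem_toFinset _).1 hB) x ?_ (h.cStar_le_M hxc)
      refine (sSup_le ?_ : sSup 𝓑 ≤ _) hx
      rw [h𝓑]
      rintro _ ⟨B, hB, rfl⟩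
      exact le_iSup₂_of_le B ((Set.Finite.mem_toFinset _).2 hB) le_rfl
    intro s hs
    induction s using Finset.induction_on with
    | empty =>
      intro x hx _
      simp only [Finset.notMem_empty, iSup_false, iSup_bot, Subgroup.mem_bot] at hx
      rw [hx]; exact one_mem _
    | insert B s hBs ih =>
      intro x hx hxM
      have hB := hs B (Finset.mem_insert_self _ _)
      have hs' : ∀ D ∈ s, D ∈ sig p act ((T : Subgroup G).map mk) q := fun D hD => hs D (Finset.mem_insert_of_mem hD)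
      rw [Finset.iSup_insert] at hx
      have hnorm : (⨆ D ∈ s, X D) ≤ normalizer (X B : Set G) := iSup₂_le fun D hD =>
        (map_le_iff_le_comap.1 ((hX D (hs' D hD)).image.le.trans ((res_le _).trans (le_lhat (hs' D hD))))).trans
          (h.big_norm hA hX hq hB)
      rw [← SetLike.mem_coe, coe_mul_of_right_le_normalizer_left (X B) _ hnorm] at hx
      obtain ⟨a, ha, c, hc, rfl⟩ := hx
      have hcL : mk c ∈ centralizer (L B : Set P) := by
        have hle : (⨆ D ∈ s, X D).map mk ≤ centralizer (L B : Set P) := by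
          simp only [Subgroup.map_iSup]
          refine iSup₂_le fun D hD => (hX D (hs' D hD)).image.le.trans fun z hz => mem_centralizer_iff.2 fun l hl =>
            (h.big_commute hA hX hq hB (hs' D hD) (fun e => hBs (e ▸ hD))).1 l hl z (res_le _ hz)
        exact hle ⟨c, hc, rfl⟩
      have haM : a ∈ M := by
        rw [← h.mem_M_iff]
        have haL : mk a ∈ L B := res_le (L B) ((hX B hB).image.le ⟨a, ha, rfl⟩)
        have hp := hA.pairs.pair B hB
        have hnB : PMinFF.cj (mk a) B = B := by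
          have e : PMinFF.cj (mk (a * c)) B = PMinFF.cj (mk a) B := by
            rw [map_mul, ← PMinFF.cj_cj, PMinFF.cj_eq_self (x := mk c) (A := B) (PMinFF.mem_normalizer_of_conj fun b hb => by
              rw [← mem_centralizer_iff.1 hcL b (hp.le hb), mul_inv_cancel_right]; exact hb)]
          refine hA.sig_in_pair h.pm hB (atom_M_mem_sig h.pm hA.pairs hq (hB.1.cj _) ?_)
            (PMinFF.cj_le_of_mem haL hp.le)
          exact e ▸ PMinFF.cj_le_of_mem (h.mem_M_iff.2 hxM) (hB.2.trans h.pm.TM)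
        refine mem_M_of_cj_le h.pm ⟨B, hB⟩ (PMinFF.cj_le.2 fun z hz => ?_)
        obtain ⟨d, hd, b, hb, rfl⟩ := hA.mem_E h.pm hB hz
        rw [show mk a * (d * b) * (mk a)⁻¹ = d * (mk a * b * (mk a)⁻¹) by
          rw [← mul_assoc (mk a) d b, ← hA.others_commute h.pm hB d hd (mk a) haL]; group]
        exact mul_mem (sSup_sig_le ((sSup_le_sSup Set.diff_subset :
            sSup (sig p act ((T : Subgroup G).map mk) q \ {B}) ≤ sSup (sig p act ((T : Subgroup G).map mk) q)) hd))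
          (hB.2 (hnB.le (PMinFF.conj_mem_cj hb)))
      refine mul_mem (mem_iSup_of_mem (X B) (mem_iSup_of_mem (hmem B hB)
        ⟨(h.big_inter hA hX hq hB ha).2 haM, ha⟩)) (ih hs' c hc ?_)
      have := mul_mem (inv_mem haM) hxM
      rwa [inv_mul_cancel_left] at this
  obtain ⟨h1, h2⟩ := h.assemble hA hX (𝓑 := 𝓑)
    (fun E hE => by rw [h𝓑] at hE; obtain ⟨B, hB, rfl⟩ := hE; exact h.big_sub hA hX hq hB)
    (fun E hE g => by
      rw [h𝓑] at hE ⊢; obtain ⟨B, hB, rfl⟩ := hE
      obtain ⟨D, hD, e⟩ := h.big_conj hA hX hq hB g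
      exact ⟨D, hD, e.symm⟩)
    (fun B hB => ⟨_, hmem B hB, le_rfl⟩) hint
    (fun E hE => by
      rw [h𝓑] at hE; obtain ⟨B, hB, rfl⟩ := hE
      rcases h.big_case hA hX hq hB with hc | hc
      · exact Or.inl hc
      · exact Or.inr (Or.inr hc))
  refine ⟨𝓑, h1, fun E hE m hm => ?_, h2⟩
  rw [h𝓑] at hE
  obtain ⟨B, hB, rfl⟩ := hE
  obtain ⟨e1⟩ := hm
  obtain ⟨F, iF, iFF, iC, eF, hF, -, ⟨eres⟩⟩ := pair_iso h.pm (hA.pairs.pair B hB) hB.1.1
  obtain ⟨e, -⟩ := quot_equiv (p := p) mk (hX B hB).inter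
  refine ⟨2, ?_⟩
  rw [alt_degree (p := p) (F := F) (by rw [hF, hB.1.2]; exact hq)
    ((eres.symm.trans ((MulEquiv.subgroupCongr (hX B hB).image).symm.trans e.symm)).trans e1)]
  norm_num

end CfsgLib.LocalEven.PMinPush
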