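import Cfsg.Agent.Lib.LocalEven.PMinPush.Local
import Cfsg.Agent.Lib.LocalEven.SubBlock.Other
import Cfsg.Agent.Lib.LocalEvenB.SubnormalBlocks.Main

/-!
# What any family of subnormal blocks covering the local blocks gives
-/

set_option autoImplicit false
set_option linter.all false

namespace CfsgLib.LocalEven.PMinPush

open Subgroup Cfsg CfsgLib.LocalEven.OffSL2 CfsgLib.LocalEven.PMinFF
open CfsgLib.LocalEvenB.SubBlocks (IsSubBlock)
open scoped IsMulCommutative commutatorElement

variable {G : Type*} [Group G] [Finite G] {p : ℕ} [Fact p.Prime]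
variable {P : Type*} [Group P] [Finite P] {T : Sylow p G} {M : Subgroup G} {mk : G →* P}
variable {V : Subgroup G} [IsMulCommutative V] {act : P →* AddMonoid.End (Additive ↥V)} {y : Additive ↥V}
variable {q : ℕ} {L : Subgroup P → Subgroup P} {X : Subgroup P → Subgroup G}

/-- `O^p` of a pair and the atom generate it. -/
theorem pair_res_sup {U : Type*} [AddCommGroup U] [Finite U] {act : P →* AddMonoid.End U} {T M : Subgroup P}
    {y : U} (hP : PMod p act T M y) {B L0 : Subgroup P} (h : Pair act M B L0) (hB : Atom p act B) :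
    pResidualOf p L0 ⊔ B = L0 := by
  refine le_antisymm (sup_le (res_le L0) h.le) ?_
  let S : Sylow p ↥L0 := ⟨B.subgroupOf L0, hB.el.isPGroup.comap_subtype, fun {R} hR hle => by
    refine le_antisymm (fun x hx => ?_) hle
    have h1 := pair_pgroup_eq hP h hB (R := R.map L0.subtype) (fun s hs => ⟨⟨s, h.le hs⟩, hle hs, rfl⟩)
      (map_subtype_le R) (hR.map _)
    exact mem_subgroupOf.2 (h1.le ⟨x, hx, rfl⟩)⟩
  have h1 := congrArg (Subgroup.map L0.subtype) (CfsgLib.Transfer.pResidual_sup_sylow S)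
  rw [Subgroup.map_sup, ← MonoidHom.range_eq_map, range_subtype,
    show (S : Subgroup ↥L0).map L0.subtype = B from map_subgroupOf_eq_of_le h.le] at h1
  exact h1.ge

/-- A choice of local blocks. -/
def LocFam (p : ℕ) (T : Sylow p G) (mk : G →* P) (V : Subgroup G) [IsMulCommutative V]
    (act : P →* AddMonoid.End (Additive ↥V)) (q : ℕ) (L : Subgroup P → Subgroup P) (X : Subgroup P → Subgroup G) :
    Prop :=
  ∀ B ∈ sig p act ((T : Subgroup G).map mk) q,
    Loc p T mk V act (sSup (sig p act ((T : Subgroup G).map mk) q)) B (L B) (X B)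

variable (h : Ctx p T M mk V act y) (hA : AtSys p act ((T : Subgroup G).map mk) (M.map mk) q L)
include h hA

theorem Ctx.exists_fam : ∃ X : Subgroup P → Subgroup G, LocFam p T mk V act q L X := by
  classical
  exact ⟨fun B => if hB : B ∈ sig p act ((T : Subgroup G).map mk) q then (h.exists_loc hA hB).choose else ⊥,
    fun B hB => by simp only [dif_pos hB]; exact (h.exists_loc hA hB).choose_spec⟩

variable (hX : LocFam p T mk V act q L X)
include hX

theorem Ctx.fam_not_le_M {B : Subgroup P} (hB : B ∈ sig p act ((T : Subgroup G).map mk) q) : ¬ X B ≤ M := fun hle =>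
  (hA.pairs.pair B hB).notM ((pair_res_sup h.pm (hA.pairs.pair B hB) hB.1.1).ge.trans
    (sup_le ((hX B hB).image.ge.trans (map_mono hle)) (hB.2.trans h.pm.TM)))

theorem Ctx.baumann_ne_bot : baumannSubgroupOf p (T : Subgroup G) ≠ ⊥ := fun e => by
  obtain ⟨B, hB⟩ := hA.ne
  have h1 := h.baumann_image hA
  rw [e, Subgroup.map_bot] at h1
  exact hB.1.1.ne (le_bot_iff.1 ((le_sSup hB).trans h1.ge))

/-- The normalizer of the Baumann subgroup lies in `C*`. -/
theorem Ctx.norm_baumann_le_cStar : normalizer (baumannSubgroupOf p (T : Subgroup G) : Set G) ≤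
    cStarOf p (T : Subgroup G) := by
  refine le_trans ?_ le_sup_right
  refine le_iSup (fun C : {C : Subgroup G // C ≤ baumannSubgroupOf p (T : Subgroup G) ∧ C ≠ ⊥ ∧
    (C.subgroupOf (baumannSubgroupOf p (T : Subgroup G))).Characteristic} => normalizer ((C : Subgroup G) : Set G))
    ⟨baumannSubgroupOf p (T : Subgroup G), le_rfl, h.baumann_ne_bot hA hX, ?_⟩
  rw [subgroupOf_self]
  infer_instance

/-- A block centralising all local blocks lies in `C_G(V)`. -/
theorem Ctx.block_central {F : Subgroup G} (hF : IsBaumannBlock p (T : Subgroup G) F)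
    (hc : ∀ B ∈ sig p act ((T : Subgroup G).map mk) q, ∀ f ∈ F, ∀ x ∈ X B, f * x = x * f) : F ≤ mk.ker := by
  obtain ⟨Fb, hFb⟩ : ∃ Fb, Fb = F.map mk := ⟨_, rfl⟩
  obtain ⟨E, hE⟩ : ∃ E, E = sSup (sig p act ((T : Subgroup G).map mk) q) := ⟨_, rfl⟩
  obtain ⟨R, hR⟩ : ∃ R, R = fix act Fb := ⟨_, rfl⟩
  have himg : ∀ B ∈ sig p act ((T : Subgroup G).map mk) q, img act (pResidualOf p (L B)) ≤ R := by
    intro B hB
    refine (AddSubgroup.closure_le _).2 ?_
    rintro _ ⟨e, he, u, rfl⟩
    obtain ⟨x, hx, rfl⟩ := (hX B hB).image.ge he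
    rw [hR, hFb]
    refine h.mem_fix_map.2 (mem_centralizer_iff.2 fun f hf => ?_)
    have hmem : ((Additive.toMul (act (mk x) u - u) : ↥V) : G) ∈ X B := by
      rw [toMul_sub, ← Subgroup.coe_subtype, map_div, Subgroup.coe_subtype, h.conj, div_eq_mul_inv]
      have h1 := (hX B hB).comm_V _ (Additive.toMul u).2 x hx
      have h2 := inv_mem h1
      rw [commutatorElement_inv, commutatorElement_def] at h2
      exact h2
    exact hc B hB f hf _ hmem
  have hEn : E ≤ normalizer (Fb : Set P) := by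
    rw [hE, ← h.baumann_image hA, hFb]
    have h1 := Subgroup.normalizer_commutator_ge_right F (baumannSubgroupOf p (T : Subgroup G))
    rw [hF.2.1] at h1
    exact (map_mono h1).trans (le_normalizer_map mk)
  have hER : ∀ e ∈ E, ∀ u, act e u - u ∈ R := by
    let K : Subgroup P :=
      { carrier := {e | e ∈ normalizer (Fb : Set P) ∧ ∀ u, act e u - u ∈ R}
        one_mem' := ⟨one_mem _, fun u => by rw [OffSL2.act_one, sub_self]; exact zero_mem _⟩
        mul_mem' := fun {a b} ha hb => ⟨mul_mem ha.1 hb.1, fun u => by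
          rw [OffSL2.act_mul, show act a (act b u) - u = (act a (act b u) - act b u) + (act b u - u) by abel]
          exact add_mem (ha.2 _) (hb.2 _)⟩
        inv_mem' := fun {a} ha => ⟨inv_mem ha.1, fun u => by
          have := ha.2 (act a⁻¹ u)
          rw [OffSL2.act_inv'] at this
          rw [← neg_sub]; exact neg_mem this⟩ }
    have hle : E ≤ K := hE ▸ sSup_le fun B hB b hb => ⟨hEn (hE ▸ le_sSup hB hb), fun u =>
      himg B hB ((pair_img_cover h.pm (hA.pairs.pair B hB) hB.1.1).2 (mem_img ((hA.pairs.pair B hB).le hb) u))⟩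
    exact fun e he => (hle he).2
  have htriv : ∀ f ∈ Fb, ∀ u, act f u - u ∈ R := by
    let K : Subgroup P :=
      { carrier := {e | (∀ r ∈ R, act e r ∈ R) ∧ (∀ r ∈ R, act e⁻¹ r ∈ R) ∧ ∀ u, act e u - u ∈ R}
        one_mem' := ⟨fun r hr => by rwa [OffSL2.act_one], fun r hr => by rwa [inv_one, OffSL2.act_one],
          fun u => by rw [OffSL2.act_one, sub_self]; exact zero_mem _⟩
        mul_mem' := fun {a b} ha hb => ⟨fun r hr => by rw [OffSL2.act_mul]; exact ha.1 _ (hb.1 r hr),
          fun r hr => by rw [mul_inv_rev, OffSL2.act_mul]; exact hb.2.1 _ (ha.2.1 r hr), fun u => by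
          rw [OffSL2.act_mul, show act a (act b u) - u = (act a (act b u) - act b u) + (act b u - u) by abel]
          exact add_mem (ha.2.2 _) (hb.2.2 _)⟩
        inv_mem' := fun {a} ha => ⟨ha.2.1, fun r hr => by rw [inv_inv]; exact ha.1 r hr, fun u => by
          have := ha.2.2 (act a⁻¹ u)
          rw [OffSL2.act_inv'] at this
          rw [← neg_sub]; exact neg_mem this⟩ }
    have hle : ⁅Fb, E⁆ ≤ K := commutator_le.2 fun f hf e he => by
      have hfR : ∀ g ∈ Fb, ∀ r ∈ R, act g r ∈ R := fun g hg r hr => by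
        have hfix : act g r = r := by rw [hR] at hr; exact hr g hg
        rw [hfix]; exact hr
      have heR : ∀ g ∈ E, ∀ r ∈ R, act g r ∈ R := fun g hg r hr => by
        rw [← sub_add_cancel (act g r) r]; exact add_mem (hER g hg r) hr
      have hconj : f * e * f⁻¹ ∈ K := by
        refine ⟨fun r hr => ?_, fun r hr => ?_, fun u => ?_⟩
        · rw [OffSL2.act_mul, OffSL2.act_mul]; exact hfR f hf _ (heR e he _ (hfR _ (inv_mem hf) r hr))
        · rw [show (f * e * f⁻¹)⁻¹ = f * e⁻¹ * f⁻¹ by group, OffSL2.act_mul, OffSL2.act_mul]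
          exact hfR f hf _ (heR _ (inv_mem he) _ (hfR _ (inv_mem hf) r hr))
        · obtain ⟨w, hw⟩ : ∃ w, w = act f⁻¹ u := ⟨_, rfl⟩
          have e2 : act (f * e * f⁻¹) u - u = act f (act e w - w) := by
            rw [OffSL2.act_mul, OffSL2.act_mul, ← hw, map_sub, hw, OffSL2.act_inv']
          rw [e2]
          exact hfR f hf _ (hER e he w)
      have he' : e⁻¹ ∈ K := ⟨heR _ (inv_mem he), fun r hr => by rw [inv_inv]; exact heR e he r hr,
        hER _ (inv_mem he)⟩
      rw [commutatorElement_def]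
      exact mul_mem hconj he'
    have hFE : ⁅Fb, E⁆ = Fb := by rw [hFb, hE, ← h.baumann_image hA, ← map_commutator, hF.2.1]
    intro f hf u
    exact ((hFE.ge.trans hle) hf).2.2 u
  have hexp : ∀ f ∈ Fb, f ^ p = 1 := fun f hf => h.pm.inj (AddMonoidHom.ext fun u => by
    show act (f ^ p) u = act 1 u
    have hk : ∀ k : ℕ, act (f ^ k) u = u + k • (act f u - u) := by
      intro k
      induction k with
      | zero => rw [pow_zero, OffSL2.act_one, zero_smul, add_zero]
      | succ k ih =>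
        have hfix : act f (act f u - u) = act f u - u := by
          have := htriv f hf u
          rw [hR] at this
          exact this f hf
        rw [pow_succ', OffSL2.act_mul, ih, map_add, map_nsmul, hfix, succ_nsmul]
        abel
    rw [hk, OffSL2.act_one, h.pm.hpU, add_zero])
  have hbot : Fb = ⊥ := by
    rw [eq_bot_iff, hFb, ← hF.1, res_map]
    refine res_le_of fun f hf hfc => mem_bot.2 (orderOf_eq_one_iff.1 (Nat.eq_one_of_dvd_coprimes hfc dvd_rfl
      (orderOf_dvd_of_pow_eq_one (hexp f (hFb ▸ hf)))))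
  exact (Subgroup.map_eq_bot_iff F).1 (hFb ▸ hbot)

variable {𝓑 : Set (Subgroup G)}

theorem Ctx.family_sup_T (hconj : ∀ E ∈ 𝓑, ∀ g : G, E.map (MulAut.conj g).toMonoidHom ∈ 𝓑)
    (hcov : ∀ B ∈ sig p act ((T : Subgroup G).map mk) q, ∃ E ∈ 𝓑, X B ≤ E) :
    (sSup 𝓑).Normal ∧ sSup 𝓑 ⊔ (T : Subgroup G) = ⊤ := by
  have hn : (sSup 𝓑).Normal := ⟨fun n hn g => by
    have hle : sSup 𝓑 ≤ (sSup 𝓑).comap (MulAut.conj g).toMonoidHom :=
      sSup_le fun E hE => map_le_iff_le_comap.1 (le_sSup (hconj E hE g))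
    exact hle hn⟩
  refine ⟨hn, by_contra fun hne => ?_⟩
  obtain ⟨B, hB⟩ := hA.ne
  obtain ⟨E, hE, hle⟩ := hcov B hB
  exact h.fam_not_le_M hA hX hB (hle.trans ((le_sSup hE).trans (le_sup_left.trans (h.le_M le_sup_right hne))))

/-- Assembling the block structure. -/
theorem Ctx.assemble (hsub : ∀ E ∈ 𝓑, IsBaumannBlock p (T : Subgroup G) E ∧ E.IsSubnormal)
    (hconj : ∀ E ∈ 𝓑, ∀ g : G, E.map (MulAut.conj g).toMonoidHom ∈ 𝓑)
    (hcov : ∀ B ∈ sig p act ((T : Subgroup G).map mk) q, ∃ E ∈ 𝓑, X B ≤ E)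
    (hint : ∀ x ∈ sSup 𝓑, x ∈ cStarOf p (T : Subgroup G) → x ∈ ⨆ E ∈ 𝓑, (cStarOf p (T : Subgroup G) ⊓ E))
    (hcase : ∀ E ∈ 𝓑,
      (∃ (F : Type) (_ : Field F) (_ : Fintype F) (m : ℕ), 3 < p ^ m ∧ Fintype.card F = p ^ m ∧
          Nonempty (↥E ⧸ pCore p ↥E ≃* Matrix.SpecialLinearGroup (Fin 2) F) ∧
          cStarOf p (T : Subgroup G) ⊓ E = E ⊓ normalizer (((T : Subgroup G) ⊓ E : Subgroup G) : Set G)) ∨
      (p = 2 ∧ ∃ m : ℕ, Nonempty (↥E ⧸ pCore p ↥E ≃* ↥(alternatingGroup (Fin (2 * m + 1)))) ∧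
          Nonempty (↥(((cStarOf p (T : Subgroup G) ⊓ E).subgroupOf E).map (QuotientGroup.mk' (pCore p ↥E))) ≃*
            ↥(alternatingGroup (Fin (2 * m))))) ∨
      (p = 3 ∧ Nonempty (↥E ⧸ pCore p ↥E ≃* ↥(commutator (Matrix.SpecialLinearGroup (Fin 2) (ZMod 3)))) ∧
          ((cStarOf p (T : Subgroup G) ⊓ E).subgroupOf E).map (QuotientGroup.mk' (pCore p ↥E)) =
            Subgroup.center (↥E ⧸ pCore p ↥E))) :
    HasBaumannBlockStructure p (T : Subgroup G) 𝓑 ∧
      cStarOf p (T : Subgroup G) = (cStarOf p (T : Subgroup G) ⊓ sSup 𝓑) ⊔ (T : Subgroup G) := by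
  obtain ⟨hn, htop⟩ := h.family_sup_T hA hX hconj hcov
  have hsb : ∀ E ∈ 𝓑, IsSubBlock p E := fun E hE => ⟨⟨T, (hsub E hE).1⟩, (hsub E hE).2⟩
  refine ⟨⟨fun E hE => (hsub E hE).1, hconj, fun E hE E' hE' hne =>
    (CfsgLib.LocalEvenB.SubBlocks.sub_blocks_eq_or_commute h.hG (hsb E hE) (hsb E' hE')).resolve_left hne,
    top_le_iff.1 (htop.ge.trans (sup_comm (sSup 𝓑) (T : Subgroup G) ▸ sup_le_sup_right h.T_le_cStar _)),
    fun F hF hnle => ?_, le_antisymm (fun x hx => hint x hx.2 hx.1)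
      (iSup₂_le fun E hE => inf_le_inf_left _ (le_sSup hE)), hcase⟩, ?_⟩
  · by_contra hall
    push Not at hall
    refine hnle ((h.block_central hA hX hF fun B hB f hf x hx => ?_).trans h.ker_le_cStar)
    obtain ⟨E, hE, hle⟩ := hcov B hB
    exact commutatorElement_eq_one_iff_mul_comm.1 (Subgroup.mem_bot.1
      (((CfsgLib.LocalEven.SubBlock.le_or_commute T h.hG (hsb E hE) hF).resolve_left (hall E hE)).le
        (commutator_mem_commutator hf (hle hx))))
  · refine le_antisymm (fun c hc => ?_) (sup_le inf_le_left h.T_le_cStar)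
    have h1 := htop.ge (mem_top c)
    haveI := hn
    obtain ⟨x, hx, t, ht, rfl⟩ := mem_sup_of_normal_left.1 h1
    refine mul_mem_sup ⟨?_, hx⟩ ht
    have := mul_mem hc (inv_mem (h.T_le_cStar ht))
    rwa [mul_inv_cancel_right] at this

end CfsgLib.LocalEven.PMinPush
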