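import Cfsg.Agent.Lib.LocalEven.PMinPush.Pairs
import Cfsg.Agent.Lib.LocalEven.PushUp.One

/-!
# The Baumann subgroup in `P`, and conjugates of `W`
-/

set_option autoImplicit false
set_option linter.all false

namespace CfsgLib.LocalEven.PMinPush

open Subgroup Cfsg CfsgLib.LocalEven.OffSL2 CfsgLib.LocalEven.PMinFF
open scoped IsMulCommutative commutatorElement

variable {G : Type*} [Group G] [Finite G] {p : ℕ} [Fact p.Prime]

/-- The `p`-part and the `p'`-part of an element are powers of it. -/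
theorem exists_parts (c : G) : ∃ a b : G, a ∈ zpowers c ∧ b ∈ zpowers c ∧ a * b = c ∧ (∃ k, a ^ p ^ k = 1) ∧
    (orderOf b).Coprime p := by
  obtain ⟨k, m, hm, e⟩ := Nat.exists_eq_pow_mul_and_not_dvd (orderOf_pos c).ne' p (Fact.out : p.Prime).ne_one
  have hcop : Nat.Coprime (p ^ k) m := (((Fact.out : p.Prime).coprime_iff_not_dvd).2 hm).pow_left k
  have hb := Nat.gcd_eq_gcd_ab (p ^ k) m
  rw [hcop.gcd_eq_one, Nat.cast_one] at hb
  obtain ⟨u, hu⟩ : ∃ u, u = Nat.gcdA (p ^ k) m := ⟨_, rfl⟩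
  obtain ⟨v, hv⟩ : ∃ v, v = Nat.gcdB (p ^ k) m := ⟨_, rfl⟩
  rw [← hu, ← hv] at hb
  refine ⟨c ^ ((m : ℤ) * v), c ^ (((p ^ k : ℕ) : ℤ) * u), zpow_mem (mem_zpowers c) _, zpow_mem (mem_zpowers c) _,
    ?_, ⟨k, ?_⟩, ?_⟩
  · rw [← zpow_add, add_comm ((m : ℤ) * v), ← hb, zpow_one]
  · rw [← zpow_natCast, ← zpow_mul]
    refine orderOf_dvd_iff_zpow_eq_one.1 ?_
    rw [e, Nat.cast_mul]
    exact ⟨v, by ring⟩
  · refine Nat.Coprime.coprime_dvd_left (orderOf_dvd_of_pow_eq_one (n := m) ?_)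
      (((Fact.out : p.Prime).coprime_iff_not_dvd).2 hm).symm
    rw [← zpow_natCast, ← zpow_mul]
    refine orderOf_dvd_iff_zpow_eq_one.1 ?_
    rw [e, Nat.cast_mul]
    exact ⟨u, by ring⟩

variable {P : Type*} [Group P] [Finite P] {T : Sylow p G} {M : Subgroup G} {mk : G →* P}
variable {V : Subgroup G} [IsMulCommutative V] {act : P →* AddMonoid.End (Additive ↥V)} {y : Additive ↥V}
variable {q : ℕ} {L : Subgroup P → Subgroup P}
variable (h : Ctx p T M mk V act y) (hA : AtSys p act ((T : Subgroup G).map mk) (M.map mk) q L)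
include h hA

theorem Ctx.image_le_E {A : Subgroup G} (hAm : A ∈ maxElementaryAbelianSubgroups p G) (hAT : A ≤ (T : Subgroup G)) :
    A.map mk ≤ sSup (sig p act ((T : Subgroup G).map mk) q) :=
  hA.exact_le h.pm (h.exact A hAm) (map_mono hAT)

theorem Ctx.mem_fE_iff {v : Additive ↥V} : v ∈ fE p act ((T : Subgroup G).map mk) q ↔
    ((Additive.toMul v : ↥V) : G) ∈ jW p (T : Subgroup G) := by
  constructor
  · intro hv
    refine h.mem_W (h.core_le_T (h.V_le_core (Additive.toMul v).2)) (h.mem_V.1 (Additive.toMul v).2).2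
      fun A hAm hAT a ha => h.fix_iff.1 (hv _ (h.image_le_E hA hAm hAT ⟨a, ha, rfl⟩))
  · intro hv
    refine mem_fix_sSup.2 fun B hB => ?_
    obtain ⟨A, hAm, hAT, rfl⟩ := h.sig_image hB
    exact h.mem_fix_map.2 (mem_centralizer_iff.2 fun a ha => h.W_comm hAm hAT ha hv)

/-- The image of the Baumann subgroup. -/
theorem Ctx.baumann_image :
    (baumannSubgroupOf p (T : Subgroup G)).map mk = sSup (sig p act ((T : Subgroup G).map mk) q) := by
  refine le_antisymm ?_ (sSup_le fun B hB => ?_)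
  · rintro _ ⟨t, ht, rfl⟩
    refine hA.centralizer_fE h.pm ⟨t, ht.1, rfl⟩ fun v hv => h.fix_iff.2 ?_
    exact (mem_centralizer_iff.1 ht.2 _ ((h.mem_fE_iff hA).1 hv)).symm
  · obtain ⟨A, hAm, hAT, rfl⟩ := h.sig_image hB
    exact map_mono ((h.le_J hAm hAT).trans (CfsgLib.LocalEvenB.centralizes_thompson_omega _))

/-- Elements of the pairs lift to `J(G)`. -/
theorem Ctx.lift_JG {x : P} (hx : x ∈ lhat p act ((T : Subgroup G).map mk) q L) :
    ∃ g ∈ thompsonSubgroup p G, mk g = x := by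
  have hle : lhat p act ((T : Subgroup G).map mk) q L ≤ (thompsonSubgroup p G).map mk := iSup₂_le fun B hB => by
    obtain ⟨l, hl, hne⟩ := (hA.pairs.pair B hB).moves
    rw [← (hA.pairs.pair B hB).gen2 l hl hne]
    have hat : ∀ Z, Atom p act Z → Z ≤ (thompsonSubgroup p G).map mk := fun Z hZ => by
      obtain ⟨A, hAm, rfl⟩ := h.atom_image hZ
      exact map_mono (le_sSup hAm)
    exact sup_le (hat B hB.1.1) (hat _ (hB.1.1.cj l))
  exact hle hx

/-- The commutator of `W` with a lift of an element of a pair is fixed by the other atoms. -/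
theorem Ctx.delta_fixed {B : Subgroup P} (hB : B ∈ sig p act ((T : Subgroup G).map mk) q) {g : G}
    (hg : g ∈ thompsonSubgroup p G) (hl : mk g ∈ L B) {w : G} (hw : w ∈ jW p (T : Subgroup G)) :
    Additive.ofMul (⟨g * w * g⁻¹ * w⁻¹, h.JG_comm_W hg hw⟩ : ↥V) ∈ fD p act ((T : Subgroup G).map mk) q B := by
  refine mem_fix_sSup.2 fun D hD => ?_
  obtain ⟨A, hAm, hAT, rfl⟩ := h.sig_image hD.1
  rintro _ ⟨a, ha, rfl⟩
  refine h.fix_iff.2 ?_
  show a * (g * w * g⁻¹ * w⁻¹) = (g * w * g⁻¹ * w⁻¹) * a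
  haveI hJn := h.JG_normal
  have hAJ : A ≤ thompsonSubgroup p G := le_sSup hAm
  obtain ⟨N, hN⟩ : ∃ N, N = mk.ker ⊓ thompsonSubgroup p G := ⟨_, rfl⟩
  haveI hNn : N.Normal := hN ▸ inferInstance
  obtain ⟨R, hR⟩ : ∃ R, R = A ⊔ N := ⟨_, rfl⟩
  have hdec : ∀ x ∈ R, ∃ a ∈ A, ∃ c ∈ N, x = a * c := fun x hx => by
    rw [hR] at hx
    obtain ⟨a, ha, c, hc, e⟩ := mem_sup_of_normal_right.1 hx
    exact ⟨a, ha, c, hc, e.symm⟩
  have hAR : A ≤ R := hR ▸ le_sup_left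
  have hmax : MaxP p ((T : Subgroup G) ⊓ R) R := by
    refine ⟨inf_le_right, T.2.to_le inf_le_left, fun S h1 h2 h3 => le_antisymm (fun s hs => ⟨?_, h2 hs⟩) h1⟩
    obtain ⟨b, hb, c, hc, rfl⟩ := hdec s (h2 hs)
    have hbS : b ∈ S := h1 ⟨hAT hb, hAR hb⟩
    have hcS : c ∈ S ⊓ mk.ker := ⟨by simpa using mul_mem (inv_mem hbS) hs, (hN ▸ hc : c ∈ mk.ker ⊓ _).1⟩
    exact mul_mem (hAT hb) (h.core_le_T (h.pgroup_le_core (h3.to_le inf_le_left) inf_le_right hcS))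
  have hconjR : PMinFF.cj g A ≤ R := PMinFF.cj_le.2 fun b hb => by
    rw [hR, show g * b * g⁻¹ = b * (b⁻¹ * (g * b * g⁻¹)) by group]
    refine mul_mem_sup hb (hN ▸ ⟨MonoidHom.mem_ker.2 ?_, ?_⟩)
    · have hc := (hA.pairs.other B hB _ hD.1 hD.2).1 _ ⟨b, hb, rfl⟩ _ hl
      rw [map_mul, map_mul, map_mul, map_inv, map_inv, ← hc, mul_inv_cancel_right, inv_mul_cancel]
    · show b⁻¹ * (g * b * g⁻¹) ∈ thompsonSubgroup p G
      exact mul_mem (inv_mem (hAJ hb)) (hJn.conj_mem b (hAJ hb) g)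
  obtain ⟨k, hk, hkA⟩ := hmax.exists_conj (el_iff.1 (h.maxEl_cj hAm g).1).isPGroup hconjR
  obtain ⟨b, hb, c, hc, rfl⟩ := hdec k hk
  have hcA : PMinFF.cj c (PMinFF.cj g A) ≤ (T : Subgroup G) := PMinFF.cj_le.2 fun x hx => by
    have h1 := (hkA (PMinFF.conj_mem_cj hx)).1
    have h2 := mul_mem (mul_mem (inv_mem (hAT hb)) h1) (hAT hb)
    simpa [mul_assoc] using h2
  rw [hN] at hc
  obtain ⟨q0, r, hq0, hr, hqr, ⟨i, hqi⟩, hrc⟩ := exists_parts (p := p) c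
  have hq0T : q0 ∈ (T : Subgroup G) := h.core_le_T (h.zpowers_le_core ((zpowers_le.2 hc.1) hq0) hqi)
  have hrA : PMinFF.cj r (PMinFF.cj g A) ≤ (T : Subgroup G) := PMinFF.cj_le.2 fun x hx => by
    have h1 := hcA (PMinFF.conj_mem_cj hx)
    rw [← hqr] at h1
    have h2 := mul_mem (mul_mem (inv_mem hq0T) h1) hq0T
    simpa [mul_assoc] using h2
  have hrk : r ∈ mk.ker := (zpowers_le.2 hc.1) hr
  have hrw : r * w = w * r := by
    have hz := h.JG_comm_W ((zpowers_le.2 hc.2) hr) hw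
    refine CfsgLib.PushUp.commute_of_coprime (z := r * w * r⁻¹ * w⁻¹) (h.V_el.exp _ hz)
      (h.mem_ker.1 hrk _ hz) (inv_mul_cancel_right _ _).symm ?_
    exact (Fact.out : p.Prime).coprime_iff_not_dvd.1 hrc.symm
  obtain ⟨x, hx⟩ : ∃ x, x = g * a * g⁻¹ := ⟨_, rfl⟩
  have hxA : x ∈ PMinFF.cj g A := hx ▸ PMinFF.conj_mem_cj ha
  have hxw : x * w = w * x := by
    have h1 : (r * x * r⁻¹) * w = w * (r * x * r⁻¹) :=
      h.W_comm (h.maxEl_cj (h.maxEl_cj hAm g) r) hrA (PMinFF.conj_mem_cj hxA) hw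
    have h2 : Commute r w := hrw
    have h3 : Commute (r⁻¹ * (r * x * r⁻¹) * r) w :=
      ((h2.inv_left.mul_left (show Commute (r * x * r⁻¹) w from h1)).mul_left h2)
    rw [show r⁻¹ * (r * x * r⁻¹) * r = x by group] at h3
    exact h3.eq
  have hxg : x * (g * w * g⁻¹) = (g * w * g⁻¹) * x := by
    rw [hx, show g * a * g⁻¹ * (g * w * g⁻¹) = g * (a * w) * g⁻¹ by group, h.W_comm hAm hAT ha hw]; group
  have hxd : Commute x (g * w * g⁻¹ * w⁻¹) :=
    (show Commute x (g * w * g⁻¹) from hxg).mul_right (show Commute x w from hxw).inv_right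
  have hak : a⁻¹ * x ∈ mk.ker := by
    rw [hx, MonoidHom.mem_ker]
    have hc' := (hA.pairs.other B hB _ hD.1 hD.2).1 _ ⟨a, ha, rfl⟩ _ hl
    rw [map_mul, map_mul, map_mul, map_inv, map_inv, ← hc', mul_inv_cancel_right, inv_mul_cancel]
  have h4 : Commute (x * (a⁻¹ * x)⁻¹) (g * w * g⁻¹ * w⁻¹) := hxd.mul_left
    (show Commute (a⁻¹ * x) (g * w * g⁻¹ * w⁻¹) from h.mem_ker.1 hak _ (h.JG_comm_W hg hw)).inv_left
  rw [show x * (a⁻¹ * x)⁻¹ = a by group] at h4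
  exact h4.eq

/-- `W = (W ∩ gWg⁻¹)(W ∩ V)`. -/
theorem Ctx.W_decomp {B : Subgroup P} (hB : B ∈ sig p act ((T : Subgroup G).map mk) q) {g : G}
    (hg : g ∈ thompsonSubgroup p G) (hl : mk g ∈ L B) (hne : PMinFF.cj (mk g) B ≠ B) {w : G}
    (hw : w ∈ jW p (T : Subgroup G)) :
    ∃ d ∈ jW p (T : Subgroup G) ⊓ PMinFF.cj g (jW p (T : Subgroup G)),
      d⁻¹ * w ∈ V ⊓ jW p (T : Subgroup G) := by
  have h1 := h.delta_fixed hA hB hg hl hw
  rw [(hA.fD_eq h.pm hB hl hne).1] at h1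
  obtain ⟨u, hu, v, ⟨u', hu', rfl⟩, e⟩ := AddSubgroup.mem_sup.1 h1
  obtain ⟨a, haV⟩ : ∃ a : ↥V, a = Additive.toMul u := ⟨_, rfl⟩
  obtain ⟨b, hbV⟩ : ∃ b : ↥V, b = Additive.toMul u' := ⟨_, rfl⟩
  have ha : (a : G) ∈ jW p (T : Subgroup G) := haV ▸ (h.mem_fE_iff hA).1 hu
  have hb : (b : G) ∈ jW p (T : Subgroup G) := hbV ▸ (h.mem_fE_iff hA).1 hu'
  have e' : (a : G) * (g * (b : G) * g⁻¹) = g * w * g⁻¹ * w⁻¹ := by
    have := congrArg (fun z => ((Additive.toMul z : ↥V) : G)) e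
    rw [haV, hbV]
    have hc := h.conj g u'
    simp only [toMul_add, Subgroup.coe_mul, toMul_ofMul] at this
    exact (congrArg (((Additive.toMul u : ↥V) : G) * ·) hc).symm.trans this
  have hcomm : g * (b : G) * g⁻¹ * w = w * (g * (b : G) * g⁻¹) := h.V_comm_W (h.V_normal.conj_mem _ b.2 g) hw
  refine ⟨(a : G) * w, ⟨mul_mem ha hw, ?_⟩, ?_, ?_⟩
  · show (a : G) * w ∈ PMinFF.cj g (jW p (T : Subgroup G))
    rw [PMinFF.mem_cj]
    have h2 : g⁻¹ * ((a : G) * w) * g = w * (b : G)⁻¹ := by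
      have h3 : g * (w * (b : G)⁻¹) * g⁻¹ = (a : G) * w := by
        calc g * (w * (b : G)⁻¹) * g⁻¹ = (g * w * g⁻¹ * w⁻¹) * (w * (g * (b : G) * g⁻¹)⁻¹) := by group
          _ = (a : G) * ((g * (b : G) * g⁻¹) * w) * (g * (b : G) * g⁻¹)⁻¹ := by rw [← e']; group
          _ = _ := by rw [hcomm]; group
      rw [← h3]; group
    rw [h2]
    exact mul_mem hw (inv_mem hb)
  · rw [show ((a : G) * w)⁻¹ * w = w⁻¹ * (a : G)⁻¹ * w from by group]
    have := h.V_normal.conj_mem _ (inv_mem a.2) w⁻¹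
    rwa [inv_inv] at this
  · show ((a : G) * w)⁻¹ * w ∈ jW p (T : Subgroup G)
    exact mul_mem (inv_mem (mul_mem ha hw)) hw

end CfsgLib.LocalEven.PMinPush
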