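import Cfsg.Agent.Lib.LocalEven.PMinPush.TwoOut
import Cfsg.Agent.Lib.LocalEven.PushUp.LocalSetup
import Cfsg.Agent.Lib.LocalEvenB.JOver.CompProps

/-!
# The rank one theorem for a subgroup of an ambient group
-/

set_option autoImplicit false
set_option linter.all false

namespace CfsgLib.LocalEven.PMinPush

open Subgroup Cfsg CfsgLib.PushUp
open scoped commutatorElement

section Transfer

variable {G W : Type*} [Group G] [Group W] {f : G →* W} (hf : Function.Injective f)
include hf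

theorem map_inf_cent (U E : Subgroup G) :
    (U ⊓ centralizer (E : Set G)).map f = U.map f ⊓ centralizer ((E.map f : Subgroup W) : Set W) := by
  ext y
  constructor
  · rintro ⟨x, hx, rfl⟩
    refine ⟨⟨x, hx.1, rfl⟩, mem_centralizer_iff.2 ?_⟩
    rintro _ ⟨z, hz, rfl⟩
    rw [← map_mul, ← map_mul, mem_centralizer_iff.1 hx.2 z hz]
  · rintro ⟨⟨x, hx, rfl⟩, hc⟩
    refine ⟨x, ⟨hx, mem_centralizer_iff.2 fun z hz => hf ?_⟩, rfl⟩
    rw [map_mul, map_mul, mem_centralizer_iff.1 hc (f z) ⟨z, hz, rfl⟩]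

theorem acts_pull {F : Type*} [Field F] {R : Subgroup (Matrix.SpecialLinearGroup (Fin 2) F)} {E U U0 : Subgroup G}
    (h : ActsAsSL2OnSection F R (E.map f) (U.map f) (U0.map f)) : ActsAsSL2OnSection F R E U U0 := by
  obtain ⟨hn, hle, ρ, ψ, hρ, hψ, hk, hact⟩ := h
  let eE : ↥E ≃* ↥(E.map f) := E.equivMapOfInjective f hf
  let eU : ↥U ≃* ↥(U.map f) := U.equivMapOfInjective f hf
  have hw : ∀ (x : ↥E) (u : ↥U), ∃ w : ↥U, (w : G) = (x : G) * (u : G) * (x : G)⁻¹ ∧
      Multiplicative.toAdd (ψ (eU w)) =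
        ((ρ (eE x) : Matrix.SpecialLinearGroup (Fin 2) F) : Matrix (Fin 2) (Fin 2) F).mulVec
          (Multiplicative.toAdd (ψ (eU u))) := fun x u => by
    obtain ⟨w, hw, hwe⟩ := hact (eE x) (eU u)
    obtain ⟨w, rfl⟩ := eU.surjective w
    refine ⟨w, hf ?_, hwe⟩
    rw [map_mul, map_mul, map_inv]
    exact hw
  refine ⟨le_normalizer_iff.2 fun x hx u hu => ?_, (map_le_map_iff_of_injective hf).1 hle, ρ.comp eE.toMonoidHom,
    ψ.comp eU.toMonoidHom, ?_, hψ.comp eU.surjective, fun u => ?_, hw⟩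
  · obtain ⟨w, hw', -⟩ := hw ⟨x, hx⟩ ⟨u, hu⟩
    exact (show (w : G) = x * u * x⁻¹ from hw') ▸ w.2
  · rw [MonoidHom.range_comp, MonoidHom.range_eq_top.2 eE.surjective, ← MonoidHom.range_eq_map, hρ]
  · rw [MonoidHom.comp_apply, MulEquiv.coe_toMonoidHom, hk]
    exact Subgroup.mem_map_iff_mem hf

theorem frattini_map (X : Subgroup G) :
    ((frattini ↥X).map X.subtype).map f = (frattini ↥(X.map f)).map (X.map f).subtype := by
  let eX : ↥X ≃* ↥(X.map f) := X.equivMapOfInjective f hf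
  have h : (frattini ↥X).map eX.toMonoidHom = frattini ↥(X.map f) := by
    refine le_antisymm (map_le_iff_le_comap.2 (frattini_le_comap_frattini_of_surjective eX.surjective)) ?_
    intro y hy
    exact ⟨eX.symm y, frattini_le_comap_frattini_of_surjective (φ := eX.symm.toMonoidHom) eX.symm.surjective hy,
      eX.apply_symm_apply y⟩
  rw [← h, map_map, map_map]
  rfl

variable [Finite G] {p : ℕ} [Fact p.Prime]

theorem preBlock_pull {B E : Subgroup G} (h : PreBlock p (B.map f) (E.map f)) : PreBlock p B E := by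
  have hinj := Subgroup.map_injective hf
  have hQ : pCoreOf p (E.map f) = (pCoreOf p E).map f := (CfsgLib.LocalEvenB.JOver.pCoreOf_map_inj f hf E).symm
  have hW : omegaOneCenter p (pCoreOf p (E.map f)) = (omegaOneCenter p (pCoreOf p E)).map f := by
    rw [hQ, ← CfsgLib.LocalEvenB.PushCL.map_omegaOneCenter p f hf]
  have hZ : omegaOneCenter p (pCoreOf p (E.map f)) ⊓ centralizer ((E.map f : Subgroup W) : Set W) =
      (omegaOneCenter p (pCoreOf p E) ⊓ centralizer (E : Set G)).map f := by rw [hW, map_inf_cent hf]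
  obtain ⟨h1, h2, h3, F, i1, i2, n, hn1, hn, ⟨iso⟩, hact, hcase⟩ := h
  refine ⟨hinj ((res_map f E).trans h1), hinj ((map_commutator E B f).trans h2),
    hinj (by rw [map_commutator, ← hQ, h3]), F, i1, i2, n, hn1, hn, ?_, ?_, ?_⟩
  · let eE : ↥E ≃* ↥(E.map f) := E.equivMapOfInjective f hf
    exact ⟨(QuotientGroup.congr _ _ eE (CfsgLib.Core.map_equiv_pCore eE)).trans iso⟩
  · rw [hW, ← map_inf_cent hf] at hact
    exact acts_pull hf hact
  rcases hcase with e | ⟨e3, a, b, c, d, e, g⟩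
  · exact Or.inl (hinj (by rw [← hW, ← hQ]; exact e))
  · refine Or.inr ⟨e3, ?_, hinj ?_, hinj ?_, hinj ?_, ?_, fun x hx hxc hle => g (f x) ⟨x, hx, rfl⟩ ?_ ?_⟩
    · rw [hW, hQ] at a
      exact acts_pull hf a
    · rw [map_commutator, ← hQ, b, hZ]
    · rw [frattini_map hf, ← hZ, ← hQ, c]
    · rw [map_inf_cent hf, ← hZ, d]
    · rw [← map_inf_cent hf, card_map_of_injective hf] at e
      exact e
    · intro hc
      refine hxc (mem_centralizer_iff.2 fun z hz => hf ?_)
      rw [map_mul, map_mul]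
      exact mem_centralizer_iff.1 hc _ (hW ▸ ⟨z, hz, rfl⟩)
    · rw [hQ, show zpowers (f x) = (zpowers x).map f from (MonoidHom.map_zpowers f x).symm, ← map_commutator,
        ← map_commutator, ← map_inf_cent hf]
      exact map_mono hle

end Transfer

variable {G : Type*} [Group G] [Finite G] {p : ℕ} [Fact p.Prime]

/-- What is obtained for a local subgroup `H` with Sylow subgroup `B`. -/
structure LocalOut (p : ℕ) (H B : Subgroup G) : Prop where
  pre : PreBlock p B (pResidualOf p H)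
  le_zc : omegaOneCenter p (pCoreOf p (pResidualOf p H)) ≤
    closure {x | ∃ g ∈ H, g⁻¹ * x * g ∈ omegaOneCenter p B}
  core : pCoreOf p (pResidualOf p H) = pResidualOf p H ⊓ pCoreOf p H
  lin : pCoreOf p (pResidualOf p H) = omegaOneCenter p (pCoreOf p (pResidualOf p H)) →
    (∀ x ∈ pResidualOf p H, ∀ q ∈ pCoreOf p H, ⁅x, q⁆ ∈ pCoreOf p (pResidualOf p H)) ∧
      ∃ A : Subgroup G, A ≤ B ∧ (∀ a ∈ A, a ^ p = 1) ∧ A ⊔ pCoreOf p H = B ∧
        ∀ a ∈ A, ∀ s ∈ B, ⁅a, s⁆ ∈ pCoreOf p (pResidualOf p H)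

theorem local_block {H : Subgroup G} {q : ℕ} {S : Sylow p ↥H} {M : Subgroup ↥H} (h : RankOne p q S M)
    (hE : centralizer (pCore p ↥H : Set ↥H) ≤ pCore p ↥H) {B : Subgroup G}
    (hB : (S : Subgroup ↥H).map H.subtype = B)
    (hd : ∀ C : Subgroup G, C ≤ B → C ≠ ⊥ → (C.subgroupOf B).Characteristic → ¬ H ≤ normalizer (C : Set G)) :
    LocalOut p H B := by
  classical
  let ι : G →* Equiv.Perm G :=
    { toFun := fun g => Equiv.mulLeft g
      map_one' := Equiv.ext fun x => one_mul x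
      map_mul' := fun a b => Equiv.ext fun x => mul_assoc a b x }
  have hι : Function.Injective ι := fun a b e => by
    have := Equiv.congr_fun e (1 : G)
    simpa [ι] using this
  obtain ⟨Φ, hΦ⟩ := exists_autPerm B
  obtain ⟨N, hN⟩ : ∃ N : Subgroup (Equiv.Perm G), N = Subgroup.closure (Set.range Φ) := ⟨_, rfl⟩
  have hmap : ∀ {A : Subgroup G} {x : G}, ι x ∈ A.map ι ↔ x ∈ A := fun {A x} => Subgroup.mem_map_iff_mem hι
  have hS : (S : Subgroup ↥H).map (ι.comp H.subtype) = B.map ι := by rw [← Subgroup.map_map, hB]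
  have hT : (⊤ : Subgroup ↥H).map (ι.comp H.subtype) = H.map ι := by
    rw [← Subgroup.map_map, ← MonoidHom.range_eq_map, range_subtype]
  have hQ : (pCore p ↥H).map (ι.comp H.subtype) = (pCoreOf p H).map ι := by rw [← Subgroup.map_map]; rfl
  have hNn : Stable N (B.map ι) := by
    intro g hg
    suffices CfsgLib.PushUp.cj g (B.map ι) = B.map ι from fun x hx => this.le (CfsgLib.PushUp.conj_mem_cj hx)
    rw [hN] at hg
    induction hg using closure_induction with
    | mem y hy =>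
      obtain ⟨φ, rfl⟩ := hy
      refine cj_eq_of_forall ?_
      rintro _ ⟨s, hs, rfl⟩
      exact ⟨(φ ⟨s, hs⟩ : ↥B), (φ ⟨s, hs⟩).2, (hΦ φ ⟨s, hs⟩).symm⟩
    | one => exact CfsgLib.PushUp.cj_one _
    | mul u v _ _ hu hv => rw [cj_mul, hv, hu]
    | inv u _ hu =>
      conv_lhs => rw [← hu]
      rw [← cj_mul, inv_mul_cancel, CfsgLib.PushUp.cj_one]
  have hset := h.setup_map hE (ι.comp H.subtype) (hι.comp H.subtype_injective) N (by rw [hS]; exact hNn) ?_
  swap
  · rw [hS, hT]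
    intro T hT' hG hTN
    have hle : T.comap ι ≤ B := fun a ha => hmap.1 (hT' ha)
    have hchar : ((T.comap ι).subgroupOf B).Characteristic := characteristic_iff_map_le.2 fun φ => by
      rintro _ ⟨s, hs, rfl⟩
      rw [SetLike.mem_coe, mem_subgroupOf, mem_comap] at hs
      rw [mem_subgroupOf, mem_comap]
      have := hTN (Φ φ) (hN ▸ subset_closure ⟨φ, rfl⟩) _ hs
      exact (show Φ φ * ι (s : G) * (Φ φ)⁻¹ = ι ((φ s : ↥B) : G) from hΦ φ s) ▸ this
    have hbot : T.comap ι = ⊥ := by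
      by_contra hne
      refine hd _ hle hne hchar (le_normalizer_iff.2 fun g hg a ha => ?_)
      rw [mem_comap, map_mul, map_mul, map_inv]
      exact hG _ ⟨g, hg, rfl⟩ _ ha
    rw [← map_comap_eq_self (hT'.trans (map_le_range ι _)), hbot, Subgroup.map_bot]
  rw [hS, hT, hQ] at hset
  obtain ⟨hpre, hzc, hcore, hlin⟩ := rank_block hset
  have hX : pResidualOf p (H.map ι) = (pResidualOf p H).map ι := (res_map ι H).symm
  have hQX : pCoreOf p ((pResidualOf p H).map ι) = (pCoreOf p (pResidualOf p H)).map ι :=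
    (CfsgLib.LocalEvenB.JOver.pCoreOf_map_inj ι hι _).symm
  rw [hX] at hpre hzc hcore hlin
  rw [hQX] at hzc hcore hlin
  rw [← CfsgLib.LocalEvenB.PushCL.map_omegaOneCenter p ι hι] at hzc hlin
  refine ⟨preBlock_pull hι hpre, ?_, Subgroup.map_injective hι (hcore.trans (map_inf _ _ _ hι).symm), fun e => ?_⟩
  · refine (map_le_map_iff_of_injective hι).1 (hzc.trans ?_)
    rw [zc, closure_le]
    rintro x ⟨g, ⟨g', hg', rfl⟩, hx⟩
    obtain ⟨⟨a, ha, hae⟩, hac, hap⟩ := hx
    refine ⟨g' * a * g'⁻¹, subset_closure ⟨g', hg', ?_⟩, ?_⟩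
    · rw [show g'⁻¹ * (g' * a * g'⁻¹) * g' = a by group]
      refine CfsgLib.LocalEvenB.PushCL.mem_omegaOneCenter.2 ⟨⟨ha, mem_centralizer_iff.2 fun s hs => hι ?_⟩, hι ?_⟩
      · rw [map_mul, map_mul, hae]; exact hac _ ⟨s, hs, rfl⟩
      · rw [map_pow, hae, map_one]; exact hap
    · rw [map_mul, map_mul, map_inv, hae]; group
  · obtain ⟨h1, A, hAS, hAp, hAQ, hAc⟩ := hlin (congrArg (Subgroup.map ι) e)
    have hAr : A ≤ ι.range := hAS.trans (map_le_range ι B)
    refine ⟨fun x hx q hq => ?_, A.comap ι, fun a ha => hmap.1 (hAS ha), fun a ha => hι ?_, ?_, fun a ha s hs => ?_⟩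
    · rw [← hmap, map_commutatorElement]; exact h1 _ ⟨x, hx, rfl⟩ _ ⟨q, hq, rfl⟩
    · rw [map_pow, map_one]; exact hAp _ ha
    · refine Subgroup.map_injective hι ?_
      rw [Subgroup.map_sup, map_comap_eq_self hAr, hAQ]
    · rw [← hmap, map_commutatorElement]; exact hAc _ ha _ ⟨s, hs, rfl⟩

end CfsgLib.LocalEven.PMinPush
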