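import Cfsg.Agent.Lib.LocalEven.PMinPush.Lifts
import Cfsg.Agent.Lib.LocalEven.PMinPush.RankBlock
import Cfsg.Agent.Lib.LocalEven.BlockCent.Main

/-!
# The block attached to one atom in `T`
-/

set_option autoImplicit false
set_option linter.all false

namespace CfsgLib.LocalEven.PMinPush

open Subgroup Cfsg CfsgLib.LocalEven.OffSL2 CfsgLib.LocalEven.PMinFF
open scoped IsMulCommutative commutatorElement

variable {G : Type*} [Group G] [Finite G] {p : ℕ} [Fact p.Prime]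
variable {P : Type*} [Group P] [Finite P] {T : Sylow p G} {M : Subgroup G} {mk : G →* P}
variable {V : Subgroup G} [IsMulCommutative V] {act : P →* AddMonoid.End (Additive ↥V)} {y : Additive ↥V}
variable {q : ℕ} {L : Subgroup P → Subgroup P}

/-- The product of the other atoms and the pair projects to the pair. -/
theorem AtSys.exists_proj {U : Type*} [AddCommGroup U] [Finite U] {act : P →* AddMonoid.End U} {T M : Subgroup P}
    {y : U} (hP : PMod p act T M y) (hA : AtSys p act T M q L) {B : Subgroup P} (hB : B ∈ sig p act T q) :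
    (∀ r ∈ sSup (sig p act T q \ {B}) ⊔ L B, ∃ d ∈ sSup (sig p act T q \ {B}), ∃ x ∈ L B, r = d * x) ∧
    ∃ σ : ↥(sSup (sig p act T q \ {B}) ⊔ L B) →* ↥(L B), ∀ r : ↥(sSup (sig p act T q \ {B}) ⊔ L B), (r : P) * (σ r : P)⁻¹ ∈ sSup (sig p act T q \ {B}) := by
  obtain ⟨D, hD⟩ : ∃ D, D = sSup (sig p act T q \ {B}) := ⟨_, rfl⟩
  have hc : ∀ d ∈ D, ∀ l ∈ L B, d * l = l * d := hD ▸ hA.others_commute hP hB
  have hinf : ∀ x ∈ D, x ∈ L B → x = 1 := fun x hx => hA.inf_others hP hB (hD ▸ hx)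
  rw [← hD]
  have hdec : ∀ r ∈ D ⊔ L B, ∃ d ∈ D, ∃ x ∈ L B, r = d * x := fun r hr => by
    rw [← SetLike.mem_coe, coe_mul_of_left_le_normalizer_right _ _ (le_normalizer_iff.2 fun d hd x hx => by
      rw [hc d hd x hx, mul_inv_cancel_right]; exact hx)] at hr
    obtain ⟨d, hd, x, hx, rfl⟩ := hr
    exact ⟨d, hd, x, hx, rfl⟩
  refine ⟨hdec, ?_⟩
  choose f hf g hg hfg using hdec
  have huniq : ∀ (r : P) (hr : r ∈ D ⊔ L B) (d x : P), d ∈ D → x ∈ L B → r = d * x → x = g r hr := by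
    intro r hr d x hd hx e
    have h1 : (f r hr)⁻¹ * d = g r hr * x⁻¹ := by
      calc (f r hr)⁻¹ * d = (f r hr)⁻¹ * (d * x) * x⁻¹ := by group
        _ = (f r hr)⁻¹ * (f r hr * g r hr) * x⁻¹ := by rw [← e, ← hfg r hr]
        _ = _ := by group
    have h2 := hinf _ (mul_mem (inv_mem (hf r hr)) hd) (h1 ▸ mul_mem (hg r hr) (inv_mem hx))
    rw [h1, mul_inv_eq_one] at h2
    exact h2.symm
  refine ⟨MonoidHom.mk' (fun r => ⟨g r r.2, hg r r.2⟩) fun a b => Subtype.ext (Eq.symm ?_), fun r => ?_⟩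
  · refine huniq _ _ (f a a.2 * f b b.2) (g a a.2 * g b b.2) (mul_mem (hf _ _) (hf _ _)) (mul_mem (hg _ _) (hg _ _)) ?_
    show (a : P) * b = _
    conv_lhs => rw [hfg a a.2, hfg b b.2]
    rw [mul_assoc, ← mul_assoc (g a a.2) (f b b.2), ← hc _ (hf b b.2) _ (hg a a.2)]; group
  · show (r : P) * (g r r.2)⁻¹ ∈ D
    conv => arg 2; arg 1; rw [hfg r r.2]
    rw [mul_inv_cancel_right]
    exact hf r r.2

/-- The properties of the block at an atom. -/
structure Loc (p : ℕ) (T : Sylow p G) (mk : G →* P) (V : Subgroup G) [IsMulCommutative V]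
    (act : P →* AddMonoid.End (Additive ↥V)) (E B L0 : Subgroup P) (X : Subgroup G) : Prop where
  block : IsBaumannBlock p (T : Subgroup G) X
  image : X.map mk = pResidualOf p L0
  inter : X ⊓ mk.ker = pCoreOf p X
  comm_V : ∀ v ∈ V, ∀ x ∈ X, ⁅v, x⁆ ∈ X
  comm_core : ∀ q ∈ pCore p G, ∀ x ∈ X, ⁅q, x⁆ ∈ pCoreOf p X
  core_norm : pCore p G ≤ normalizer (X : Set G)
  ker_norm : mk.ker ≤ normalizer (X : Set G)
  baumann_norm : baumannSubgroupOf p (T : Subgroup G) ≤ normalizer (X : Set G)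
  bM_le : ⁅omegaOneCenter p (pCoreOf p X), X⁆ ≤ V
  bM_img : ⁅omegaOneCenter p (pCoreOf p X), X⁆ ≤
    (AddSubgroup.toSubgroup' (img act (pResidualOf p L0))).map V.subtype
  preimage : ∀ x ∈ X, mk x ∈ E → x ∈ baumannSubgroupOf p (T : Subgroup G)
  norm : ∀ x ∈ X, PMinFF.cj (mk x) E = E → x ∈ normalizer (baumannSubgroupOf p (T : Subgroup G) : Set G)
  inter_T : (T : Subgroup G) ⊓ X ≤ baumannSubgroupOf p (T : Subgroup G)
  fix_W : ∀ w ∈ jW p (T : Subgroup G), ∃ d ∈ jW p (T : Subgroup G), (∀ x ∈ X, x * d = d * x) ∧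
    d⁻¹ * w ∈ V ⊓ jW p (T : Subgroup G)
  lift : pCoreOf p X = omegaOneCenter p (pCoreOf p X) →
    ∃ a ∈ baumannSubgroupOf p (T : Subgroup G), a ^ p = 1 ∧
      (∀ s ∈ baumannSubgroupOf p (T : Subgroup G), ⁅a, s⁆ ∈ pCoreOf p X) ∧ mk a ∉ (sSup {D | D ≤ E ∧
        (∀ d ∈ D, ∀ l ∈ L0, d * l = l * d)} : Subgroup P)

variable (h : Ctx p T M mk V act y) (hA : AtSys p act ((T : Subgroup G).map mk) (M.map mk) q L)
include h hA

/-- The group generated by two conjugate Baumann subgroups. -/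
theorem Ctx.two_baumann {B : Subgroup P} (hB : B ∈ sig p act ((T : Subgroup G).map mk) q) {g : G}
    (hg : g ∈ thompsonSubgroup p G) (hl : mk g ∈ L B) (hne : PMinFF.cj (mk g) B ≠ B) :
    let Y := baumannSubgroupOf p (T : Subgroup G) ⊔ PMinFF.cj g (baumannSubgroupOf p (T : Subgroup G))
    (∀ x ∈ Y, ∀ d ∈ jW p (T : Subgroup G) ⊓ PMinFF.cj g (jW p (T : Subgroup G)), x * d = d * x) ∧
      Y.map mk ≤ sSup (sig p act ((T : Subgroup G).map mk) q \ {B}) ⊔ L B ∧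
      (∀ S : Subgroup G, baumannSubgroupOf p (T : Subgroup G) ≤ S → S ≤ Y → IsPGroup p S →
        S = baumannSubgroupOf p (T : Subgroup G)) ∧ ¬ Y ≤ M := by
  intro Y
  obtain ⟨BT, hBT⟩ : ∃ BT, BT = baumannSubgroupOf p (T : Subgroup G) := ⟨_, rfl⟩
  obtain ⟨W, hW⟩ : ∃ W, W = jW p (T : Subgroup G) := ⟨_, rfl⟩
  obtain ⟨D0, hD0⟩ : ∃ D0, D0 = sSup (sig p act ((T : Subgroup G).map mk) q \ {B}) := ⟨_, rfl⟩
  have hY : Y = BT ⊔ PMinFF.cj g BT := hBT ▸ rfl
  rw [hY, ← hBT, ← hW, ← hD0]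
  have hp := hA.pairs.pair B hB
  have hBc : ∀ x ∈ BT, ∀ w ∈ W, x * w = w * x := fun x hx w hw => by
    rw [hBT] at hx; rw [hW] at hw
    exact (mem_centralizer_iff.1 hx.2 w hw).symm
  have hcD : ∀ x ∈ BT ⊔ PMinFF.cj g BT, ∀ d ∈ W ⊓ PMinFF.cj g W, x * d = d * x := by
    intro x hx d hd
    have hle : BT ⊔ PMinFF.cj g BT ≤ centralizer ({d} : Set G) := by
      refine sup_le (fun b hb => mem_centralizer_singleton_iff.2 (hBc b hb d hd.1)) ?_
      rintro _ ⟨b, hb, rfl⟩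
      obtain ⟨w, hw, hwd⟩ := hd.2
      refine mem_centralizer_singleton_iff.2 ?_
      rw [← hwd, ← map_mul, ← map_mul, hBc b hb w hw]
    exact mem_centralizer_singleton_iff.1 (hle hx)
  have himgE : BT.map mk = sSup (sig p act ((T : Subgroup G).map mk) q) := hBT ▸ h.baumann_image hA
  have hEle : sSup (sig p act ((T : Subgroup G).map mk) q) ≤ D0 ⊔ L B := fun e he => by
    obtain ⟨d, hd, b, hb, rfl⟩ := hA.mem_E h.pm hB he
    exact mul_mem_sup (hD0 ▸ hd) (hp.le hb)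
  have himg : (BT ⊔ PMinFF.cj g BT).map mk ≤ D0 ⊔ L B := by
    rw [Subgroup.map_sup]
    refine sup_le (himgE.le.trans hEle) ?_
    rintro _ ⟨_, ⟨b, hb, rfl⟩, rfl⟩
    show mk (g * b * g⁻¹) ∈ D0 ⊔ L B
    rw [map_mul, map_mul, map_inv]
    exact mul_mem (mul_mem (mem_sup_right hl) (hEle (himgE.le ⟨b, hb, rfl⟩))) (inv_mem (mem_sup_right hl))
  refine ⟨hcD, himg, fun S h1 h2 h3 => le_antisymm (fun s hs => ?_) h1, fun hle => ?_⟩
  · obtain ⟨R, hR⟩ : ∃ R, R = S.map mk := ⟨_, rfl⟩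
    have hER : sSup (sig p act ((T : Subgroup G).map mk) q) ≤ R := hR ▸ himgE.ge.trans (map_mono h1)
    have hRB : R ⊓ L B = B := pair_pgroup_eq h.pm hp hB.1.1 (le_inf ((le_sSup hB).trans hER) hp.le) inf_le_right
      (((hR ▸ h3.map mk : IsPGroup p R)).to_le inf_le_left)
    have hsE : mk s ∈ sSup (sig p act ((T : Subgroup G).map mk) q) := by
      have hsR : mk s ∈ R := hR ▸ ⟨s, hs, rfl⟩
      obtain ⟨d, hd, x, hx, e⟩ := (hA.exists_proj h.pm hB).1 _ (hD0 ▸ himg ⟨s, h2 hs, rfl⟩)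
      have hdE : d ∈ sSup (sig p act ((T : Subgroup G).map mk) q) :=
        (sSup_le_sSup Set.diff_subset : sSup (sig p act ((T : Subgroup G).map mk) q \ {B}) ≤ _) hd
      have hxR : x ∈ R ⊓ L B := ⟨by
        have := mul_mem (inv_mem (hER hdE)) hsR
        rwa [e, inv_mul_cancel_left] at this, hx⟩
      rw [hRB] at hxR
      rw [e]
      exact mul_mem hdE (le_sSup hB hxR)
    obtain ⟨b, hb, hbe⟩ := himgE.ge hsE
    have hc : b⁻¹ * s ∈ S ⊓ mk.ker := mem_inf.2 ⟨mul_mem (inv_mem (h1 hb)) hs, by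
      rw [MonoidHom.mem_ker, map_mul, map_inv, hbe, inv_mul_cancel]⟩
    obtain ⟨c, hcdef⟩ : ∃ c, c = b⁻¹ * s := ⟨_, rfl⟩
    rw [← hcdef] at hc
    have hcQ : c ∈ pCore p G := h.pgroup_le_core (h3.to_le inf_le_left) inf_le_right hc
    have hcW : c ∈ centralizer (W : Set G) := mem_centralizer_iff.2 fun w hw => by
      obtain ⟨d, hd, hdv⟩ := h.W_decomp hA hB hg hl hne (hW ▸ hw)
      rw [← hW] at hd
      have e1 : Commute c d := hcD c (h2 hc.1) d hd
      have e2 : Commute c (d⁻¹ * w) := h.mem_ker.1 hc.2 _ hdv.1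
      have := (e1.mul_right e2).eq
      rw [mul_inv_cancel_left] at this
      exact this.symm
    have hcB : c ∈ BT := hBT ▸ h.R1_le_baumann ⟨hcQ, hW ▸ hcW⟩
    rw [show s = b * c by rw [hcdef, mul_inv_cancel_left]]
    exact mul_mem hb hcB
  · refine hp.notM ?_
    rw [← hp.gen2 (mk g) hl hne]
    refine sup_le (hB.2.trans h.pm.TM) ?_
    rintro _ ⟨b, hb, rfl⟩
    obtain ⟨b', hb', rfl⟩ := himgE.ge (le_sSup hB hb)
    show mk g * mk b' * (mk g)⁻¹ ∈ M.map mk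
    rw [← map_inv, ← map_mul, ← map_mul]
    exact ⟨_, hle (mem_sup_right (PMinFF.conj_mem_cj hb')), rfl⟩

/-- The block at an atom in `T`. -/
theorem Ctx.exists_loc {B : Subgroup P} (hB : B ∈ sig p act ((T : Subgroup G).map mk) q) :
    ∃ X, Loc p T mk V act (sSup (sig p act ((T : Subgroup G).map mk) q)) B (L B) X := by
  classical
  have hp := hA.pairs.pair B hB
  obtain ⟨l, hl', hne'⟩ := hp.moves
  obtain ⟨g, hg, rfl⟩ := h.lift_JG hA (le_lhat (p := p) (act := act) (L := L) hB hl')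
  obtain ⟨hcD, himgY, hmaxY, hYM⟩ := h.two_baumann hA hB hg hl' hne'
  have hdecomp := fun w (hw : w ∈ jW p (T : Subgroup G)) => h.W_decomp hA hB hg hl' hne' hw
  obtain ⟨BT, hBT⟩ : ∃ BT, BT = baumannSubgroupOf p (T : Subgroup G) := ⟨_, rfl⟩
  obtain ⟨E, hE⟩ : ∃ E, E = sSup (sig p act ((T : Subgroup G).map mk) q) := ⟨_, rfl⟩
  obtain ⟨D0, hD0⟩ : ∃ D0, D0 = sSup (sig p act ((T : Subgroup G).map mk) q \ {B}) := ⟨_, rfl⟩
  obtain ⟨W, hW⟩ : ∃ W, W = jW p (T : Subgroup G) := ⟨_, rfl⟩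
  rw [← hBT] at hcD himgY hmaxY hYM
  rw [← hW] at hdecomp hcD
  rw [← hE]
  have himgE : BT.map mk = E := hBT ▸ hE ▸ h.baumann_image hA
  have hDE : D0 ≤ E := hD0 ▸ hE ▸ sSup_le_sSup Set.diff_subset
  have hBTT : BT ≤ (T : Subgroup G) := hBT ▸ h.baumann_le
  -- a minimal subgroup over `B(T)` outside `M`
  obtain ⟨H, ⟨hBH, hHY, hHM⟩, hmin⟩ := Set.exists_min_image
    {H : Subgroup G | BT ≤ H ∧ H ≤ BT ⊔ PMinFF.cj g BT ∧ ¬ H ≤ M} (fun H => Nat.card H) (Set.toFinite _)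
    ⟨BT ⊔ PMinFF.cj g BT, le_sup_left, le_rfl, hYM⟩
  have hmaxH : ∀ S : Subgroup G, BT ≤ S → S ≤ H → IsPGroup p S → S = BT :=
    fun S h1 h2 h3 => hmaxY S h1 (h2.trans hHY) h3
  have hprop : ∀ K : Subgroup G, BT ≤ K → K ≤ H → K ≠ H → K ≤ M := fun K h1 h2 h3 => by
    by_contra hKM
    exact h3 (eq_of_le_of_card_ge h2 (hmin K ⟨h1, h2.trans hHY, hKM⟩))
  have himgH : H.map mk ≤ D0 ⊔ L B := (map_mono hHY).trans (hD0 ▸ himgY)
  -- the image contains the pair
  have hEM : E ≤ M.map mk := hE ▸ sSup_sig_le.trans h.pm.TM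
  have hLH : L B ≤ H.map mk := by
    obtain ⟨x0, hx0, hx0M⟩ := SetLike.not_le_iff_exists.1 hHM
    obtain ⟨d, hd, x, hx, e⟩ := (hA.exists_proj h.pm hB).1 _ (hD0 ▸ himgH ⟨x0, hx0, rfl⟩)
    rw [← hD0] at hd
    have hdH : d ∈ H.map mk := map_mono hBH (himgE.ge (hDE hd))
    have hxH : x ∈ H.map mk := by
      have := mul_mem (inv_mem hdH) (⟨x0, hx0, rfl⟩ : mk x0 ∈ H.map mk)
      rwa [e, inv_mul_cancel_left] at this
    have hxM : x ∉ M.map mk := fun hxM => hx0M (h.mem_M_iff.1 (e ▸ mul_mem (hEM (hDE hd)) hxM))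
    have hxB : PMinFF.cj x B ≠ B := fun e2 => hxM (mem_M_of_cj_le h.pm ⟨B, hB⟩ (PMinFF.cj_le.2 fun a ha => by
      obtain ⟨d', hd', b, hb, rfl⟩ := hA.mem_E h.pm hB ha
      have h1 : x * (d' * b) * x⁻¹ = d' * (x * b * x⁻¹) := by
        rw [← mul_assoc x d' b, ← hA.others_commute h.pm hB d' hd' x hx]; group
      rw [h1]
      exact mul_mem (sSup_sig_le ((sSup_le_sSup Set.diff_subset :
        sSup (sig p act ((T : Subgroup G).map mk) q \ {B}) ≤ sSup (sig p act ((T : Subgroup G).map mk) q)) hd'))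
        (hB.2 (e2.le (PMinFF.conj_mem_cj hb)))))
    have hBl : B ≤ H.map mk := (le_sSup hB).trans (hE ▸ himgE.ge.trans (map_mono hBH))
    rw [← hp.gen2 x hx hxB]
    exact sup_le hBl (PMinFF.cj_le_of_mem hxH hBl)
  -- Sylow subgroup and the unique maximal subgroup
  have hBTp : IsPGroup p BT := T.2.to_le hBTT
  let S : Sylow p ↥H := ⟨BT.subgroupOf H, hBTp.comap_subtype, fun {R} hR hle => by
    refine le_antisymm (fun x hx => ?_) hle
    have h1 := hmaxH (R.map H.subtype) (fun s hs => ⟨⟨s, hBH hs⟩, hle hs, rfl⟩) (map_subtype_le R) (hR.map _)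
    exact mem_subgroupOf.2 (h1.le ⟨x, hx, rfl⟩)⟩
  have hSB : (S : Subgroup ↥H).map H.subtype = BT := map_subgroupOf_eq_of_le hBH
  have huniq : ∃! N : Subgroup ↥H, IsCoatom N ∧ (S : Subgroup ↥H) ≤ N := by
    have hMne : M.subgroupOf H ≠ ⊤ := fun e => hHM (subgroupOf_eq_top.1 e)
    have hall : ∀ K : Subgroup ↥H, (S : Subgroup ↥H) ≤ K → K ≠ ⊤ → K ≤ M.subgroupOf H := fun K hK hKne x hx => by
      refine mem_subgroupOf.2 (hprop (K.map H.subtype) (hSB.ge.trans (map_mono hK)) (map_subtype_le K) (fun e => ?_)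
        ⟨x, hx, rfl⟩)
      refine hKne (eq_top_iff.2 fun z _ => ?_)
      obtain ⟨z', hz', hze⟩ := e.ge z.2
      exact (Subtype.ext hze : z' = z) ▸ hz'
    have hSM : (S : Subgroup ↥H) ≤ M.subgroupOf H := fun x hx => mem_subgroupOf.2 (h.TM (hBTT (mem_subgroupOf.1 hx)))
    refine ⟨M.subgroupOf H, ⟨⟨hMne, fun K hK => ?_⟩, hSM⟩, fun N hN => ?_⟩
    · by_contra hKne
      exact hK.2 (hall K (hSM.trans hK.1) hKne)
    · refine (hN.1.le_iff.1 (hall N hN.2 hN.1.1)).resolve_left hMne |>.symm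
  -- the rank one hypothesis
  obtain ⟨F, iF, iFF, ψ, ρ, hFc, hρ, hψ, hker, heq⟩ := hp.nat
  obtain ⟨n, hn, hq⟩ := exists_q_pow h.pm hB.1.1
  obtain ⟨-, σ, hσ⟩ := hA.exists_proj h.pm hB
  let f0 : ↥H →* ↥(sSup (sig p act ((T : Subgroup G).map mk) q \ {B}) ⊔ L B) :=
    (mk.comp H.subtype).codRestrict _ fun x => hD0 ▸ himgH ⟨x, x.2, rfl⟩
  obtain ⟨f1, hf1⟩ : ∃ f1 : ↥H →* ↥(L B), ∀ x : ↥H, mk (x : G) * (f1 x : P)⁻¹ ∈ D0 :=
    ⟨σ.comp f0, fun x => hD0 ▸ hσ (f0 x)⟩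
  have hf1s : Function.Surjective f1 := fun z => by
    obtain ⟨x, hx, hxz⟩ := hLH z.2
    refine ⟨⟨x, hx⟩, Subtype.ext ?_⟩
    have h1 := hf1 ⟨x, hx⟩
    rw [show mk ((⟨x, hx⟩ : ↥H) : G) = (z : P) from hxz] at h1
    have h2 := hA.inf_others h.pm hB (hD0 ▸ h1) (mul_mem z.2 (inv_mem (f1 _).2))
    exact (mul_inv_eq_one.1 h2).symm
  obtain ⟨f, hfs⟩ : ∃ f : ↥H →* Matrix.ProjectiveSpecialLinearGroup (Fin 2) F, Function.Surjective f :=
    ⟨(QuotientGroup.mk' _).comp (ρ.comp f1), (QuotientGroup.mk'_surjective _).comp (hρ.2.comp hf1s)⟩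
  obtain ⟨N, hN⟩ := CfsgLib.PushUp.exists_rankOne S huniq f.ker F n hn (hFc.trans hq)
    ⟨QuotientGroup.quotientKerEquivOfSurjective f hfs⟩
  have hR1H : pCore p G ⊓ centralizer (jW p (T : Subgroup G) : Set G) ≤ H :=
    h.R1_le_baumann.trans (hBT ▸ hBH)
  have hchar : centralizer (pCore p ↥H : Set ↥H) ≤ pCore p ↥H := by
    haveI := h.R1_normal
    have hle : (pCore p G ⊓ centralizer (jW p (T : Subgroup G) : Set G)).subgroupOf H ≤ pCore p ↥H :=
      CfsgLib.Core.le_pCore ((CfsgLib.Core.isPGroup_pCore p G).to_le inf_le_left).comap_subtype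
    refine fun x hx => hle (mem_subgroupOf.2 (h.cent_R1 (mem_centralizer_iff.2 fun r hr => ?_)))
    exact congrArg Subtype.val (mem_centralizer_iff.1 hx ⟨r, hR1H hr⟩ (hle (mem_subgroupOf.2 hr)))
  have hTH : (T : Subgroup G) ⊔ H ≤ M → False := fun e => hHM (le_sup_right.trans e)
  have hd : ∀ C : Subgroup G, C ≤ BT → C ≠ ⊥ → (C.subgroupOf BT).Characteristic →
      ¬ H ≤ normalizer (C : Set G) := fun C hC hC0 hCc hHn => by
    subst hBT
    by_cases htop : normalizer (C : Set G) = ⊤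
    · exact h.hchar C hC hC0 hCc (normalizer_eq_top_iff.1 htop)
    · exact hTH ((sup_le (h.T_normalizes_char hC hCc) hHn).trans (h.le_M (h.T_normalizes_char hC hCc) htop))
  have hout := local_block hN hchar hSB hd
  obtain ⟨X, hX⟩ : ∃ X, X = pResidualOf p H := ⟨_, rfl⟩
  have hpre := hout.pre
  have hcore := hout.core
  have hzc := hout.le_zc
  have hlin := hout.lin
  rw [← hX] at hpre hcore hzc hlin
  have hXH : X ≤ H := hX ▸ res_le H
  have hXB : X ⊔ BT = H := by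
    refine le_antisymm (sup_le hXH hBH) ?_
    have h1 := congrArg (Subgroup.map H.subtype) (CfsgLib.Transfer.pResidual_sup_sylow S)
    rw [Subgroup.map_sup, hSB, ← MonoidHom.range_eq_map, range_subtype] at h1
    exact hX ▸ h1.ge
  have hBTX : BT ≤ normalizer (X : Set G) :=
    hX ▸ (hBH.trans le_normalizer).trans (normalizer_le_normalizer_res H)
  have hblock : IsBaumannBlock p (T : Subgroup G) X := by
    obtain ⟨h1, h2, h3, F', i1, i2, n', hn', hc', hiso, hact, hcase⟩ := hpre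
    subst hBT
    refine ⟨h1, h2, h3, fun e => hHM ?_, Or.inl ⟨F', i1, i2, n', hc', hiso, hact, hcase⟩⟩
    rw [← hXB]
    exact sup_le ((commutator_eq_bot_iff_le_centralizer.1 e).trans h.centZ_le_M) (hBTT.trans h.TM)
  -- images
  have hres : X.map mk = pResidualOf p (L B) := by
    rw [hX, res_map]
    refine le_antisymm (res_le_of fun z hz hzc => mem_res ?_ hzc) (res_mono hLH)
    have hDp : IsPGroup p D0 := hD0 ▸ h.pm.syl.pgr.to_le
      ((sSup_le_sSup Set.diff_subset).trans sSup_sig_le)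
    refine CfsgLib.LocalEvenB.mem_of_coprime_sup hDp (le_normalizer_iff.2 fun d hd x hx => ?_) ?_ hzc
    · rw [hA.others_commute h.pm hB d (hD0 ▸ hd) x hx, mul_inv_cancel_right]; exact hx
    · rw [sup_comm]; exact himgH hz
  have hOB : pCoreOf p H ≤ BT := by
    rw [← hSB]
    exact map_mono (CfsgLib.Core.pCore_le_sylow S)
  have hOD : ∀ z ∈ pCoreOf p H, mk z ∈ D0 := fun z hz => by
    obtain ⟨x0, hx0, hx0e⟩ := hLH hl'
    have hz' : x0 * z * x0⁻¹ ∈ pCoreOf p H := by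
      obtain ⟨z0, hz0, rfl⟩ := hz
      exact ⟨⟨x0, hx0⟩ * z0 * ⟨x0, hx0⟩⁻¹, (CfsgLib.Core.normal_pCore p ↥H).conj_mem _ hz0 _, rfl⟩
    rw [hD0]
    refine hA.mem_others h.pm hB (hE ▸ himgE.le ⟨z, hOB hz, rfl⟩) hl' hne' ?_
    have := himgE.le ⟨_, hOB hz', rfl⟩
    rw [hE, map_mul, map_mul, map_inv, hx0e] at this
    exact this
  have hQX : pCoreOf p X ≤ mk.ker := fun z hz => by
    have hz' := hcore.le hz
    refine MonoidHom.mem_ker.2 (hA.inf_others h.pm hB (hD0 ▸ hOD z hz'.2) ?_)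
    exact (res_le (L B)) (hres.le ⟨z, hz'.1, rfl⟩)
  have hWX : omegaOneCenter p (pCoreOf p X) ≤ (W ⊓ PMinFF.cj g W) ⊔ V := by
    refine hzc.trans ((closure_le _).2 ?_)
    rintro x ⟨h0, hh0, hx⟩
    rw [hW] at hdecomp
    have hxW : h0⁻¹ * x * h0 ∈ jW p (T : Subgroup G) := by
      obtain ⟨⟨hx1, hx2⟩, hx3⟩ := CfsgLib.LocalEvenB.PushCL.mem_omegaOneCenter.1 (hBT ▸ hx)
      exact h.mem_W (h.baumann_le hx1) hx3 fun A hAm hAT a ha => mem_centralizer_iff.1 hx2 a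
        (CfsgLib.LocalEvenB.centralizes_thompson_omega _ (h.le_J hAm hAT ha))
    obtain ⟨d, hd', hdv⟩ := hdecomp _ hxW
    rw [← hW] at hd'
    have e : x = d * (h0 * (d⁻¹ * (h0⁻¹ * x * h0)) * h0⁻¹) := by
      have h1 : Commute h0 d := hcD h0 (hHY hh0) d hd'
      calc x = h0 * (d * (d⁻¹ * (h0⁻¹ * x * h0))) * h0⁻¹ := by group
        _ = (h0 * d) * (d⁻¹ * (h0⁻¹ * x * h0)) * h0⁻¹ := by group
        _ = _ := by rw [h1.eq]; group
    rw [SetLike.mem_coe, e]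
    exact mul_mem_sup hd' (h.V_normal.conj_mem _ hdv.1 h0)
  have hbI : ⁅omegaOneCenter p (pCoreOf p X), X⁆ ≤
      (AddSubgroup.toSubgroup' (img act (pResidualOf p (L B)))).map V.subtype := commutator_le.2 fun a ha x hx => by
    have h1 := hWX ha
    haveI := h.V_normal
    obtain ⟨d, hd', v, hv, rfl⟩ := mem_sup_of_normal_right.1 h1
    have hxd : Commute x d := hcD x (hHY (hXH hx)) d hd'
    have hvx : x * v⁻¹ * x⁻¹ ∈ V := h.V_normal.conj_mem _ (inv_mem hv) x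
    have hdW : d ∈ jW p (T : Subgroup G) := hW ▸ hd'.1
    rw [commutatorElement_def, show d * v * x * (d * v)⁻¹ * x⁻¹ = d * (v * (x * v⁻¹ * x⁻¹)) * (x * d⁻¹ * x⁻¹) by
      group, hxd.inv_right.eq, mul_inv_cancel_right, ← h.V_comm_W (mul_mem hv hvx) hdW, mul_inv_cancel_right]
    obtain ⟨a', ha'⟩ : ∃ a' : Additive ↥V, a' = Additive.ofMul ⟨v⁻¹, inv_mem hv⟩ := ⟨_, rfl⟩
    refine ⟨Additive.toMul (act (mk x) a' - a'), mem_img (hres.le ⟨x, hx, rfl⟩) a', ?_⟩
    rw [toMul_sub, map_div, Subgroup.coe_subtype, h.conj, ha', toMul_ofMul, div_eq_mul_inv]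
    show x * v⁻¹ * x⁻¹ * (v⁻¹)⁻¹ = v * (x * v⁻¹ * x⁻¹)
    rw [inv_inv]
    exact (h.V_el.comm _ hvx _ hv)
  have hbM : ⁅omegaOneCenter p (pCoreOf p X), X⁆ ≤ V := hbI.trans (map_subtype_le _)
  have hQ0X : pCore p G ≤ normalizer (X : Set G) := by
    haveI := CfsgLib.Core.normal_pCore p G
    exact CfsgLib.LocalEvenB.block_normalized T hblock (CfsgLib.Core.isPGroup_pCore p G)
      le_normalizer_of_normal le_normalizer_of_normal
  have hcommQ : ∀ z ∈ pCore p G, ∀ x ∈ X, ⁅z, x⁆ ∈ pCoreOf p X := fun z hz x hx => by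
    haveI := CfsgLib.Core.normal_pCore p G
    refine CfsgLib.LocalEvenB.le_pCoreOf (A := pCore p G ⊓ X) inf_le_right
      ((CfsgLib.Core.isPGroup_pCore p G).to_le inf_le_left)
      ((le_inf le_normalizer_of_normal le_normalizer).trans inf_normalizer_le_normalizer_inf) (mem_inf.2 ⟨?_, ?_⟩)
    · rw [commutatorElement_def, show z * x * z⁻¹ * x⁻¹ = z * (x * z⁻¹ * x⁻¹) by group]
      exact mul_mem hz (Subgroup.Normal.conj_mem inferInstance _ (inv_mem hz) x)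
    · rw [commutatorElement_def]
      exact mul_mem ((mem_normalizer_iff.1 (hQ0X hz) x).1 hx) (inv_mem hx)
  have hinter : X ⊓ mk.ker = pCoreOf p X := by
    refine le_antisymm ?_ (le_inf (map_subtype_le _) hQX)
    obtain ⟨F', i1, i2, n', hn', hc', ⟨iso⟩, hact, -⟩ := hpre.2.2.2
    obtain ⟨-, -, ρ', ψ', hρ', hψ', hk', hact'⟩ := hact
    -- the kernel of the action on the section
    have hcent : ∀ x ∈ X, x ∈ mk.ker ∨ x ∈ pCoreOf p X → ∀ hx : x ∈ X, ρ' ⟨x, hx⟩ = 1 := by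
      intro x hxX hcase hx
      have hcomm : ∀ u : ↥(omegaOneCenter p (pCoreOf p X)), x * (u : G) * x⁻¹ = u := fun u => by
        rw [mul_inv_eq_iff_eq_mul]
        rcases hcase with hxk | hxQ
        · haveI := h.V_normal
          obtain ⟨d, hd', v, hv, e⟩ := mem_sup_of_normal_right.1 (hWX u.2)
          rw [← e]
          exact ((show Commute x d from hcD x (hHY (hXH hxX)) d hd').mul_right (h.mem_ker.1 hxk v hv)).eq
        · exact mem_centralizer_iff.1 (CfsgLib.PGroups.omegaOne_le _ u.2).2 x hxQ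
      have hv : ∀ v, ((ρ' ⟨x, hx⟩ : Matrix.SpecialLinearGroup (Fin 2) F') : Matrix (Fin 2) (Fin 2) F').mulVec v = v :=
        fun v => by
          obtain ⟨u, hu⟩ := hψ' (Multiplicative.ofAdd v)
          obtain ⟨w, hw, hwe⟩ := hact' ⟨x, hx⟩ u
          rw [show w = u from Subtype.ext (hw.trans (hcomm u)), hu] at hwe
          exact hwe.symm
      apply Matrix.SpecialLinearGroup.ext
      intro i j
      have := congrFun (hv (Pi.single j 1)) i
      rw [Matrix.mulVec_single_one] at this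
      rw [Matrix.SpecialLinearGroup.coe_one, Matrix.one_apply]
      simpa [Pi.single_apply, eq_comm] using this
    have hkerle : pCore p ↥X ≤ ρ'.ker := fun x hx =>
      MonoidHom.mem_ker.2 (hcent _ x.2 (Or.inr ⟨x, hx, rfl⟩) x.2)
    have hkeq : pCore p ↥X = ρ'.ker := by
      refine eq_of_le_of_card_ge hkerle ?_
      have e1 := Subgroup.card_eq_card_quotient_mul_card_subgroup ρ'.ker
      have e2 := Subgroup.card_eq_card_quotient_mul_card_subgroup (pCore p ↥X)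
      rw [Nat.card_congr (QuotientGroup.quotientKerEquivRange ρ').toEquiv, hρ'] at e1
      rw [Nat.card_congr iso.toEquiv] at e2
      exact (Nat.eq_of_mul_eq_mul_left Nat.card_pos (e1.symm.trans e2)).le
    intro x hx
    exact ⟨⟨x, hx.1⟩, hkeq.ge (MonoidHom.mem_ker.2 (hcent x hx.1 (Or.inl hx.2) hx.1)), rfl⟩
  have hNeq : ∀ x ∈ H, mk x ∈ E → x ∈ baumannSubgroupOf p (T : Subgroup G) := by
    obtain ⟨N, hN⟩ : ∃ N, N = H ⊓ E.comap mk := ⟨_, rfl⟩
    have hNp : IsPGroup p N := by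
      intro z
      obtain ⟨a, b, ha, hb, hab, ⟨k, hk⟩, hbc⟩ := exists_parts (p := p) (z : G)
      have hzN : (z : G) ∈ H ⊓ E.comap mk := hN ▸ z.2
      have hbX : b ∈ X := hX ▸ mem_res ((zpowers_le.2 hzN.1) hb) hbc
      have hbE : mk b ∈ E := (zpowers_le.2 hzN.2) hb
      have hbk : b ∈ mk.ker := by
        have hEp : IsPGroup p E := hE ▸ h.pm.syl.pgr.to_le sSup_sig_le
        obtain ⟨i, hi⟩ := hEp ⟨_, hbE⟩
        exact MonoidHom.mem_ker.2 (orderOf_eq_one_iff.1 (Nat.eq_one_of_dvd_coprimes (hbc.pow_right i)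
          (orderOf_map_dvd mk b) (orderOf_dvd_of_pow_eq_one (congrArg Subtype.val hi))))
      have hb1 : b = 1 := by
        obtain ⟨i, hi⟩ := (CfsgLib.LocalEvenB.isPGroup_pCoreOf X) ⟨b, hinter.le ⟨hbX, hbk⟩⟩
        exact orderOf_eq_one_iff.1 (Nat.eq_one_of_dvd_coprimes (hbc.pow_right i) dvd_rfl
          (orderOf_dvd_of_pow_eq_one (congrArg Subtype.val hi)))
      refine ⟨k, Subtype.ext ?_⟩
      show (z : G) ^ p ^ k = 1
      rw [← hab, hb1, mul_one]; exact hk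
    have hNeq : N = baumannSubgroupOf p (T : Subgroup G) := (hmaxH N
      (hN ▸ le_inf hBH (map_le_iff_le_comap.1 himgE.le)) (hN ▸ inf_le_left) hNp).trans hBT
    intro x hx hxE
    exact hNeq.le (hN ▸ (⟨hx, hxE⟩ : x ∈ H ⊓ E.comap mk))
  have hHE : H ⊓ E.comap mk = baumannSubgroupOf p (T : Subgroup G) :=
    le_antisymm (fun x hx => hNeq x hx.1 hx.2)
      (le_inf (hBT ▸ hBH) (map_le_iff_le_comap.1 (hBT ▸ himgE.le)))
  refine ⟨X,
    { block := hblock
      image := hres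
      inter := hinter
      comm_V := fun v hv x hx => (map_subtype_le _) (hcommQ v (h.V_le_core hv) x hx)
      comm_core := hcommQ
      core_norm := hQ0X
      ker_norm := fun c hc => CfsgLib.LocalEven.BlockCent.centralizer_le_normalizer_block h.hG T hblock
        (mem_centralizer_iff.2 fun v hv => (h.mem_ker.1 hc v (hbM hv)).symm)
      baumann_norm := hBT ▸ hBTX
      bM_le := hbM
      norm := fun x hx hxE => ?_
      bM_img := hbI
      preimage := fun x hx hxE => hNeq x (hXH hx) hxE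
      inter_T := ?_
      fix_W := fun w hw => ?_
      lift := fun e => ?_ }⟩
  · -- normalising the image means normalising the Baumann subgroup
    rw [← hHE]
    refine inf_normalizer_le_normalizer_inf ⟨le_normalizer (hXH hx), PMinFF.mem_normalizer_of_conj fun a ha => ?_⟩
    rw [mem_comap] at ha ⊢
    rw [map_mul, map_mul, map_inv]
    exact hxE.le (PMinFF.conj_mem_cj ha)
  · subst hBT
    intro x hx
    have hle : (T : Subgroup G) ⊓ X ⊔ baumannSubgroupOf p (T : Subgroup G) ≤ H :=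
      sup_le (inf_le_right.trans hXH) hBH
    have := hmaxH _ le_sup_right hle (T.2.to_le (sup_le inf_le_left h.baumann_le))
    exact this.le (mem_sup_left hx)
  · obtain ⟨d, hd', hdv⟩ := hdecomp w (hW ▸ hw)
    rw [← hW]
    exact ⟨d, hd'.1, fun x hx => hcD x (hHY (hXH hx)) d hd', hW ▸ hdv⟩
  · subst hBT
    obtain ⟨-, A, hAB, hAp, hAQ, hAc⟩ := hlin e
    by_contra hall
    push Not at hall
    have hsub : ∀ d : P, d ∈ (sSup {D | D ≤ E ∧ ∀ d ∈ D, ∀ l ∈ L B, d * l = l * d} : Subgroup P) →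
        ∀ l ∈ L B, d * l = l * d := fun d hd l hl => by
      have hle : (sSup {D | D ≤ E ∧ ∀ d ∈ D, ∀ l ∈ L B, d * l = l * d} : Subgroup P) ≤ centralizer {l} :=
        sSup_le fun D hD x hx => mem_centralizer_singleton_iff.2 (hD.2 x hx l hl)
      exact mem_centralizer_singleton_iff.1 (hle hd)
    have hcA : ∀ z ∈ A ⊔ pCoreOf p H, ∀ l ∈ L B, mk z * l = l * mk z := by
      intro z hz l hl
      have hle : (A ⊔ pCoreOf p H).map mk ≤ centralizer ({l} : Set P) := by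
        rw [Subgroup.map_sup]
        refine sup_le ?_ ?_
        · rintro _ ⟨a, ha, rfl⟩
          exact mem_centralizer_singleton_iff.2 (hsub _ (hall a (hAB ha) (hAp a ha) (hAc a ha)) l hl)
        · rintro _ ⟨a, ha, rfl⟩
          exact mem_centralizer_singleton_iff.2 (hA.others_commute h.pm hB _ (hD0 ▸ hOD a ha) l hl)
      exact mem_centralizer_singleton_iff.1 (hle ⟨z, hz, rfl⟩)
    refine hne' (PMinFF.cj_eq_self (PMinFF.mem_normalizer_of_conj fun b hb => ?_))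
    obtain ⟨b', hb', rfl⟩ := himgE.ge (hE ▸ le_sSup hB hb)
    rw [← hcA b' (hAQ.ge hb') _ hl', mul_inv_cancel_right]
    exact hb

end CfsgLib.LocalEven.PMinPush
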