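import Cfsg.Agent.Lib.LocalEven.PMinPush.TwoE

/-!
# The blocks when the atoms have two elements
-/

set_option autoImplicit false
set_option linter.all false

namespace CfsgLib.LocalEven.PMinPush

open Subgroup Cfsg CfsgLib.LocalEven.OffSL2 CfsgLib.LocalEven.PMinFF
open CfsgLib.LocalEvenB.SubBlocks (IsSubBlock)
open scoped IsMulCommutative commutatorElement

variable {G : Type*} [Group G] [Finite G] [Fact (Nat.Prime 2)]
variable {P : Type*} [Group P] [Finite P] {T : Sylow 2 G} {M : Subgroup G} {mk : G →* P}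
variable {V : Subgroup G} [IsMulCommutative V] {act : P →* AddMonoid.End (Additive ↥V)} {y : Additive ↥V}
variable {L : Subgroup P → Subgroup P} {X : Subgroup P → Subgroup G}
variable (h : Ctx 2 T M mk V act y) (hA : AtSys 2 act ((T : Subgroup G).map mk) (M.map mk) 2 L)
variable (hX : LocFam 2 T mk V act 2 L X)
include h hA hX

theorem Ctx.blkE_quot {Eb : Subgroup P} {m : ℕ} {inf : Fin (2 * m + 1)} {ρ : Eb →* Equiv.Perm (Fin (2 * m + 1))}
    {ψ : Additive ↥V →+ (Fin (2 * m + 1) → ZMod 2)} (hE : isBlk act Eb)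
    (hr : BlkRep act ((T : Subgroup G).map mk) (M.map mk) Eb m inf ρ ψ) :
    ∃ (hle : (blkE 2 mk V Eb).map mk ≤ Eb)
      (e : ↥(blkE 2 mk V Eb) ⧸ pCore 2 ↥(blkE 2 mk V Eb) ≃* ↥(alternatingGroup (Fin (2 * m + 1)))),
      ∀ x : ↥(blkE 2 mk V Eb), ((e (QuotientGroup.mk' _ x)) : Equiv.Perm (Fin (2 * m + 1))) =
        ρ ⟨mk (x : G), hle ⟨x, x.2, rfl⟩⟩ := by
  classical
  obtain ⟨heq, himg⟩ := h.blkE_eq hA hX hE
  have hle : (blkE 2 mk V Eb).map mk ≤ Eb := himg.le.trans (res_le Eb)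
  obtain ⟨hc1, hc2⟩ := h.blkE_core (act := act) hE
  let g : ↥(blkE 2 mk V Eb) →* ↥Eb :=
    (mk.comp (blkE 2 mk V Eb).subtype).codRestrict Eb fun x => hle ⟨x, x.2, rfl⟩
  let f : ↥(blkE 2 mk V Eb) →* ↥(alternatingGroup (Fin (2 * m + 1))) :=
    (ρ.comp g).codRestrict _ fun x => Equiv.Perm.mem_alternatingGroup.2 ((hr.mem_res h.pm hA (g x)).1 (himg.le ⟨x, x.2, rfl⟩))
  have hk : pCore 2 ↥(blkE 2 mk V Eb) = f.ker := by
    ext x
    rw [MonoidHom.mem_ker]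
    constructor
    · intro hx
      have h1 : (x : G) ∈ blkE 2 mk V Eb ⊓ mk.ker := hc2.le ⟨x, hx, rfl⟩
      exact Subtype.ext ((congrArg ρ (Subtype.ext (MonoidHom.mem_ker.1 h1.2) : g x = 1)).trans (map_one ρ))
    · intro hx
      have h1 : g x = 1 := hr.bij.1 ((congrArg Subtype.val hx : ρ (g x) = 1).trans (map_one ρ).symm)
      obtain ⟨z, hz, hze⟩ := hc2.ge (mem_inf.2 ⟨x.2, MonoidHom.mem_ker.2 (congrArg Subtype.val h1)⟩)
      exact (Subtype.ext hze : z = x) ▸ hz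
  have hs : Function.Surjective f := fun σ => by
    obtain ⟨w, hw⟩ := hr.bij.2 (σ : Equiv.Perm (Fin (2 * m + 1)))
    obtain ⟨x, hx, hxe⟩ := himg.ge ((hr.mem_res h.pm hA w).2 (hw ▸ Equiv.Perm.mem_alternatingGroup.1 σ.2))
    exact ⟨⟨x, hx⟩, Subtype.ext ((congrArg ρ (Subtype.ext hxe : g ⟨x, hx⟩ = w)).trans hw)⟩
  exact ⟨hle, (QuotientGroup.quotientMulEquivOfEq hk).trans (QuotientGroup.quotientKerEquivOfSurjective f hs),
    fun x => rfl⟩

theorem Ctx.blkE_block {Eb : Subgroup P} (hE : isBlk act Eb) :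
    IsBaumannBlock 2 (T : Subgroup G) (blkE 2 mk V Eb) := by
  classical
  obtain ⟨m, inf, ρ, ψ, hr⟩ := exists_rep h.pm hA hE
  obtain ⟨hle, e, he⟩ := h.blkE_quot hA hX hE hr
  obtain ⟨heq, himg⟩ := h.blkE_eq hA hX hE
  obtain ⟨hVn, hVE, hVV, hQV, himgV⟩ := h.blkE_comm_V hA hX hE
  obtain ⟨hBn, -⟩ := h.baumann_norm_blkE hA hX hE
  obtain ⟨B1, hB1, hB1E⟩ := blk_has_sig h.pm hA hE
  obtain ⟨E, hEdef⟩ : ∃ E, E = blkE 2 mk V Eb := ⟨_, rfl⟩
  have hQ : pCoreOf 2 (blkE 2 mk V Eb) = ⁅V, blkE 2 mk V Eb⁆ :=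
    (h.blkE_core (act := act) hE).2.trans (h.blkE_ker hA hX hE)
  have hQW : omegaOneCenter 2 (pCoreOf 2 (blkE 2 mk V Eb)) = pCoreOf 2 (blkE 2 mk V Eb) := by
    rw [hQ]
    exact omegaOneCenter_eq_self (fun a ha b hb => h.V_el.comm a (hVn ha) b (hVn hb)) fun a ha => h.V_el.exp a (hVn ha)
  refine ⟨res_res _, le_antisymm ?_ ?_, by rw [hQ, hVV], fun hbot => ?_, Or.inr ⟨rfl, m, ⟨e⟩, ?_, hQW.symm⟩⟩
  · refine commutator_le.2 fun a ha b hb => ?_
    rw [commutatorElement_def, show a * b * a⁻¹ * b⁻¹ = a * (b * a⁻¹ * b⁻¹) by group]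
    exact mul_mem ha ((mem_normalizer_iff.1 (hBn hb) _).1 (inv_mem ha))
  · conv_lhs => rw [heq]
    refine iSup₂_le fun B hB => ?_
    rw [← (hX B hB.1).block.2.1]
    exact commutator_mono (h.X_le_blkE hA hX hB.1 hE hB.2) le_rfl
  · exact (hX B1 hB1).block.2.2.2.1 (le_bot_iff.1 (hbot ▸ commutator_mono (h.X_le_blkE hA hX hB1 hE hB1E) le_rfl))
  rw [hQW, hQ, ← hEdef]
  rw [← hEdef] at hVn hVE himgV
  have hEn : E ≤ normalizer ((⁅V, E⁆ : Subgroup G) : Set G) := normalizer_commutator_ge_right V E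
  refine ⟨hEn, inf_le_left, ?_⟩
  let g : ↥E →* ↥Eb := (mk.comp E.subtype).codRestrict Eb fun x => hle ⟨x, hEdef ▸ x.2, rfl⟩
  let ψ' : ↥(⁅V, E⁆ : Subgroup G) →* Multiplicative (Fin (2 * m + 1) → ZMod 2) :=
    MonoidHom.mk' (fun u => Multiplicative.ofAdd (ψ (Additive.ofMul (⟨u, hVn u.2⟩ : ↥V)))) fun a b => by
      rw [← ofAdd_add, ← map_add]; rfl
  have hψ : ∀ u, Multiplicative.toAdd (ψ' u) = ψ (Additive.ofMul (⟨u, hVn u.2⟩ : ↥V)) := fun u => rfl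
  refine ⟨ρ.comp g, ψ', ?_, fun u => by rw [hψ]; exact hr.sum0 _, fun v hv => ?_, fun u => ?_, fun x u => ?_⟩
  · refine le_antisymm ?_ fun σ hσ => ?_
    · rintro _ ⟨x, rfl⟩
      exact Equiv.Perm.mem_alternatingGroup.2 ((hr.mem_res h.pm hA (g x)).1 (himg.le ⟨x, hEdef ▸ x.2, rfl⟩))
    · obtain ⟨w, rfl⟩ := hr.bij.2 σ
      obtain ⟨x, hx, hxe⟩ := himg.ge ((hr.mem_res h.pm hA w).2 (Equiv.Perm.mem_alternatingGroup.1 hσ))
      exact ⟨⟨x, hEdef ▸ hx⟩, congrArg ρ (Subtype.ext hxe)⟩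
  · obtain ⟨u, rfl⟩ := hr.surj v hv
    obtain ⟨w, hw, huw⟩ := (two_blocks h.pm).cover Eb hE u
    refine ⟨⟨(Additive.toMul w : ↥V), himgV w hw⟩, ?_⟩
    rw [hψ]
    have h0 := (hr.ker _).2 huw
    rw [map_sub, sub_eq_zero] at h0
    rw [h0]
    rfl
  · obtain ⟨v, hv⟩ : ∃ v, v = Additive.ofMul (⟨u, hVn u.2⟩ : ↥V) := ⟨_, rfl⟩
    constructor
    · intro hu
      have h0 : ψ v = 0 := hv ▸ congrArg Multiplicative.toAdd hu
      refine ⟨u.2, mem_centralizer_iff.2 fun x hx => ?_⟩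
      have h1 := h.fix_iff.1 ((hr.ker v).1 h0 (mk x) (hle ⟨x, hEdef ▸ hx, rfl⟩))
      rw [hv] at h1
      exact h1
    · intro hu
      refine Multiplicative.toAdd.injective ?_
      rw [hψ, ← hv, toAdd_one]
      have hfix : ∀ x : Eb, Equiv.Perm.sign (ρ x) = 1 → act (x : P) v = v := fun x hx => by
        obtain ⟨g', hg', hge⟩ := himg.ge ((hr.mem_res h.pm hA x).2 hx)
        rw [← hge]
        refine h.fix_iff.2 ?_
        rw [hv]
        exact mem_centralizer_iff.1 hu.2 g' (hEdef ▸ hg')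
      have hcon : ∀ a b, ψ v a = ψ v b := by
        intro a b
        by_cases hab : a = b
        · rw [hab]
        obtain ⟨c, hc⟩ : ∃ c, c ∉ ({a, b} : Finset (Fin (2 * m + 1))) := by
          obtain ⟨z, -, hz⟩ := Finset.exists_mem_notMem_of_card_lt_card (s := ({a, b} : Finset (Fin (2 * m + 1))))
            (t := Finset.univ) (by
              rw [Finset.card_univ, Fintype.card_fin]
              exact lt_of_le_of_lt Finset.card_le_two (by have := hr.one_le; omega))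
          exact ⟨z, hz⟩
        simp only [Finset.mem_insert, Finset.mem_singleton, not_or] at hc
        obtain ⟨x, hx⟩ := hr.bij.2 (Equiv.swap b c * Equiv.swap a b)
        have h1 := hfix x (by
          rw [hx, map_mul, Equiv.Perm.sign_swap (Ne.symm hc.2), Equiv.Perm.sign_swap hab]; decide)
        have hxa : ρ x a = c := by
          rw [hx, Equiv.Perm.mul_apply, Equiv.swap_apply_left, Equiv.swap_apply_left]
        have hxb : ρ x b = a := by
          rw [hx, Equiv.Perm.mul_apply, Equiv.swap_apply_right, Equiv.swap_apply_of_ne_of_ne hab (Ne.symm hc.1)]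
        have h2 := hr.eqv x v a
        rw [h1, show (ρ x)⁻¹ a = b by rw [← hxb, ← Equiv.Perm.mul_apply, inv_mul_cancel]; rfl] at h2
        exact h2
      funext i
      have hs := hr.sum0 v
      rw [Finset.sum_congr rfl fun k _ => hcon k i, Finset.sum_const, Finset.card_univ, Fintype.card_fin,
        odd_smul (odd_two_mul_add_one m) (zmod2_add_self _)] at hs
      exact hs
  · obtain ⟨w, hw⟩ : ∃ w : ↥(⁅V, E⁆ : Subgroup G), (w : G) = (x : G) * (u : G) * (x : G)⁻¹ :=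
      ⟨⟨_, (mem_normalizer_iff.1 (hEn x.2) _).1 u.2⟩, rfl⟩
    refine ⟨w, hw, fun i => ?_⟩
    rw [hψ, hψ]
    refine Eq.trans ?_ (hr.eqv (g x) _ i)
    refine congrArg (fun z => ψ z i) (Additive.toMul.injective (Subtype.ext ?_))
    exact hw.trans (h.conj (x : G) (Additive.ofMul (⟨u, hVn u.2⟩ : ↥V))).symm

/-- The elements of a block in `C*` are those fixing the free point. -/
theorem Ctx.blkE_cStar {Eb : Subgroup P} {m : ℕ} {inf : Fin (2 * m + 1)} {ρ : Eb →* Equiv.Perm (Fin (2 * m + 1))}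
    {ψ : Additive ↥V →+ (Fin (2 * m + 1) → ZMod 2)} (hE : isBlk act Eb)
    (hr : BlkRep act ((T : Subgroup G).map mk) (M.map mk) Eb m inf ρ ψ) {g : G} (hg : mk g ∈ Eb) :
    g ∈ cStarOf 2 (T : Subgroup G) ↔ ρ ⟨mk g, hg⟩ inf = inf := by
  constructor
  · intro h1
    exact (hr.mem_M ⟨mk g, hg⟩).1 (h.mem_M_iff.2 (h.cStar_le_M h1))
  · intro h1
    refine (le_sup_left : centralizer (omegaOneCenter 2 (T : Subgroup G) : Set G) ≤ cStarOf 2 (T : Subgroup G)) ?_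
    refine mem_centralizer_iff.2 fun z hz => ?_
    have hu : Additive.ofMul (⟨z, h.omT_le_V hz⟩ : ↥V) ∈ fix act ((T : Subgroup G).map mk) :=
      h.mem_fix_map.2 (mem_centralizer_iff.2 fun t ht => (mem_centralizer_iff.1 (h.T_le_centZ ht) z hz).symm)
    exact (h.fix_iff.1 (hr.fix_T ⟨mk g, hg⟩ h1 _ hu)).symm

theorem Ctx.blkE_inter {s : Finset (Subgroup P)} (hs : ∀ Eb ∈ s, isBlk act Eb) :
    ∀ x ∈ ⨆ Eb ∈ s, blkE 2 mk V Eb, x ∈ M →
      x ∈ ⨆ Eb ∈ s, (cStarOf 2 (T : Subgroup G) ⊓ blkE 2 mk V Eb) := by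
  classical
  induction s using Finset.induction_on with
  | empty =>
    intro x hx _
    simp only [Finset.notMem_empty, iSup_false, iSup_bot, Subgroup.mem_bot] at hx
    rw [hx]; exact one_mem _
  | insert Eb s hEs ih =>
    intro x hx hxM
    have hE := hs Eb (Finset.mem_insert_self _ _)
    have hs' : ∀ E' ∈ s, isBlk act E' := fun E' hE' => hs E' (Finset.mem_insert_of_mem hE')
    rw [Finset.iSup_insert] at hx
    have himgle : ∀ E', isBlk act E' → (blkE 2 mk V E').map mk ≤ E' := fun E' hE' =>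
      (h.blkE_eq hA hX hE').2.le.trans (res_le E')
    have hnorm : (⨆ E' ∈ s, blkE 2 mk V E') ≤ normalizer (blkE 2 mk V Eb : Set G) := iSup₂_le fun E' hE' =>
      (map_le_iff_le_comap.1 ((himgle E' (hs' E' hE')).trans (le_sSup (hs' E' hE')))).trans
        (h.blkE_subnormal hE).1
    rw [← SetLike.mem_coe, coe_mul_of_right_le_normalizer_left _ _ hnorm] at hx
    obtain ⟨a, ha, c, hc, rfl⟩ := hx
    have haE : mk a ∈ Eb := himgle Eb hE ⟨a, ha, rfl⟩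
    have hcE : mk c ∈ centralizer (Eb : Set P) := by
      have hle : (⨆ E' ∈ s, blkE 2 mk V E').map mk ≤ centralizer (Eb : Set P) := by
        simp only [Subgroup.map_iSup]
        refine iSup₂_le fun E' hE' => (himgle E' (hs' E' hE')).trans fun z hz => mem_centralizer_iff.2 fun l hl =>
          (two_blocks h.pm).comm Eb E' hE (hs' E' hE') (fun e => hEs (e ▸ hE')) l hl z hz
      exact hle ⟨c, hc, rfl⟩
    obtain ⟨m, inf, ρ, ψ, hr⟩ := exists_rep h.pm hA hE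
    have hfix : ρ ⟨mk a, haE⟩ inf = inf := by
      by_contra hmv
      obtain ⟨σ, hσ⟩ : ∃ σ, σ = ρ ⟨mk a, haE⟩ := ⟨_, rfl⟩
      rw [← hσ] at hmv
      obtain ⟨d, hd⟩ : ∃ d, d = σ⁻¹ inf := ⟨_, rfl⟩
      have hσd : σ d = inf := by rw [hd, ← Equiv.Perm.mul_apply, mul_inv_cancel]; rfl
      obtain ⟨e, he⟩ : ∃ e, e ∉ ({inf, d} : Finset (Fin (2 * m + 1))) := by
        obtain ⟨z, -, hz⟩ := Finset.exists_mem_notMem_of_card_lt_card (s := ({inf, d} : Finset (Fin (2 * m + 1))))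
          (t := Finset.univ) (by
            rw [Finset.card_univ, Fintype.card_fin]
            exact lt_of_le_of_lt Finset.card_le_two (by have := hr.one_le; omega))
        exact ⟨z, hz⟩
      simp only [Finset.mem_insert, Finset.mem_singleton, not_or] at he
      have hdi : d ≠ inf := fun e' => hmv (e' ▸ hσd : σ inf = inf)
      obtain ⟨s0, hs0⟩ := hr.bij.2 (Equiv.swap d e)
      have hs0M : (s0 : P) ∈ M.map mk := (hr.mem_M s0).2 (by
        rw [hs0, Equiv.swap_apply_of_ne_of_ne (Ne.symm hdi) (Ne.symm he.1)])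
      have hxM' : mk (a * c) ∈ M.map mk := h.mem_M_iff.2 hxM
      obtain ⟨z, hz⟩ : ∃ z, z = (⟨mk a, haE⟩ : Eb) * s0 * (⟨mk a, haE⟩ : Eb)⁻¹ := ⟨_, rfl⟩
      have hzM : (z : P) ∈ M.map mk := by
        have h2 := mul_mem (mul_mem hxM' hs0M) (inv_mem hxM')
        rw [map_mul, show mk a * mk c * (s0 : P) * (mk a * mk c)⁻¹ = mk a * (mk c * (s0 : P) * (mk c)⁻¹) * (mk a)⁻¹ by group,
          ← mem_centralizer_iff.1 hcE _ s0.2, mul_inv_cancel_right] at h2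
        rw [hz]; exact h2
      have h3 := (hr.mem_M z).1 hzM
      rw [hz, map_mul, map_mul, map_inv, hs0, ← hσ, ← Equiv.swap_apply_apply, hσd, Equiv.swap_apply_left] at h3
      exact he.2 (σ.injective (h3.trans hσd.symm))
    have haC := (h.blkE_cStar hA hX hE hr haE).2 hfix
    have hcM : c ∈ M := by
      have := mul_mem (inv_mem (h.cStar_le_M haC)) hxM
      rwa [inv_mul_cancel_left] at this
    rw [Finset.iSup_insert]
    exact mul_mem_sup ⟨haC, ha⟩ (ih hs' c hc hcM)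

theorem Ctx.blkE_case {Eb : Subgroup P} (hE : isBlk act Eb) :
    ∃ m : ℕ, Nonempty (↥(blkE 2 mk V Eb) ⧸ pCore 2 ↥(blkE 2 mk V Eb) ≃* ↥(alternatingGroup (Fin (2 * m + 1)))) ∧
      Nonempty (↥(((cStarOf 2 (T : Subgroup G) ⊓ blkE 2 mk V Eb).subgroupOf (blkE 2 mk V Eb)).map
        (QuotientGroup.mk' (pCore 2 ↥(blkE 2 mk V Eb)))) ≃* ↥(alternatingGroup (Fin (2 * m)))) := by
  classical
  obtain ⟨m, inf, ρ, ψ, hr⟩ := exists_rep h.pm hA hE
  obtain ⟨hle, e, he⟩ := h.blkE_quot hA hX hE hr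
  refine ⟨m, ⟨e⟩, ?_⟩
  obtain ⟨S0, hS0⟩ : ∃ S0, S0 = ((cStarOf 2 (T : Subgroup G) ⊓ blkE 2 mk V Eb).subgroupOf (blkE 2 mk V Eb)).map
    (QuotientGroup.mk' (pCore 2 ↥(blkE 2 mk V Eb))) := ⟨_, rfl⟩
  rw [← hS0]
  obtain ⟨S, hS⟩ : ∃ S, S = (S0.map e.toMonoidHom).map (alternatingGroup (Fin (2 * m + 1))).subtype := ⟨_, rfl⟩
  obtain ⟨e1⟩ := alt_point_stab inf (S := S) fun σ => by
    constructor
    · intro hσ
      rw [hS, hS0] at hσ
      obtain ⟨_, ⟨_, ⟨x, hx, rfl⟩, rfl⟩, rfl⟩ := hσ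
      refine ⟨Equiv.Perm.mem_alternatingGroup.1 (e _).2, ?_⟩
      show ((e (QuotientGroup.mk' _ x)) : Equiv.Perm (Fin (2 * m + 1))) inf = inf
      rw [he]
      exact (h.blkE_cStar hA hX hE hr _).1 (mem_subgroupOf.1 hx).1
    · rintro ⟨h1, h2⟩
      obtain ⟨z, hz⟩ := e.surjective ⟨σ, Equiv.Perm.mem_alternatingGroup.2 h1⟩
      obtain ⟨x, rfl⟩ := QuotientGroup.mk'_surjective _ z
      have h3 : ((e (QuotientGroup.mk' _ x)) : Equiv.Perm (Fin (2 * m + 1))) = σ := congrArg Subtype.val hz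
      rw [hS, hS0]
      refine ⟨_, ⟨_, ⟨x, mem_subgroupOf.2 ⟨?_, x.2⟩, rfl⟩, rfl⟩, h3⟩
      refine (h.blkE_cStar hA hX hE hr (hle ⟨x, x.2, rfl⟩)).2 ?_
      rw [← he, h3, h2]
  refine ⟨?_⟩
  exact ((S0.equivMapOfInjective e.toMonoidHom e.injective).trans
    ((S0.map e.toMonoidHom).equivMapOfInjective _ (subtype_injective _))).trans
      ((MulEquiv.subgroupCongr hS.symm).trans e1)

/-- The block structure when `q = 2`. -/
theorem Ctx.two_structure : ∃ 𝓑 : Set (Subgroup G), HasBaumannBlockStructure 2 (T : Subgroup G) 𝓑 ∧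
      (∀ E ∈ 𝓑, ∀ m : ℕ, Nonempty (↥E ⧸ pCore 2 ↥E ≃* ↥(alternatingGroup (Fin (2 * m + 1)))) →
        ∃ n : ℕ, 2 * m + 1 = 2 ^ n + 1) ∧
      cStarOf 2 (T : Subgroup G) = (cStarOf 2 (T : Subgroup G) ⊓ sSup 𝓑) ⊔ (T : Subgroup G) := by
  classical
  obtain ⟨𝓑, h𝓑⟩ : ∃ 𝓑 : Set (Subgroup G), 𝓑 = blkE 2 mk V '' {Eb | isBlk act Eb} := ⟨_, rfl⟩
  have hb := two_blocks h.pm
  have hmem : ∀ Eb, isBlk act Eb → blkE 2 mk V Eb ∈ 𝓑 := fun Eb hE => h𝓑 ▸ ⟨Eb, hE, rfl⟩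
  obtain ⟨h1, h2⟩ := h.assemble hA hX (𝓑 := 𝓑)
    (fun E hE => by
      rw [h𝓑] at hE; obtain ⟨Eb, hEb, rfl⟩ := hE
      exact ⟨h.blkE_block hA hX hEb, (h.blkE_subnormal hEb).2⟩)
    (fun E hE g => by
      rw [h𝓑] at hE; obtain ⟨Eb, hEb, rfl⟩ := hE
      rw [h.blkE_conj]
      exact hmem _ (hb.conj Eb hEb (mk g)))
    (fun B hB => by
      obtain ⟨Eb, hEb, hle⟩ := hb.mem B hB.1
      exact ⟨_, hmem Eb hEb, h.X_le_blkE hA hX hB hEb hle⟩)
    (fun x hx hxc => by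
      obtain ⟨s, hs⟩ : ∃ s : Finset (Subgroup P), ∀ Eb, Eb ∈ s ↔ isBlk act Eb :=
        ⟨(Set.toFinite {Eb | isBlk act Eb}).toFinset, fun Eb => Set.Finite.mem_toFinset _⟩
      refine (iSup₂_le fun Eb hEb => le_iSup₂_of_le _ (hmem Eb ((hs Eb).1 hEb)) le_rfl :
        (⨆ Eb ∈ s, (cStarOf 2 (T : Subgroup G) ⊓ blkE 2 mk V Eb)) ≤ _) ?_
      refine h.blkE_inter hA hX (fun Eb hEb => (hs Eb).1 hEb) x ?_ (h.cStar_le_M hxc)
      refine (sSup_le ?_ : sSup 𝓑 ≤ _) hx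
      rw [h𝓑]
      rintro _ ⟨Eb, hEb, rfl⟩
      exact le_iSup₂_of_le Eb ((hs Eb).2 hEb) le_rfl)
    (fun E hE => by
      rw [h𝓑] at hE; obtain ⟨Eb, hEb, rfl⟩ := hE
      exact Or.inr (Or.inl ⟨rfl, h.blkE_case hA hX hEb⟩))
  refine ⟨𝓑, h1, fun E hE m' hm' => ?_, h2⟩
  rw [h𝓑] at hE
  obtain ⟨Eb, hEb, rfl⟩ := hE
  obtain ⟨m, inf, ρ, ψ, hr⟩ := exists_rep h.pm hA hEb
  obtain ⟨hle, e, -⟩ := h.blkE_quot hA hX hEb hr
  obtain ⟨e'⟩ := hm'
  obtain ⟨n, hn⟩ := hr.pow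
  refine ⟨n, ?_⟩
  rw [← hn]
  have hm1 := hr.one_le
  haveI : Nontrivial (Fin (2 * m + 1)) := Fin.nontrivial_iff_two_le.2 (by omega)
  have hcard := Nat.card_congr (e.symm.trans e').toEquiv
  rcases Nat.eq_zero_or_pos m' with rfl | hpos
  · exfalso
    haveI : Subsingleton (Equiv.Perm (Fin (2 * 0 + 1))) := by
      show Subsingleton (Equiv.Perm (Fin 1)); infer_instance
    rw [Nat.card_unique (α := ↥(alternatingGroup (Fin (2 * 0 + 1)))), nat_card_alternatingGroup, Nat.card_fin] at hcard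
    have h3 : Nat.factorial 3 ≤ Nat.factorial (2 * m + 1) := Nat.factorial_le (by omega)
    rw [show Nat.factorial 3 = 6 from rfl] at h3
    omega
  · haveI : Nontrivial (Fin (2 * m' + 1)) := Fin.nontrivial_iff_two_le.2 (by omega)
    rw [nat_card_alternatingGroup, nat_card_alternatingGroup, Nat.card_fin, Nat.card_fin] at hcard
    have hev : ∀ k : ℕ, 2 ≤ k → 2 ∣ k.factorial := fun k hk => Nat.dvd_factorial (by norm_num) hk
    have h4 : (2 * m + 1).factorial = (2 * m' + 1).factorial := by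
      have a1 := Nat.div_mul_cancel (hev (2 * m + 1) (by omega))
      have a2 := Nat.div_mul_cancel (hev (2 * m' + 1) (by omega))
      rw [← a1, ← a2, hcard]
    exact ((Nat.factorial_inj (by omega : 1 < 2 * m + 1)).1 h4).symm

end CfsgLib.LocalEven.PMinPush
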