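import Cfsg.Agent.Lib.LocalEven.PMinPush.Big
import Cfsg.Agent.Lib.LocalEven.PMinPush.Two
import Cfsg.Agent.Lib.LocalEven.PMinFF.Structure
import Cfsg.Agent.Lib.PLocal.Thompson

/-!
# Pushing up for minimal parabolic groups
-/

set_option autoImplicit false
set_option linter.all false

namespace CfsgLib.LocalEven.PMinPush

open Cfsg
open scoped IsMulCommutative

section
variable {G : Type*} [Group G] [Finite G] {p : ℕ} [Fact p.Prime] (T : Sylow p G)

/-- Some largest elementary abelian subgroup lies outside a normal subgroup `C` with `T ∩ C` not carrying `J(T)`. -/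
theorem exists_not_le {C : Subgroup G} [C.Normal]
    (hne : Subgroup.normalizer (thompsonSubgroupOf p (T : Subgroup G) : Set G) ⊔ C ≠ ⊤) :
    ∃ A ∈ maxElementaryAbelianSubgroups p G, ¬ A ≤ C := by
  by_contra hall
  push Not at hall
  have hJC : thompsonSubgroupOf p (T : Subgroup G) ≤ (T : Subgroup G) ⊓ C := by
    refine le_inf (Subgroup.map_subtype_le _) ?_
    rw [CfsgLib.Transfer.thompsonOf_eq_sSup]
    refine sSup_le fun A hA => hall A ⟨hA.2.1, fun B hB => ?_⟩
    obtain ⟨k, -, hk⟩ := (PMinFF.MaxP.of_sylow T (le_top : _ ≤ (⊤ : Subgroup G))).exists_conj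
      (CfsgLib.PLocal.isPGroup_of_elementary hB) le_top
    haveI := hB.1
    rw [← PMinFF.card_cj k B]
    exact hA.2.2 _ hk ⟨Subgroup.map_isMulCommutative _ _, by rintro _ ⟨b, hb, rfl⟩; rw [← map_pow, hB.2 b hb, map_one]⟩
  have hmax : PMinFF.MaxP p ((T : Subgroup G) ⊓ C) C := by
    refine ⟨inf_le_right, T.2.to_le inf_le_left, fun S h1 h2 h3 => ?_⟩
    obtain ⟨k, -, hk⟩ := (PMinFF.MaxP.of_sylow T (le_top : _ ≤ (⊤ : Subgroup G))).exists_conj h3 le_top
    refine (Subgroup.eq_of_le_of_card_ge h1 ((PMinFF.card_cj k S).ge.trans (Subgroup.card_le_of_le ?_))).symm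
    exact le_inf hk (PMinFF.cj_le.2 fun a ha => Subgroup.Normal.conj_mem inferInstance a (h2 ha) k)
  refine hne (eq_top_iff.2 fun g _ => ?_)
  obtain ⟨n, hn, hle⟩ := hmax.exists_conj (PMinFF.isPGroup_cj (x := g) hmax.pgr)
    (PMinFF.cj_le.2 fun a ha => Subgroup.Normal.conj_mem inferInstance a ha.2 g)
  rw [PMinFF.cj_cj] at hle
  have h0 : PMinFF.cj (n * g) ((T : Subgroup G) ⊓ C) = (T : Subgroup G) ⊓ C :=
    Subgroup.eq_of_le_of_card_ge hle (PMinFF.card_cj _ _).ge
  have h1 : thompsonSubgroupOf p (T : Subgroup G) ≤ (((n * g) • T : Sylow p G) : Subgroup G) :=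
    hJC.trans (h0.ge.trans (PMinFF.cj_mono inf_le_left))
  have h2 := CfsgLib.LocalEvenB.thompson_eq_of_le h1
  have h3 : (thompsonSubgroupOf p (T : Subgroup G)).map (MulAut.conj (n * g)).toMonoidHom =
      thompsonSubgroupOf p (T : Subgroup G) := by
    rw [CfsgLib.PLocal.thompsonOf_conj]; exact h2
  have h4 : n * g ∈ Subgroup.normalizer (thompsonSubgroupOf p (T : Subgroup G) : Set G) :=
    PMinFF.mem_normalizer_of_conj (PMinFF.cj_le.1 h3.le)
  rw [show g = n⁻¹ * (n * g) by group]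
  exact mul_mem (Subgroup.mem_sup_right (inv_mem hn)) (Subgroup.mem_sup_left h4)

/-- Pushing up for minimal parabolic groups. -/
theorem pushing_up (hmin : IsPMinimal p G)
    (hG : Subgroup.centralizer (pCore p G : Set G) ≤ pCore p G)
    (hchar : ∀ C : Subgroup G, C ≤ baumannSubgroupOf p (T : Subgroup G) → C ≠ ⊥ →
      (C.subgroupOf (baumannSubgroupOf p (T : Subgroup G))).Characteristic → ¬ C.Normal)
    (hz : ¬ (omegaOneCenter p (T : Subgroup G)).Normal) :
    ∃ 𝓑 : Set (Subgroup G), HasBaumannBlockStructure p (T : Subgroup G) 𝓑 ∧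
      (∀ E ∈ 𝓑, ∀ m : ℕ, Nonempty (↥E ⧸ pCore p ↥E ≃* ↥(alternatingGroup (Fin (2 * m + 1)))) →
        ∃ n : ℕ, 2 * m + 1 = 2 ^ n + 1) ∧
      cStarOf p (T : Subgroup G) = (cStarOf p (T : Subgroup G) ⊓ sSup 𝓑) ⊔ (T : Subgroup G) := by
  classical
  obtain ⟨V, hV⟩ : ∃ V, V = omegaOneCenter p (pCore p G) := ⟨_, rfl⟩
  obtain ⟨C, hC⟩ : ∃ C, C = Subgroup.centralizer (V : Set G) := ⟨_, rfl⟩
  have hmemV : ∀ {x : G}, x ∈ V ↔ x ∈ pCore p G ⊓ Subgroup.centralizer (pCore p G : Set G) ∧ x ^ p = 1 :=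
    fun {x} => by rw [hV]; exact CfsgLib.LocalEvenB.PushCL.mem_omegaOneCenter
  haveI hQn : (pCore p G).Normal := CfsgLib.Core.normal_pCore p G
  haveI hVn : V.Normal := ⟨fun v hv g => by
    obtain ⟨⟨h1, h2⟩, h3⟩ := hmemV.1 hv
    refine hmemV.2 ⟨⟨hQn.conj_mem v h1 g, Subgroup.mem_centralizer_iff.2 fun q hq => ?_⟩, by rw [conj_pow, h3, mul_one, mul_inv_cancel]⟩
    have h4 := Subgroup.mem_centralizer_iff.1 h2 _ (hQn.conj_mem q hq g⁻¹)
    simpa [mul_assoc] using congrArg (fun z => g * z * g⁻¹) h4⟩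
  have hVel : Cfsg.IsElementaryAbelian p V :=
    ⟨⟨⟨fun a b => Subtype.ext ((Subgroup.mem_centralizer_iff.1 (hmemV.1 b.2).1.2 a (hmemV.1 a.2).1.1))⟩⟩,
      fun v hv => (hmemV.1 hv).2⟩
  haveI hCn : C.Normal := ⟨fun c hc g => by
    rw [hC, Subgroup.mem_centralizer_iff] at hc ⊢
    intro v hv
    have h4 := hc _ (hVn.conj_mem v hv g⁻¹)
    simpa [mul_assoc] using congrArg (fun z => g * z * g⁻¹) h4⟩
  haveI := hVel.1
  letI : CommGroup ↥V := { (inferInstance : Group ↥V) with mul_comm := fun a b => mul_comm' a b }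
  obtain ⟨actG, hactG⟩ : ∃ act : G →* AddMonoid.End (Additive ↥V), ∀ (g : G) (v : Additive ↥V),
      ((Additive.toMul (act g v) : ↥V) : G) = g * (Additive.toMul v : ↥V) * g⁻¹ :=
    ⟨{ toFun := fun g => MonoidHom.toAdditive (MulAut.conjNormal (H := V) g).toMonoidHom
       map_one' := AddMonoidHom.ext fun v => Subtype.ext (show (1 : G) * ((Additive.toMul v : ↥V) : G) * (1 : G)⁻¹ = ((Additive.toMul v : ↥V) : G) by simp)
       map_mul' := fun g k => AddMonoidHom.ext fun v => Subtype.ext (by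
         show ((g : G) * k) * _ * ((g : G) * k)⁻¹ = (g : G) * ((k : G) * _ * (k : G)⁻¹) * (g : G)⁻¹
         group) }, fun g v => rfl⟩
  have hker : ∀ g, g ∈ C ↔ actG g = 1 := fun g => by
    rw [hC, Subgroup.mem_centralizer_iff]
    constructor
    · intro h
      refine AddMonoidHom.ext fun v => Additive.toMul.injective (Subtype.ext ((hactG g v).trans ?_))
      rw [← h _ (Additive.toMul v).2, mul_inv_cancel_right]
      rfl
    · intro h v hv
      have h2 := hactG g (Additive.ofMul ⟨v, hv⟩)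
      rw [h] at h2
      exact eq_mul_inv_iff_mul_eq.1 h2
  obtain ⟨mk, hmk, hmks, hmkC⟩ : ∃ mk : G →* G ⧸ C, (mk = QuotientGroup.mk' C) ∧ Function.Surjective mk ∧ mk.ker = C :=
    ⟨_, rfl, QuotientGroup.mk'_surjective C, QuotientGroup.ker_mk' C⟩
  obtain ⟨act, hact⟩ : ∃ act : G ⧸ C →* AddMonoid.End (Additive ↥V), ∀ g, act (mk g) = actG g :=
    ⟨QuotientGroup.lift C actG fun g hg => (hker g).1 hg, fun g => by rw [hmk]; rfl⟩
  have hconj : ∀ (g : G) (v : Additive ↥V),
      ((Additive.toMul (act (mk g) v) : ↥V) : G) = g * (Additive.toMul v : ↥V) * g⁻¹ := fun g v => by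
    rw [hact, hactG]
  -- `Ω₁Z(T) ≤ V` and `CT ≤ C**`
  have hQT : pCore p G ≤ (T : Subgroup G) := CfsgLib.Core.pCore_le_sylow T
  have hZV : omegaOneCenter p (T : Subgroup G) ≤ V := fun x hx => by
    obtain ⟨⟨h1, h2⟩, h3⟩ := CfsgLib.LocalEvenB.PushCL.mem_omegaOneCenter.1 hx
    have h4 : x ∈ Subgroup.centralizer (pCore p G : Set G) := Subgroup.centralizer_le hQT h2
    exact hmemV.2 ⟨⟨hG h4, h4⟩, h3⟩
  have hTZ : (T : Subgroup G) ≤ Subgroup.centralizer (omegaOneCenter p (T : Subgroup G) : Set G) := fun t ht =>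
    Subgroup.mem_centralizer_iff.2 fun x hx =>
      (Subgroup.mem_centralizer_iff.1 (CfsgLib.LocalEvenB.PushCL.mem_omegaOneCenter.1 hx).1.2 t ht).symm
  have hCZ : C ≤ Subgroup.centralizer (omegaOneCenter p (T : Subgroup G) : Set G) := hC ▸ Subgroup.centralizer_le hZV
  have hZtop : Subgroup.centralizer (omegaOneCenter p (T : Subgroup G) : Set G) ≠ ⊤ := fun e => hz
    ⟨fun z hz g => by
      rw [← Subgroup.mem_centralizer_iff.1 (e.ge (Subgroup.mem_top g)) z hz, mul_inv_cancel_right]; exact hz⟩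
  have hCT : (T : Subgroup G) ⊔ C ≠ ⊤ := fun e => hZtop (top_le_iff.1 (e ▸ sup_le hTZ hCZ))
  obtain ⟨-, M, ⟨hM, hTM⟩, -⟩ := hmin T
  have hCM : C ≤ M := le_sup_right.trans (PMinimalCore.le_of_sylow_le hmin T hM hTM le_sup_left hCT)
  obtain ⟨Tb, hTb⟩ : ∃ Tb, Tb = (T : Subgroup G).map mk := ⟨_, rfl⟩
  obtain ⟨Mb, hMb⟩ : ∃ Mb, Mb = M.map mk := ⟨_, rfl⟩
  have hMc : Mb.comap mk = M := by rw [hMb, Subgroup.comap_map_eq, hmkC, sup_eq_left.2 hCM]
  have hsyl : PMinFF.MaxP p Tb ⊤ := by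
    have h := PMinFF.MaxP.of_sylow (T.mapSurjective hmks) (le_top : _ ≤ (⊤ : Subgroup (G ⧸ C)))
    rwa [Sylow.coe_mapSurjective, ← hTb] at h
  have hpmin : ∀ X : Subgroup (G ⧸ C), Tb ≤ X → X ≠ ⊤ → X ≤ Mb := fun X hX hXne => by
    have h1 := PMinimalCore.le_of_sylow_le hmin T hM hTM (X := X.comap mk) (Subgroup.map_le_iff_le_comap.1 (hTb ▸ hX))
      fun e => hXne (by rw [← Subgroup.map_comap_eq_self_of_surjective hmks X, e, Subgroup.map_top_of_surjective _ hmks])
    rw [← Subgroup.map_comap_eq_self_of_surjective hmks X, hMb]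
    exact Subgroup.map_mono h1
  obtain ⟨z, hzZ, hzg⟩ : ∃ z ∈ omegaOneCenter p (T : Subgroup G), ∃ g : G, g * z ≠ z * g := by
    by_contra hall
    push Not at hall
    refine hZtop (eq_top_iff.2 fun g _ => ?_)
    exact Subgroup.mem_centralizer_iff.2 fun z hz => (hall z hz g).symm
  obtain ⟨y, hy⟩ : ∃ y : Additive ↥V, y = Additive.ofMul ⟨z, hZV hzZ⟩ := ⟨_, rfl⟩
  have hyT : y ∈ OffSL2.fix act Tb := by
    rw [hTb]
    rintro _ ⟨t, ht, rfl⟩
    refine Additive.toMul.injective (Subtype.ext ?_)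
    rw [hconj, hy, toMul_ofMul, ← Subgroup.mem_centralizer_iff.1 (hTZ ht) z hzZ, mul_inv_cancel_right]
  have hP : PMinFF.PMod p act Tb Mb y :=
    { inj := by
        rw [injective_iff_map_eq_one]
        intro x hx
        obtain ⟨g, rfl⟩ := hmks x
        rw [hact, ← hker g] at hx
        exact MonoidHom.mem_ker.1 (hmkC.ge hx)
      hpU := fun v => by
        refine Additive.toMul.injective (Subtype.ext ?_)
        rw [toMul_nsmul, SubmonoidClass.coe_pow, hVel.2 _ (Additive.toMul v).2]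
        rfl
      syl := hsyl
      pmin := hpmin
      TM := by rw [hTb, hMb]; exact Subgroup.map_mono hTM
      Mne := fun e => hM.1 (by rw [← hMc, e, Subgroup.comap_top])
      nop := fun N hN hn => by
        obtain ⟨N', hN'⟩ : ∃ N', N' = N.comap mk := ⟨_, rfl⟩
        haveI hN'n : N'.Normal := ⟨fun n hn' g => by
          rw [hN', Subgroup.mem_comap] at hn' ⊢
          rw [map_mul, map_mul, map_inv]; exact hn _ _ hn'⟩
        have hNT : N ≤ Tb := by
          obtain ⟨k, -, hk⟩ := hsyl.exists_conj hN le_top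
          intro x hx
          have h1 := hk (PMinFF.conj_mem_cj (x := k) (hn k⁻¹ x hx))
          simpa [mul_assoc] using h1
        obtain ⟨T0, hT0⟩ : ∃ T0, T0 = (T : Subgroup G) ⊓ N' := ⟨_, rfl⟩
        have hT0C : T0 ≤ C := by
          have hn0 : (T : Subgroup G) ≤ Subgroup.normalizer (T0 : Set G) := fun t ht =>
            PMinFF.mem_normalizer_of_conj fun a ha => by
              rw [hT0] at ha ⊢
              exact ⟨(T : Subgroup G).mul_mem ((T : Subgroup G).mul_mem ht ha.1) ((T : Subgroup G).inv_mem ht), hN'n.conj_mem a ha.2 t⟩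
          have hp0 : IsPGroup p T0 := T.2.to_le (hT0 ▸ inf_le_left)
          by_cases hnorm : Subgroup.normalizer (T0 : Set G) = ⊤
          · haveI : T0.Normal := ⟨fun n hn' g => (Subgroup.mem_normalizer_iff.1 (hnorm.ge (Subgroup.mem_top g)) n).1 hn'⟩
            have hQC : pCore p G ≤ C := by
              rw [hC, Subgroup.le_centralizer_iff]
              exact fun v hv => (hmemV.1 hv).1.2
            exact (CfsgLib.Core.le_pCore hp0).trans hQC
          exfalso
          have hnM := PMinimalCore.le_of_sylow_le hmin T hM hTM hn0 hnorm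
          have hmax : PMinFF.MaxP p T0 N' := by
            refine ⟨hT0 ▸ inf_le_right, hp0, fun S h1 h2 h3 => ?_⟩
            obtain ⟨k, -, hk⟩ := (PMinFF.MaxP.of_sylow T (le_top : _ ≤ (⊤ : Subgroup G))).exists_conj h3 le_top
            refine (Subgroup.eq_of_le_of_card_ge h1 ((PMinFF.card_cj k S).ge.trans (Subgroup.card_le_of_le ?_))).symm
            rw [hT0]
            exact le_inf hk (PMinFF.cj_le.2 fun a ha => hN'n.conj_mem a (h2 ha) k)
          have hN'M : N' ≤ M := by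
            rw [← hMc, hN', hMb]
            exact Subgroup.comap_mono (hNT.trans (hTb ▸ Subgroup.map_mono hTM))
          refine hM.1 (eq_top_iff.2 fun g _ => ?_)
          obtain ⟨n, hn', hle⟩ := hmax.exists_conj (PMinFF.isPGroup_cj (x := g) hp0)
            (PMinFF.cj_le.2 fun a ha => hN'n.conj_mem a (hmax.le ha) g)
          rw [PMinFF.cj_cj] at hle
          have := mul_mem (inv_mem (hN'M hn')) (hnM (PMinFF.mem_normalizer_of_conj (PMinFF.cj_le.1 hle) : n * g ∈ _))
          simpa [← mul_assoc] using this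
        rw [eq_bot_iff]
        intro x hx
        obtain ⟨t, ht, rfl⟩ := (hTb ▸ hNT hx : x ∈ (T : Subgroup G).map mk)
        exact Subgroup.mem_bot.2 (MonoidHom.mem_ker.1 (hmkC.ge (hT0C (hT0 ▸ ⟨ht, by rw [hN']; exact hx⟩))))
      hy := hyT
      stab := hpmin _ (fun t ht => hyT t ht) fun e => by
        obtain ⟨g, hg⟩ := hzg
        have h1 : act (mk g) y = y := e.ge (Subgroup.mem_top (mk g))
        have h2 := hconj g y
        rw [h1, hy] at h2
        exact hg (eq_mul_inv_iff_mul_eq.1 h2).symm }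
  -- images of largest elementary abelian subgroups are exact
  have hcomp : ∀ S : Subgroup (G ⧸ C), ∃ τ : S.comap mk →* S, PMinFF.Compat act S (S.comap mk) τ ∧
      ∀ x, ((τ x : S) : G ⧸ C) = mk (x : G) := fun S => by
    refine ⟨(mk.comp (S.comap mk).subtype).codRestrict S fun x => x.2, ⟨fun x => ?_, fun x v => hconj _ v⟩, fun x => rfl⟩
    obtain ⟨g, hg⟩ := hmks x
    exact ⟨⟨g, show mk g ∈ S from hg.symm ▸ x.2⟩, Subtype.ext hg⟩
  have hexact : ∀ A ∈ maxElementaryAbelianSubgroups p G, PMinFF.Exact p act (A.map mk) := by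
    intro A hA
    have hel : PMinFF.El p (A.map mk) := by
      constructor
      · rintro _ ⟨a, ha, rfl⟩ _ ⟨b, hb, rfl⟩
        haveI := hA.1.1
        rw [← map_mul, ← map_mul, show a * b = b * a from congrArg Subtype.val (mul_comm' (⟨a, ha⟩ : A) ⟨b, hb⟩)]
      · rintro _ ⟨a, ha, rfl⟩
        rw [← map_pow, hA.1.2 a ha, map_one]
    refine ⟨hel, le_antisymm (PMinFF.meas_le_card hP hel) ?_⟩
    have hb := (CfsgLib.PLocal.bestOffender_of_maxElementary hVel hA).1 (A ⊓ C) inf_le_left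
    rw [inf_eq_left.2 (Subgroup.le_centralizer_iff.1 (hC ▸ inf_le_right : A ⊓ C ≤ Subgroup.centralizer (V : Set G)))] at hb
    have hcard : Nat.card A = Nat.card (A.map mk) * Nat.card ↥(A ⊓ C) := by
      rw [Subgroup.card_eq_card_quotient_mul_card_subgroup (mk.comp A.subtype).ker,
        Nat.card_congr (QuotientGroup.quotientKerEquivRange _).toEquiv, MonoidHom.range_comp, Subgroup.range_subtype]
      congr 1
      refine Nat.card_congr
        { toFun := fun a => ⟨((a : A) : G), (a : A).2, hmkC.le a.2⟩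
          invFun := fun a => ⟨⟨(a : G), a.2.1⟩, hmkC.ge a.2.2⟩
          left_inv := fun a => rfl
          right_inv := fun a => rfl }
    have hfix : Nat.card (OffSL2.fix act (A.map mk)) = Nat.card ↥(V ⊓ Subgroup.centralizer (A : Set G)) := by
      have hiff : ∀ v : Additive ↥V, v ∈ OffSL2.fix act (A.map mk) ↔
          ((Additive.toMul v : ↥V) : G) ∈ Subgroup.centralizer (A : Set G) := by
        intro v
        rw [Subgroup.mem_centralizer_iff]
        constructor
        · intro h a ha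
          have h2 := hconj a v
          rw [h _ ⟨a, ha, rfl⟩] at h2
          exact (eq_mul_inv_iff_mul_eq.1 h2).symm
        · rintro h _ ⟨a, ha, rfl⟩
          refine Additive.toMul.injective (Subtype.ext ((hconj a v).trans ?_))
          rw [mul_inv_eq_iff_eq_mul]
          exact h a ha
      exact Nat.card_congr
        { toFun := fun v => ⟨((Additive.toMul (v : Additive ↥V) : ↥V) : G), (Additive.toMul (v : Additive ↥V)).2, (hiff v).1 v.2⟩
          invFun := fun v => ⟨Additive.ofMul ⟨(v : G), v.2.1⟩, (hiff _).2 v.2.2⟩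
          left_inv := fun v => rfl
          right_inv := fun v => rfl }
    rw [PMinFF.meas, hfix]
    refine (Nat.card_congr Additive.toMul).le.trans (Nat.le_of_mul_le_mul_left ?_ (Nat.card_pos : 0 < Nat.card ↥(A ⊓ C)))
    rw [hcard, mul_comm (Nat.card (A.map mk)), mul_assoc] at hb
    exact hb
  have hNJ : Subgroup.normalizer (thompsonSubgroupOf p (T : Subgroup G) : Set G) ≠ ⊤ := by
    intro e
    haveI hJ : (thompsonSubgroupOf p (T : Subgroup G)).Normal := Subgroup.normalizer_eq_top_iff.1 e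
    obtain ⟨W, hW⟩ : ∃ W, W = omegaOne p (centerThompsonOf p (T : Subgroup G)) := ⟨_, rfl⟩
    have hJQ : thompsonSubgroupOf p (T : Subgroup G) ≤ pCore p G :=
      CfsgLib.Core.le_pCore (T.2.to_le (Subgroup.map_subtype_le _))
    obtain ⟨A₁, hA₁, hA₁T⟩ := CfsgLib.PLocal.exists_maxElementary_le_sylow (p := p) T
    have hmax : CfsgLib.Transfer.MaxElem p (T : Subgroup G) A₁ := ⟨hA₁T, hA₁.1, fun B _ hB => hA₁.2 B hB⟩
    have hVW : V ≤ W := fun v hv => by
      have hcJ : ∀ j ∈ thompsonSubgroupOf p (T : Subgroup G), j * v = v * j := fun j hj =>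
        Subgroup.mem_centralizer_iff.1 (hmemV.1 hv).1.2 j (hJQ hj)
      have hvJ : v ∈ thompsonSubgroupOf p (T : Subgroup G) := CfsgLib.Transfer.le_thompsonOf_of_max hmax
        (CfsgLib.Transfer.mem_maxElem_of_centralizes hmax (hQT (hmemV.1 hv).1.1) (hmemV.1 hv).2
          (Subgroup.mem_centralizer_iff.2 fun a ha => hcJ a (CfsgLib.Transfer.le_thompsonOf_of_max hmax ha)))
      rw [hW]
      exact CfsgLib.PGroups.mem_omegaOne ⟨hvJ, Subgroup.mem_centralizer_iff.2 hcJ⟩ (hmemV.1 hv).2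
    have hWJ : W ≤ thompsonSubgroupOf p (T : Subgroup G) :=
      hW ▸ (CfsgLib.PGroups.omegaOne_le _).trans inf_le_left
    haveI hWn : W.Normal := ⟨fun w hw g => by
      have hle : W ≤ W.comap (MulAut.conj g).toMonoidHom := by
        conv_lhs => rw [hW]
        refine (Subgroup.closure_le _).2 fun x hx => ?_
        refine hW ▸ CfsgLib.PGroups.mem_omegaOne ?_ (by rw [← map_pow, hx.2, map_one])
        refine ⟨hJ.conj_mem x hx.1.1 g, Subgroup.mem_centralizer_iff.2 fun j hj => ?_⟩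
        have h4 := Subgroup.mem_centralizer_iff.1 hx.1.2 _ (hJ.conj_mem j hj g⁻¹)
        simpa [mul_assoc] using congrArg (fun z => g * z * g⁻¹) h4
      exact hle hw⟩
    haveI hCWn : (Subgroup.centralizer (W : Set G)).Normal := ⟨fun c hc g => by
      rw [Subgroup.mem_centralizer_iff] at hc ⊢
      intro w hw
      have h4 := hc _ (hWn.conj_mem w hw g⁻¹)
      simpa [mul_assoc] using congrArg (fun z => g * z * g⁻¹) h4⟩
    have hBT : baumannSubgroupOf p (T : Subgroup G) = pCore p G ⊓ Subgroup.centralizer (W : Set G) := by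
      rw [baumannSubgroupOf, ← hW]
      refine le_antisymm (le_inf ?_ inf_le_right) (inf_le_inf_right _ hQT)
      rw [inf_comm]
      exact PMinimalCore.inf_sylow_le_pCore hmin T hM hTM (Subgroup.Normal.isSubnormal inferInstance)
        ((Subgroup.centralizer_le hVW).trans (hC ▸ hCM))
    refine hchar _ le_rfl (fun e0 => ?_) (by rw [Subgroup.subgroupOf_self]; infer_instance) (hBT ▸ inferInstance)
    refine hz ?_
    have hZ0 : omegaOneCenter p (T : Subgroup G) = ⊥ := le_bot_iff.1 (e0 ▸ fun x hx => ⟨hQT (hmemV.1 (hZV hx)).1.1,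
      Subgroup.mem_centralizer_iff.2 fun w hw => Subgroup.mem_centralizer_iff.1 (hmemV.1 (hZV hx)).1.2 w
        (hJQ (hWJ (hW ▸ hw)))⟩)
    rw [hZ0]; infer_instance
  have hNJC : Subgroup.normalizer (thompsonSubgroupOf p (T : Subgroup G) : Set G) ⊔ C ≠ ⊤ := fun e => hM.1
    (top_le_iff.1 (e ▸ sup_le (PMinimalCore.le_of_sylow_le hmin T hM hTM (fun t ht =>
      PMinFF.mem_normalizer_of_conj (PMinFF.cj_le.1 (by
        show (thompsonSubgroupOf p (T : Subgroup G)).map (MulAut.conj t).toMonoidHom ≤ _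
        rw [CfsgLib.PLocal.thompsonOf_conj, show (T : Subgroup G).map (MulAut.conj t).toMonoidHom = (T : Subgroup G)
          from PMinFF.cj_eq_self (Subgroup.le_normalizer ht)]))) hNJ) hCM))
  obtain ⟨A, hA, hAC⟩ := exists_not_le T (C := C) hNJC
  have hctx : Ctx p T M mk V act y :=
    { hmin := hmin, hG := hG, hchar := hchar, hz := hz, coatom := hM, TM := hTM, V_eq := hV, surj := hmks
      ker := hmkC.trans hC, conj := hconj
      pm := hTb ▸ hMb ▸ hP
      exact := hexact, ex := ⟨A, hA, fun e => hAC (e.trans hmkC.le)⟩ }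
  have hAne : A.map mk ≠ ⊥ := fun e => hAC (((Subgroup.map_eq_bot_iff A).1 e).trans hmkC.le)
  obtain ⟨X0, hX0⟩ := PMinFF.exists_atom hP (hexact A hA) hAne
  obtain ⟨q, hq⟩ : ∃ q, q = Nat.card X0 := ⟨_, rfl⟩
  obtain ⟨k, hk⟩ := PMinFF.exists_into_T hctx.pm hX0.el.isPGroup
  obtain ⟨L, hL⟩ := PMinFF.exists_pairs (q := q) hctx.pm
  have hAS : AtSys p act ((T : Subgroup G).map mk) (M.map mk) q L :=
    ⟨fun Z hZ => (PMinFF.atom_card_eq hctx.pm hZ hX0).trans hq.symm,
      ⟨_, ⟨hX0.cj k, (PMinFF.card_cj k X0).trans hq.symm⟩, hk⟩, hL⟩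
  obtain ⟨X, hX⟩ := hctx.exists_fam hAS
  by_cases h3 : 3 ≤ q
  · exact hctx.big_structure hAS hX h3
  · obtain ⟨B, hB⟩ := hAS.ne
    obtain rfl : q = 2 := by
      have := hB.1.2 ▸ (Subgroup.one_lt_card_iff_ne_bot B |>.2 hB.1.1.ne)
      omega
    obtain rfl : p = 2 := prime_two hctx.pm hB.1
    exact hctx.two_structure hAS hX

end

end CfsgLib.LocalEven.PMinPush
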