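import Cfsg.Agent.Lib.LocalEven.PMinPush.SL2
import Cfsg.Agent.Lib.LocalEven.PushUp.Main
import Cfsg.Agent.Lib.LocalEven.PushUp.Factors
import Cfsg.Agent.Lib.LocalEven.FrakH

/-!
# `O^p` of a group in the rank one setup
-/

set_option autoImplicit false
set_option linter.all false

namespace CfsgLib.LocalEven.PMinPush

open Subgroup Cfsg CfsgLib.PushUp Matrix
open scoped commutatorElement

/-- A block, with `B` for the Baumann subgroup, linear case only and without the condition on `Ω₁Z(T)`. -/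
def PreBlock {G : Type*} [Group G] (p : ℕ) (B E : Subgroup G) : Prop :=
  pResidualOf p E = E ∧ ⁅E, B⁆ = E ∧ ⁅pCoreOf p E, E⁆ = pCoreOf p E ∧
    ∃ (F : Type) (_ : Field F) (_ : Fintype F) (n : ℕ), 1 ≤ n ∧ Fintype.card F = p ^ n ∧
        Nonempty (↥E ⧸ pCore p ↥E ≃* ↥(commutator (Matrix.SpecialLinearGroup (Fin 2) F))) ∧
        ActsAsSL2OnSection F (commutator (Matrix.SpecialLinearGroup (Fin 2) F)) E
          (omegaOneCenter p (pCoreOf p E)) (omegaOneCenter p (pCoreOf p E) ⊓ Subgroup.centralizer (E : Set G)) ∧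
        (pCoreOf p E = omegaOneCenter p (pCoreOf p E) ∨
          (p = 3 ∧
            ActsAsSL2OnSection F (commutator (Matrix.SpecialLinearGroup (Fin 2) F)) E
              (pCoreOf p E) (omegaOneCenter p (pCoreOf p E)) ∧
            ⁅pCoreOf p E, pCoreOf p E⁆ = omegaOneCenter p (pCoreOf p E) ⊓ Subgroup.centralizer (E : Set G) ∧
            (frattini ↥(pCoreOf p E)).map (pCoreOf p E).subtype =
              omegaOneCenter p (pCoreOf p E) ⊓ Subgroup.centralizer (E : Set G) ∧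
            E ⊓ Subgroup.centralizer (E : Set G) =
              omegaOneCenter p (pCoreOf p E) ⊓ Subgroup.centralizer (E : Set G) ∧
            Nat.card ↥(E ⊓ Subgroup.centralizer (E : Set G)) = 3 ^ n ∧
            ∀ b : G, b ∈ B → b ∉ Subgroup.centralizer (omegaOneCenter p (pCoreOf p E) : Set G) →
              ¬ ⁅⁅pCoreOf p E, Subgroup.zpowers b⁆, Subgroup.zpowers b⁆ ≤ E ⊓ Subgroup.centralizer (E : Set G)))

variable {W : Type*} [Group W] [Finite W] {p : ℕ} [hp : Fact p.Prime] {G S Q M N : Subgroup W}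

omit [Finite W] in
theorem stable_le_normalizer {V : Subgroup W} (hV : Stable G V) : G ≤ normalizer (V : Set W) :=
  le_normalizer_iff.2 fun g hg v hv => hV g hg v hv

theorem stable_comm {A B : Subgroup W} (hA : Stable G A) (hB : Stable G B) : Stable G ⁅A, B⁆ := fun g hg x hx => by
  have e := Subgroup.map_commutator A B (MulAut.conj g).toMonoidHom
  have h1 : g * x * g⁻¹ ∈ cj g ⁅A, B⁆ := CfsgLib.PushUp.conj_mem_cj hx
  have hA' : cj g A = A := cj_eq_of_forall (hA g hg)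
  have hB' : cj g B = B := cj_eq_of_forall (hB g hg)
  have h2 := e.le h1
  change g * x * g⁻¹ ∈ ⁅cj g A, cj g B⁆ at h2
  rwa [hA', hB'] at h2

theorem res_stable : Stable G (pResidualOf p G) := fun g hg x hx =>
  (mem_normalizer_iff.1 (normalizer_le_normalizer_res G (le_normalizer hg)) x).1 hx

theorem res_subgroupOf (G : Subgroup W) : (pResidualOf p G).subgroupOf G = pResidual p ↥G :=
  comap_map_eq_self_of_injective G.subtype_injective _

theorem res_sup_S (h : Setup p G S Q M N) : pResidualOf p G ⊔ S = G := by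
  refine le_antisymm (sup_le (res_le G) h.SG) ?_
  let P : Sylow p ↥G := ⟨S.subgroupOf G, h.pS.comap_subtype, fun {X} hX hle => by
    refine le_antisymm (fun x hx => ?_) hle
    obtain ⟨k, hk, hk'⟩ := h.syl G le_rfl h.SG (X.map G.subtype) (map_subtype_le X) (hX.map _)
    have h1 : S ≤ X.map G.subtype := fun s hs => ⟨⟨s, h.SG hs⟩, hle (mem_subgroupOf.2 hs), rfl⟩
    rw [mem_subgroupOf, eq_of_le_of_card_ge h1 ((card_le_of_le hk').trans (CfsgLib.PushUp.card_cj k S).le)]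
    exact ⟨x, hx, rfl⟩⟩
  intro g hg
  have h1 := congrArg (Subgroup.map G.subtype) (CfsgLib.Transfer.pResidual_sup_sylow P)
  rw [Subgroup.map_sup, ← MonoidHom.range_eq_map, range_subtype] at h1
  rw [← h1] at hg
  exact (sup_le_sup le_rfl (show (P : Subgroup ↥G).map G.subtype ≤ S from by
    rintro _ ⟨x, hx, rfl⟩; exact hx)) hg

theorem le_Q_of_stable (h : Setup p G S Q M N) {D : Subgroup W} (hD : D ≤ G) (hst : Stable G D)
    (hDp : IsPGroup p D) : D ≤ Q := by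
  obtain ⟨k, hk, hk'⟩ := h.syl G le_rfl h.SG D hD hDp
  refine h.Qmax D (fun x hx => ?_) hst
  have := CfsgLib.PushUp.mem_cj.1 (hk' (hst k hk x hx))
  simpa [mul_assoc] using this

theorem pCoreOf_res (h : Setup p G S Q M N) : pCoreOf p (pResidualOf p G) = pResidualOf p G ⊓ Q := by
  obtain ⟨X, hX⟩ : ∃ X, X = pResidualOf p G := ⟨_, rfl⟩
  rw [← hX]
  have hXG : X ≤ G := hX ▸ res_le G
  refine le_antisymm (le_inf (map_subtype_le _) (le_Q_of_stable h ((map_subtype_le _).trans hXG) ?_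
    ((CfsgLib.Core.isPGroup_pCore p ↥X).map _))) ?_
  · intro g hg x hx
    have hst : Stable G X := hX ▸ res_stable
    let e : ↥X ≃* ↥X :=
      { toFun := fun a => ⟨g * a * g⁻¹, hst g hg _ a.2⟩
        invFun := fun a => ⟨g⁻¹ * a * g, hst.inv hg a.2⟩
        left_inv := fun a => Subtype.ext (by simp [mul_assoc])
        right_inv := fun a => Subtype.ext (by simp [mul_assoc])
        map_mul' := fun a b => Subtype.ext (by simp [mul_assoc]) }
    obtain ⟨y, hy, rfl⟩ := hx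
    refine ⟨e y, ?_, rfl⟩
    haveI := (CfsgLib.Core.normal_pCore p ↥X).map e.toMonoidHom e.surjective
    exact CfsgLib.Core.le_pCore (N := (pCore p ↥X).map e.toMonoidHom)
      ((CfsgLib.Core.isPGroup_pCore p ↥X).map _) ⟨y, hy, rfl⟩
  · intro x hx
    haveI : (Q.subgroupOf X).Normal := ⟨fun q hq a => h.Qn a (hXG a.2) q hq⟩
    exact ⟨⟨x, hx.1⟩, CfsgLib.Core.le_pCore (N := Q.subgroupOf X) ((h.pS.to_le h.QS).comap_subtype) hx.2, rfl⟩

/-- `X ∩ Q ≤ V` when `X` and an abelian complement of `Q` in `S` centralise `Q` modulo `V`. -/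
theorem inf_Q_le (h : Setup p G S Q M N) {A V : Subgroup W} (hA : A ⊔ Q = S)
    (hAab : ∀ a ∈ A, ∀ b ∈ A, a * b = b * a) (hV : Stable G V)
    (hAQ : ∀ a ∈ A, ∀ q ∈ Q, ⁅a, q⁆ ∈ V) (hXQ : ∀ x ∈ pResidualOf p G, ∀ q ∈ Q, ⁅x, q⁆ ∈ V) :
    pResidualOf p G ⊓ Q ≤ V := by
  obtain ⟨X, hX⟩ : ∃ X, X = pResidualOf p G := ⟨_, rfl⟩
  rw [← hX] at hXQ ⊢
  have hXG : X ≤ G := hX ▸ res_le G
  haveI : (V.subgroupOf G).Normal := ⟨fun v hv g => hV g g.2 v hv⟩
  obtain ⟨π, hπ⟩ : ∃ π, π = QuotientGroup.mk' (V.subgroupOf G) := ⟨_, rfl⟩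
  have hπc : ∀ a b : ↥G, ⁅(a : W), (b : W)⁆ ∈ V ↔ Commute (π a) (π b) := fun a b => by
    rw [commute_iff_eq, ← commutatorElement_eq_one_iff_mul_comm, ← map_commutatorElement, hπ]
    refine Iff.trans ?_ (QuotientGroup.eq_one_iff _).symm
    rw [mem_subgroupOf, show ((⁅a, b⁆ : ↥G) : W) = ⁅(a : W), (b : W)⁆ from map_commutatorElement G.subtype a b]
  have hAS : A ≤ S := hA ▸ le_sup_left
  have hAn : A ≤ normalizer (Q : Set W) := fun a ha => stable_le_normalizer h.Qn (h.SG (hAS ha))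
  have hQG : Q ≤ G := h.QS.trans h.SG
  have hS : ∀ a ∈ S, a ∈ X → ∀ b ∈ S, b ∈ X → ⁅a, b⁆ ∈ V := by
    have dec : ∀ a ∈ S, a ∈ X → ∃ a1 : ↥G, ∃ q : ↥G, (a1 : W) ∈ A ∧ (q : W) ∈ Q ∧ a = a1 * q ∧
        ∀ r : ↥G, (r : W) ∈ Q → Commute (π a1) (π r) ∧ Commute (π q) (π r) := by
      intro a ha haX
      have hmem := hA.ge ha
      rw [← SetLike.mem_coe, coe_mul_of_left_le_normalizer_right _ _ hAn] at hmem
      obtain ⟨a1, ha1, q, hq, rfl⟩ := hmem
      refine ⟨⟨a1, h.SG (hAS ha1)⟩, ⟨q, hQG hq⟩, ha1, hq, rfl, fun r hr => ?_⟩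
      have c1 := (hπc ⟨a1, h.SG (hAS ha1)⟩ r).1 (hAQ a1 ha1 r hr)
      have c2 := (hπc ⟨a1 * q, hXG haX⟩ r).1 (hXQ _ haX r hr)
      refine ⟨c1, ?_⟩
      have e : π ⟨q, hQG hq⟩ = (π ⟨a1, h.SG (hAS ha1)⟩)⁻¹ * π ⟨a1 * q, hXG haX⟩ := by
        rw [← map_inv, ← map_mul]
        congr 1
        exact Subtype.ext (by simp)
      rw [e]
      exact c1.inv_left.mul_left c2
    intro a ha haX b hb hbX
    obtain ⟨a1, q, ha1, hq, ea, hca⟩ := dec a ha haX
    obtain ⟨b1, r, hb1, hr, eb, hcb⟩ := dec b hb hbX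
    subst ea eb
    refine (hπc (a1 * q) (b1 * r)).2 ?_
    have hab : Commute (π a1) (π b1) := by
      refine (show Commute a1 b1 from Subtype.ext ?_).map π
      exact hAab _ ha1 _ hb1
    rw [map_mul, map_mul]
    exact (hab.mul_right (hca r hr).1).mul_left ((hcb q hq).1.symm.mul_right (hca r hr).2)
  intro n hn
  obtain ⟨P⟩ : Nonempty (Sylow p ↥X) := inferInstance
  obtain ⟨k, hk, hk'⟩ := h.syl G le_rfl h.SG ((P : Subgroup ↥X).map X.subtype) ((map_subtype_le _).trans hXG)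
    (P.2.map _)
  refine central_le (N := X ⊓ Q) (hX ▸ res_res G) inf_le_left (h.pS.to_le (inf_le_right.trans h.QS))
    (hXG.trans (stable_le_normalizer hV)) (fun m hm x hx => ?_) P (fun a ha b hb => ?_) hn
  · rw [← commutatorElement_inv]
    exact inv_mem (hXQ x hx m hm.2)
  · have ha' := CfsgLib.PushUp.mem_cj.1 (hk' ⟨a, ha, rfl⟩)
    have hb' := CfsgLib.PushUp.mem_cj.1 (hk' ⟨b, hb, rfl⟩)
    have hst : Stable G X := hX ▸ res_stable
    have h1 := hV k hk _ (hS _ ha' (hst.inv hk a.2) _ hb' (hst.inv hk b.2))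
    simpa [commutatorElement_def, mul_assoc] using h1

theorem res_comm_S (h : Setup p G S Q M N) : ⁅pResidualOf p G, S⁆ = pResidualOf p G := by
  obtain ⟨X, hX⟩ : ∃ X, X = pResidualOf p G := ⟨_, rfl⟩
  rw [← hX]
  have hst : Stable G X := hX ▸ res_stable
  obtain ⟨K, hK⟩ : ∃ K, K = ⁅X, S⁆ := ⟨_, rfl⟩
  rw [← hK]
  have hKX : K ≤ X := by
    rw [hK, commutator_le]
    intro x hx s hs
    rw [commutatorElement_def, show x * s * x⁻¹ * s⁻¹ = x * (s * x⁻¹ * s⁻¹) by group]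
    exact mul_mem hx (hst s (h.SG hs) _ (inv_mem hx))
  have hKn : G ≤ normalizer (K : Set W) := by
    conv_lhs => rw [← res_sup_S h, ← hX]
    rw [hK]
    exact sup_le (Subgroup.normalizer_commutator_ge_left X S) (Subgroup.normalizer_commutator_ge_right X S)
  have hXS : ∀ x ∈ X, ∀ s ∈ S, x * s * x⁻¹ ∈ K ⊔ S := fun x hx s hs => by
    have := mul_mem (mem_sup_left (hK ▸ commutator_mem_commutator hx hs) : ⁅x, s⁆ ∈ K ⊔ S) (mem_sup_right hs)
    simpa [commutatorElement_def, mul_assoc] using this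
  have htop : G ≤ K ⊔ S := by
    obtain ⟨g, hg, hgM⟩ := h.exists_out
    have hg' := (res_sup_S h).ge hg
    rw [← hX, ← SetLike.mem_coe, coe_mul_of_right_le_normalizer_left _ _
      ((show S ≤ G from h.SG).trans (stable_le_normalizer hst))] at hg'
    obtain ⟨x, hx, s, hs, rfl⟩ := hg'
    rw [← h.gen hg hgM]
    refine sup_le le_sup_right ?_
    rintro _ ⟨t, ht, rfl⟩
    have := hXS x hx (s * t * s⁻¹) (mul_mem (mul_mem hs ht) (inv_mem hs))
    simpa [mul_assoc] using this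
  refine le_antisymm hKX ?_
  rw [hX]
  exact res_le_of fun g hg hc => CfsgLib.LocalEvenB.mem_of_coprime_sup h.pS
    ((show S ≤ G from h.SG).trans hKn) (htop hg) hc

omit [Finite W] [Fact p.Prime] in
/-- A `p'`-preimage of a `p'`-element. -/
theorem exists_lift [Finite W] [Fact p.Prime] {H : Type*} [Group H] (σ : ↥G →* H) (hσ : Function.Surjective σ)
    {s : H} (hs : (orderOf s).Coprime p) : ∃ x : ↥G, (orderOf (x : W)).Coprime p ∧ σ x = s := by
  obtain ⟨g, rfl⟩ := hσ s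
  obtain ⟨k, m, hm, e⟩ := Nat.exists_eq_pow_mul_and_not_dvd (orderOf_pos g).ne' p (Fact.out : p.Prime).ne_one
  obtain ⟨b, hb⟩ := exists_pow_eq_self_of_coprime (x := σ g) (n := p ^ k) ((hs.pow_right k).symm)
  refine ⟨(g ^ p ^ k) ^ b, ?_, by rw [map_pow, map_pow, hb]⟩
  rw [Subgroup.orderOf_coe]
  refine Nat.Coprime.coprime_dvd_left (orderOf_dvd_of_pow_eq_one (n := m) ?_)
    ((Fact.out : p.Prime).coprime_iff_not_dvd.2 hm).symm
  rw [← pow_mul, ← pow_mul, show p ^ k * (b * m) = orderOf g * b by rw [e]; ring, pow_mul, pow_orderOf_eq_one,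
    one_pow]

theorem field_facts (h : Setup p G S Q M N) {F : Type} [Field F] [Fintype F]
    (hc : Fintype.card F * Nat.card ↥Q = Nat.card ↥S) :
    ∃ n, 1 ≤ n ∧ Fintype.card F = p ^ n ∧ CharP F p := by
  obtain ⟨a, ha⟩ := h.pS.exists_card_eq
  obtain ⟨k, -, hk⟩ := (Nat.dvd_prime_pow (Fact.out : p.Prime)).1 (ha ▸ Dvd.intro _ hc : Fintype.card F ∣ p ^ a)
  have hk0 : 1 ≤ k := Nat.one_le_iff_ne_zero.2 fun h0 => by
    have := Fintype.one_lt_card (α := F)
    rw [hk, h0, pow_zero] at this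
    omega
  exact ⟨k, hk0, hk, charP_of_card hk0 hk⟩

/-- The representation of `G` on a natural section. -/
theorem natSec_rep {A B : Subgroup W} (hN : NatSec G S Q A B) {F : Type} [Field F] [Fintype F]
    (hF : Fintype.card F * Nat.card ↥Q = Nat.card ↥S) :
    ∃ (χ : W → (Fin 2 → F)) (σ : ↥G →* SpecialLinearGroup (Fin 2) F), Function.Surjective σ ∧
      (∀ u ∈ A, ∀ v ∈ A, χ (u * v) = χ u + χ v) ∧ (∀ w, ∃ u ∈ A, χ u = w) ∧
      (∀ u ∈ A, (χ u = 0 ↔ u ∈ B)) ∧ (∀ g : ↥G, σ g = 1 ↔ (g : W) ∈ Q) ∧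
      ∀ g : ↥G, ∀ u ∈ A, χ ((g : W) * u * (g : W)⁻¹) = (σ g : Matrix (Fin 2) (Fin 2) F) *ᵥ χ u := by
  obtain ⟨-, -, -, F', i1, i2, χ, σ, hc, hs, ha, hsur, hk, hσk, hact⟩ := hN
  have hcard : Fintype.card F' = Fintype.card F := Nat.eq_of_mul_eq_mul_right Nat.card_pos (hc.trans hF.symm)
  let e : F' ≃+* F := FiniteField.ringEquivOfCardEq hcard
  refine ⟨fun x i => e (χ x i), (slEquiv e).toMonoidHom.comp σ, (slEquiv e).surjective.comp hs,
    fun u hu v hv => ?_, fun w => ?_, fun u hu => ?_, fun g => ?_, fun g u hu => ?_⟩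
  · funext i; show e _ = e _ + e _; rw [ha u hu v hv, Pi.add_apply, map_add]
  · obtain ⟨u, hu, e'⟩ := hsur fun i => e.symm (w i)
    exact ⟨u, hu, funext fun i => by show e _ = _; rw [e']; simp⟩
  · rw [← hk u hu]
    constructor
    · intro e0; funext i
      exact e.injective ((congrFun e0 i).trans (map_zero e).symm)
    · intro e0; funext i; show e (χ u i) = 0; rw [e0]; simp
  · show slEquiv e (σ g) = 1 ↔ _
    rw [map_eq_one_iff _ (slEquiv e).injective]
    exact hσk g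
  · funext i
    show e (χ ((g : W) * u * (g : W)⁻¹) i) = _
    rw [show χ ((g : W) * u * (g : W)⁻¹) = _ from hact g u hu]
    simp [Matrix.mulVec, dotProduct, Fin.sum_univ_two, slEquiv]


theorem res_range {F : Type} [Field F] [Fintype F] [CharP F p] (σ : ↥G →* SpecialLinearGroup (Fin 2) F)
    (hσ : Function.Surjective σ) :
    (σ.comp (Subgroup.inclusion (res_le (p := p) G))).range = commutator (SpecialLinearGroup (Fin 2) F) := by
  have e : (Subgroup.inclusion (res_le (p := p) G)).range = pResidual p ↥G := by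
    rw [← res_subgroupOf]
    ext g
    exact ⟨fun ⟨x, hx⟩ => hx ▸ x.2, fun hg => ⟨⟨g, hg⟩, rfl⟩⟩
  rw [MonoidHom.range_comp, e, CfsgLib.Transfer.map_pResidual_of_surjective σ hσ, pResidual_SL2]

theorem res_iso (h : Setup p G S Q M N) {A B : Subgroup W} (hN : NatSec G S Q A B) {F : Type} [Field F] [Fintype F]
    (hF : Fintype.card F * Nat.card ↥Q = Nat.card ↥S) :
    Nonempty (↥(pResidualOf p G) ⧸ pCore p ↥(pResidualOf p G) ≃* ↥(commutator (SpecialLinearGroup (Fin 2) F))) := by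
  obtain ⟨n, -, -, hC⟩ := field_facts h hF
  haveI := hC
  obtain ⟨χ, σ, hσ, -, -, -, hσk, -⟩ := natSec_rep hN hF
  obtain ⟨f, hf⟩ : ∃ f, f = σ.comp (Subgroup.inclusion (res_le (p := p) G)) := ⟨_, rfl⟩
  have hker : pCore p ↥(pResidualOf p G) = f.ker := by
    refine map_injective (Subgroup.subtype_injective _) ((pCoreOf_res h).trans ?_)
    ext x
    constructor
    · intro hx
      exact ⟨⟨x, hx.1⟩, by rw [SetLike.mem_coe, MonoidHom.mem_ker, hf]; exact (hσk _).2 hx.2, rfl⟩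
    · rintro ⟨y, hy, rfl⟩
      rw [SetLike.mem_coe, MonoidHom.mem_ker, hf] at hy
      exact ⟨y.2, (hσk (Subgroup.inclusion (res_le G) y)).1 hy⟩
  exact ⟨((QuotientGroup.quotientMulEquivOfEq hker).trans (QuotientGroup.quotientKerEquivRange f)).trans
    (MulEquiv.subgroupCongr (hf ▸ res_range σ hσ))⟩

/-- `O^p(G)` acts on a natural section, seen on a subgroup covering it. -/
theorem acts_res (h : Setup p G S Q M N) {A B U U₀ : Subgroup W} (hN : NatSec G S Q A B) {F : Type} [Field F]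
    [Fintype F] (hF : Fintype.card F * Nat.card ↥Q = Nat.card ↥S) (hU : Stable G U) (hUA : U ≤ A)
    (hU₀ : U₀ = U ⊓ B) (hsur : ∀ a ∈ A, ∃ u ∈ U, a⁻¹ * u ∈ B) :
    ActsAsSL2OnSection F (commutator (SpecialLinearGroup (Fin 2) F)) (pResidualOf p G) U U₀ := by
  obtain ⟨n, -, -, hC⟩ := field_facts h hF
  haveI := hC
  have hBA := hN.le
  obtain ⟨χ, σ, hσ, hadd, hs, hk, -, hact⟩ := natSec_rep hN hF
  refine ⟨(res_le G).trans (stable_le_normalizer hU), hU₀ ▸ inf_le_left, σ.comp (Subgroup.inclusion (res_le G)),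
    MonoidHom.mk' (fun u : ↥U => Multiplicative.ofAdd (χ u)) (fun u v => ?_), res_range σ hσ, fun w => ?_,
    fun u => ?_, fun e u => ?_⟩
  · rw [Subgroup.coe_mul, hadd _ (hUA u.2) _ (hUA v.2)]; rfl
  · obtain ⟨a, ha, e⟩ := hs (Multiplicative.toAdd w)
    obtain ⟨u, hu, hb⟩ := hsur a ha
    refine ⟨⟨u, hu⟩, ?_⟩
    have e1 : χ u = χ a + χ (a⁻¹ * u) := by rw [← hadd a ha _ (hBA hb), mul_inv_cancel_left]
    show Multiplicative.ofAdd (χ u) = w
    rw [e1, (hk _ (hBA hb)).2 hb, add_zero, e]; rfl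
  · show Multiplicative.ofAdd (χ (u : W)) = 1 ↔ _
    rw [ofAdd_eq_one, hk _ (hUA u.2), hU₀, Subgroup.mem_inf]
    exact ⟨fun e => ⟨u.2, e⟩, fun e => e.2⟩
  · exact ⟨⟨_, hU (e : W) (res_le G e.2) u u.2⟩, rfl, hact (Subgroup.inclusion (res_le G) e) u (hUA u.2)⟩

/-- A `p'`-element of `O^p(G)` moving a natural section onto itself. -/
theorem exists_fpf_elem (h : Setup p G S Q M N) {A B : Subgroup W} (hN : NatSec G S Q A B) {F : Type} [Field F]
    [Fintype F] (hF : Fintype.card F * Nat.card ↥Q = Nat.card ↥S) :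
    ∃ x ∈ pResidualOf p G, (orderOf x).Coprime p ∧ (∀ u ∈ A, x * u = u * x → u ∈ B) ∧
      ∀ a ∈ A, ∃ a' ∈ A, ⁅x, a'⁆⁻¹ * a ∈ B := by
  obtain ⟨n, -, -, hC⟩ := field_facts h hF
  haveI := hC
  obtain ⟨χ, σ, hσ, hadd, hsur, hk, -, hact⟩ := natSec_rep hN hF
  obtain ⟨s, hs, hfpf⟩ := exists_fpf (p := p) (F := F)
  obtain ⟨x, hx, hxs⟩ := exists_lift σ hσ hs
  have h1 : χ 1 = 0 := (hk 1 (one_mem _)).2 (one_mem _)
  have hinv : ∀ v ∈ A, χ v⁻¹ = - χ v := fun v hv => eq_neg_of_add_eq_zero_left (by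
    rw [← hadd _ (inv_mem hv) _ hv, inv_mul_cancel, h1])
  have hinj : Function.Injective fun w : Fin 2 → F => (s : Matrix (Fin 2) (Fin 2) F) *ᵥ w - w :=
    Finite.injective_iff_surjective.2 fun w => hfpf w
  refine ⟨x, mem_res x.2 hx, hx, fun u hu e => (hk u hu).1 (hinj ?_), fun a ha => ?_⟩
  · have h2 := hact x u hu
    rw [e, mul_inv_cancel_right, hxs] at h2
    simp [← h2]
  · obtain ⟨w, hw⟩ := hfpf (χ a)
    obtain ⟨a', ha', rfl⟩ := hsur w
    have hc : ⁅(x : W), a'⁆ ∈ A := by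
      rw [commutatorElement_def]; exact mul_mem (hN.stA x x.2 a' ha') (inv_mem ha')
    refine ⟨a', ha', (hk _ (mul_mem (inv_mem hc) ha)).1 ?_⟩
    rw [hadd _ (inv_mem hc) _ ha, hinv _ hc, commutatorElement_def, hadd _ (hN.stA x x.2 a' ha') _ (inv_mem ha'),
      hact x a' ha', hinv _ ha', hxs, ← sub_eq_add_neg, hw, neg_add_cancel]

end CfsgLib.LocalEven.PMinPush
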