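import Cfsg.Agent.Lib.LocalEvenB.PushingUpCL.Swap
import Cfsg.Agent.Lib.LocalEven.PMinPush.RankCommon

/-!
# The block at critical distance one
-/

set_option autoImplicit false
set_option linter.all false

namespace CfsgLib.LocalEven.PMinPush

open Subgroup Cfsg CfsgLib.PushUp
open scoped commutatorElement

/-- What the rank one analysis gives about `X = O^p(G)`. -/
structure RankOut {W : Type*} [Group W] (p : ℕ) (G S Q : Subgroup W) : Prop where
  pre : PreBlock p S (pResidualOf p G)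
  le_zc : omegaOneCenter p (pCoreOf p (pResidualOf p G)) ≤ zc p G S
  core : pCoreOf p (pResidualOf p G) = pResidualOf p G ⊓ Q
  lin : pCoreOf p (pResidualOf p G) = omegaOneCenter p (pCoreOf p (pResidualOf p G)) →
    (∀ x ∈ pResidualOf p G, ∀ q ∈ Q, ⁅x, q⁆ ∈ pCoreOf p (pResidualOf p G)) ∧
      ∃ A : Subgroup W, A ≤ S ∧ (∀ a ∈ A, a ^ p = 1) ∧ A ⊔ Q = S ∧
        ∀ a ∈ A, ∀ s ∈ S, ⁅a, s⁆ ∈ pCoreOf p (pResidualOf p G)

variable {W : Type*} [Group W] [Finite W] {p : ℕ} [hp : Fact p.Prime] {G S Q M N : Subgroup W}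

/-- An elementary abelian group is its `Ω₁Z`. -/
theorem omegaOneCenter_eq_self {E : Subgroup W} (hc : ∀ a ∈ E, ∀ b ∈ E, a * b = b * a) (he : ∀ a ∈ E, a ^ p = 1) :
    omegaOneCenter p E = E :=
  le_antisymm (fun x hx => (CfsgLib.LocalEvenB.PushCL.mem_omegaOneCenter.1 hx).1.1) fun x hx =>
    CfsgLib.LocalEvenB.PushCL.mem_omegaOneCenter.2
      ⟨⟨hx, mem_centralizer_iff.2 fun y hy => hc y hy x hx⟩, he x hx⟩

/-- `[Z, O^p G]` and the fixed part of `Z`. -/
theorem zc_decomp (h : Setup p G S Q M N) (hC : G ⊓ centralizer (zc p G S : Set W) = Q) :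
    Stable G ⁅zc p G S, pResidualOf p G⁆ ∧ ⁅zc p G S, pResidualOf p G⁆ ≤ zc p G S ∧
      (∀ z ∈ zc p G S, ∃ a ∈ ⁅zc p G S, pResidualOf p G⁆, ∃ b ∈ zc p G S ⊓ centralizer (G : Set W), z = a * b) ∧
      ∀ g ∈ G, ∀ z ∈ zc p G S, ⁅g, z⁆ ∈ ⁅zc p G S, pResidualOf p G⁆ := by
  obtain ⟨F, i1, i2, χ, σ, hc, -⟩ := h.zCoord
  have hst := stable_comm (zc_stable (p := p) G S) (res_stable (G := G) (p := p))
  have hle : ⁅zc p G S, pResidualOf p G⁆ ≤ zc p G S := by
    rw [commutator_le]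
    intro z hz x hx
    rw [commutatorElement_def, show z * x * z⁻¹ * x⁻¹ = z * (x * z⁻¹ * x⁻¹) by group]
    exact mul_mem hz (zc_stable G S x (res_le G hx) _ (inv_mem hz))
  obtain ⟨x, hxX, -, -, hx⟩ := exists_fpf_elem h (h.natSec_zc hC) hc
  have hdec : ∀ z ∈ zc p G S, ∃ a ∈ ⁅zc p G S, pResidualOf p G⁆,
      ∃ b ∈ zc p G S ⊓ centralizer (G : Set W), z = a * b := by
    intro z hz
    obtain ⟨a', ha', hb⟩ := hx z hz
    exact ⟨_, commutator_comm (pResidualOf p G) (zc p G S) ▸ commutator_mem_commutator hxX ha', _, hb,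
      (mul_inv_cancel_left _ _).symm⟩
  refine ⟨hst, hle, hdec, fun g hg z hz => ?_⟩
  obtain ⟨a, ha, b, hb, rfl⟩ := hdec z hz
  have hgb : g * b = b * g := mem_centralizer_iff.1 hb.2 g hg
  rw [commutatorElement_def, show g * (a * b) * g⁻¹ * (a * b)⁻¹ = g * a * (b * g⁻¹ * b⁻¹) * a⁻¹ by group,
    show b * g⁻¹ * b⁻¹ = g⁻¹ by
      rw [(show Commute b g from hgb.symm).inv_right.eq]; group]
  exact mul_mem (hst g hg a ha) (inv_mem ha)

variable {n : W}

theorem one_block (h : Setup p G S Q M N) (o : One p G S Q N n) : RankOut p G S Q := by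
  obtain ⟨X, hX⟩ : ∃ X, X = pResidualOf p G := ⟨_, rfl⟩
  have hC := o.centralizer_eq h
  obtain ⟨hst, hle, hdec, hcomm⟩ := zc_decomp h hC
  obtain ⟨R, hR⟩ : ∃ R, R = ⁅zc p G S, pResidualOf p G⁆ := ⟨_, rfl⟩
  rw [← hR] at hst hle hdec hcomm
  obtain ⟨H, hHG, hHst, -, hHQ, hH⟩ := o.exists_H h
  have hexp : ∀ a ∈ R, a ^ p = 1 := fun a ha => h.zc_pow a (hle ha)
  have hXQ : ∀ x ∈ pResidualOf p G, ∀ q ∈ Q, ⁅x, q⁆ ∈ R := by
    intro x hx q hq
    refine res_comm_le (stable_le_normalizer hst) (fun y hy hc => ?_) hx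
    have hyH := h.mem_of_coprime hHst hHQ hy ((Fact.out : p.Prime).coprime_iff_not_dvd.1 hc.symm)
    have hz : ⁅y, q⁆ ∈ zc p G S := hH y hyH q hq
    refine coprime_step (stable_le_normalizer hst hy) (stable_le_normalizer hst (h.SG (h.QS hq)))
      ⟨1, ?_⟩ (hcomm y hy _ hz) hc
    rw [pow_one, h.zc_pow _ hz]
    exact one_mem _
  have hAS : ∀ a ∈ cj n (zc p G S), ∀ s ∈ S, ⁅a, s⁆ ∈ R := by
    have hsub : ⁅cj n (zc p G S), S⁆ = ⁅cj n (zc p G S), zc p G S⁆ := by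
      refine (eq_of_le_of_card_ge (commutator_mono le_rfl h.zc_le_S) ?_).symm
      have e : ⁅cj n (zc p G S), S⁆ = cj n ⁅zc p G S, S⁆ := by
        have h1 : ⁅cj n (zc p G S), cj n S⁆ = cj n ⁅zc p G S, S⁆ :=
          (Subgroup.map_commutator (zc p G S) S (MulAut.conj n).toMonoidHom).symm
        rwa [cj_eq_of_forall (fun s hs => h.Nn n o.mem s hs)] at h1
      rw [e, CfsgLib.PushUp.card_cj, Subgroup.commutator_comm (cj n (zc p G S))]
      refine card_le_of_le ?_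
      rw [commutator_le]
      intro z hz s hs
      obtain ⟨a, ha, q, hq, rfl⟩ := o.mem_prod h hs
      have e2 : ⁅z, a * q⁆ = ⁅z, a⁆ := by
        have hqz : z * q * z⁻¹ = q := by rw [h.zc_comm hz hq, mul_inv_cancel_right]
        simp only [commutatorElement_def]
        calc z * (a * q) * z⁻¹ * (a * q)⁻¹ = z * a * z⁻¹ * (z * q * z⁻¹) * q⁻¹ * a⁻¹ := by group
          _ = _ := by rw [hqz]; group
      rw [e2]
      exact commutator_mem_commutator hz ha
    intro a ha s hs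
    have h1 : ⁅a, s⁆ ∈ ⁅cj n (zc p G S), zc p G S⁆ := hsub ▸ commutator_mem_commutator ha hs
    refine (commutator_le.2 (fun b hb z hz => ?_) : ⁅cj n (zc p G S), zc p G S⁆ ≤ R) h1
    exact hcomm b (h.SG (o.le hb)) z hz
  have hab : ∀ a ∈ cj n (zc p G S), ∀ b ∈ cj n (zc p G S), a * b = b * a := fun a ha b hb =>
    h.zv_comm (a := n) ha hb
  have hcore : pCoreOf p (pResidualOf p G) = R := by
    rw [pCoreOf_res h]
    refine le_antisymm (inf_Q_le h o.full hab hst (fun a ha q hq => hAS a ha q (h.QS hq)) hXQ)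
      (le_inf ?_ (hle.trans h.zc_le_Q))
    rw [hR, commutator_le]
    intro z hz x hx
    rw [commutatorElement_def]
    exact mul_mem (res_stable z (h.SG (h.zc_le_S hz)) x hx) (inv_mem hx)
  have hom : omegaOneCenter p R = R :=
    omegaOneCenter_eq_self (fun a ha b hb => h.zc_comm (hle ha) (h.zc_le_Q (hle hb))) hexp
  obtain ⟨F, i1, i2, χ, σ, hcF, -⟩ := h.zCoord
  obtain ⟨k, hk1, hk, -⟩ := field_facts h hcF
  have hN := h.natSec_zc hC
  have hfix : R ⊓ centralizer (pResidualOf p G : Set W) = R ⊓ (zc p G S ⊓ centralizer (G : Set W)) := by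
    refine le_antisymm (fun u hu => ?_) (fun u hu => ?_)
    · obtain ⟨x, hxX, -, hfix, -⟩ := exists_fpf_elem h hN hcF
      exact ⟨hu.1, hfix u (hle hu.1) (mem_centralizer_iff.1 hu.2 x hxX)⟩
    · exact ⟨hu.1, centralizer_le (res_le G) hu.2.2⟩
  refine ⟨⟨res_res G, res_comm_S h, ?_, F, i1, i2, k, hk1, hk, res_iso h hN hcF, ?_, Or.inl ?_⟩, ?_, pCoreOf_res h,
    fun _ => ⟨hcore.symm ▸ hXQ, cj n (zc p G S), o.le, ?_, o.full, hcore.symm ▸ hAS⟩⟩
  · rw [hcore]
    refine le_antisymm ?_ ?_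
    · rw [commutator_le]
      intro a ha x hx
      rw [commutatorElement_def, show a * x * a⁻¹ * x⁻¹ = a * (x * a⁻¹ * x⁻¹) by group]
      exact mul_mem ha (hst x (res_le G hx) _ (inv_mem ha))
    · have h0 : ⁅zc p G S, pResidualOf p G⁆ ≤ ⁅R, pResidualOf p G⁆ := by
        rw [commutator_le]
        intro z hz x hx
        obtain ⟨a, ha, b, hb, rfl⟩ := hdec z hz
        have hxb : x * b = b * x := mem_centralizer_iff.1 hb.2 x (res_le G hx)
        have e : ⁅a * b, x⁆ = ⁅a, x⁆ := by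
          simp only [commutatorElement_def]
          calc a * b * x * (a * b)⁻¹ * x⁻¹ = a * (b * x) * b⁻¹ * a⁻¹ * x⁻¹ := by group
            _ = _ := by rw [← hxb]; group
        rw [e]
        exact commutator_mem_commutator ha hx
      rwa [← hR] at h0
  · rw [hcore, hom]
    refine acts_res h hN hcF hst hle hfix fun z hz => ?_
    obtain ⟨a, ha, b, hb, rfl⟩ := hdec z hz
    refine ⟨a, ha, ?_⟩
    rw [_root_.mul_inv_rev, mul_assoc, inv_mul_cancel, mul_one]
    exact inv_mem hb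
  · rw [hcore, hom]
  · rw [hcore, hom]; exact hle
  · rintro _ ⟨z, hz, rfl⟩
    rw [← map_pow, h.zc_pow z hz, map_one]

end CfsgLib.LocalEven.PMinPush
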