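import Cfsg.Agent.Lib.LocalEven.PMinPush.Res
import Cfsg.Agent.Lib.LocalEvenB.SubnormalBlocks.Data
import Cfsg.Agent.Lib.Classical.SL2Sylow
import Mathlib.FieldTheory.Finite.Basic

/-!
# Two facts about `SL₂` in the defining characteristic
-/

set_option autoImplicit false
set_option linter.all false

namespace CfsgLib.LocalEven.PMinPush

open Subgroup Cfsg Matrix

variable {p : ℕ} [Fact p.Prime] {F : Type*} [Field F] [Fintype F] [CharP F p]

/-- A `p'`-element without nonzero fixed vectors. -/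
theorem exists_fpf : ∃ s : SpecialLinearGroup (Fin 2) F, (orderOf s).Coprime p ∧
    ∀ w : Fin 2 → F, ∃ w' : Fin 2 → F, (s : Matrix (Fin 2) (Fin 2) F) *ᵥ w' - w' = w := by
  by_cases h2 : p = 2
  · subst h2
    haveI : CharP F 2 := inferInstance
    have h11 : (1 : F) + 1 = 0 := CharTwo.add_self_eq_zero 1
    obtain ⟨s, hs⟩ : ∃ s : SpecialLinearGroup (Fin 2) F, (s : Matrix (Fin 2) (Fin 2) F) = !![0, 1; 1, 1] :=
      ⟨⟨!![0, 1; 1, 1], by rw [Matrix.det_fin_two_of]; linear_combination (-1 : F) * h11⟩, rfl⟩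
    refine ⟨s, ?_, fun w => ?_⟩
    · have h3 : s ^ 3 = 1 := by
        apply Matrix.SpecialLinearGroup.ext
        intro i j
        show ((s : Matrix (Fin 2) (Fin 2) F) ^ 3) i j = (1 : Matrix (Fin 2) (Fin 2) F) i j
        rw [hs]
        simp only [pow_succ, pow_zero, one_mul, Matrix.mul_fin_two]
        fin_cases i <;> fin_cases j <;> simp [CharTwo.add_self_eq_zero, h11]
      exact Nat.Coprime.coprime_dvd_left (orderOf_dvd_of_pow_eq_one h3) (by decide)
    · refine ⟨![w 1, w 0 + w 1], ?_⟩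
      rw [hs]
      ext i
      fin_cases i
      · simp [Matrix.mulVec, dotProduct, Fin.sum_univ_two]
      · simp [Matrix.mulVec, dotProduct, Fin.sum_univ_two]
  · have hp2 : (2 : F) ≠ 0 := by
      intro e
      rw [show (2 : F) = ((2 : ℕ) : F) by norm_num, CharP.cast_eq_zero_iff F p] at e
      exact h2 ((Nat.prime_dvd_prime_iff_eq Fact.out Nat.prime_two).1 e)
    refine ⟨-1, ?_, fun w => ⟨fun i => -(w i / 2), ?_⟩⟩
    · refine Nat.Coprime.coprime_dvd_left (orderOf_dvd_of_pow_eq_one (n := 2) (by simp)) ?_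
      exact (Nat.coprime_primes Nat.prime_two Fact.out).2 (Ne.symm h2)
    · ext i
      show ((((-1 : SpecialLinearGroup (Fin 2) F)) : Matrix (Fin 2) (Fin 2) F) *ᵥ (fun i => -(w i / 2)) -
        fun i => -(w i / 2)) i = w i
      rw [show (((-1 : SpecialLinearGroup (Fin 2) F)) : Matrix (Fin 2) (Fin 2) F) = -1 from rfl]
      simp only [SpecialLinearGroup.coe_neg, SpecialLinearGroup.coe_one, Matrix.neg_mulVec, Matrix.one_mulVec,
        Pi.sub_apply, Pi.neg_apply]
      field_simp
      ring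

/-- `O^p` of `SL₂` is its derived group. -/
theorem pResidual_SL2 : pResidual p (SpecialLinearGroup (Fin 2) F) = commutator (SpecialLinearGroup (Fin 2) F) := by
  classical
  obtain ⟨n, hn, hq⟩ := FiniteField.card F p
  by_cases h4 : 4 ≤ Fintype.card F
  · have hperf := (CfsgLib.LocalEvenB.SubBlocks.sl2_quasisimple (F := F) h4).2
    rw [hperf, eq_top_iff]
    obtain ⟨R, hR⟩ : ∃ R, R = pResidual p (SpecialLinearGroup (Fin 2) F) := ⟨_, rfl⟩
    rw [← hR]
    by_contra hne
    haveI hRn : R.Normal := hR ▸ CfsgLib.Transfer.pResidual_normal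
    haveI : Nontrivial (SpecialLinearGroup (Fin 2) F ⧸ R) :=
      QuotientGroup.nontrivial_iff.2 fun e => hne (e ▸ le_rfl)
    haveI : Group.IsNilpotent (SpecialLinearGroup (Fin 2) F ⧸ R) :=
      (hR ▸ CfsgLib.Transfer.isPGroup_quotient_pResidual :
        IsPGroup p (SpecialLinearGroup (Fin 2) F ⧸ R)).isNilpotent
    have h1 : commutator (SpecialLinearGroup (Fin 2) F ⧸ R) = ⊤ := by
      rw [commutator_def, ← Subgroup.map_top_of_surjective _ (QuotientGroup.mk'_surjective R), ← map_commutator,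
        ← commutator_def, hperf]
    exact (Group.IsSolvable.commutator_lt_top_of_nontrivial (SpecialLinearGroup (Fin 2) F ⧸ R)).ne h1
  have hc2 : Fintype.card F = 2 ∨ Fintype.card F = 3 := by
    have := Fintype.one_lt_card (α := F); omega
  obtain ⟨m, hm, e, hpe⟩ : ∃ m, Nat.Prime m ∧ Nonempty (F ≃+* ZMod m) ∧ Fintype.card F = m ∧
      Nat.card (commutator (SpecialLinearGroup (Fin 2) F)) * m = Nat.card (SpecialLinearGroup (Fin 2) F) := by
    rcases hc2 with hc | hc
    · haveI : Fact (Nat.Prime 2) := ⟨Nat.prime_two⟩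
      have hcard : Fintype.card F = Fintype.card (ZMod 2) := by rw [hc, ZMod.card]
      obtain ⟨f⟩ := CfsgLib.LocalEvenB.SubBlocks.nonempty_mulEquiv_commutator_sl2
        (FiniteField.ringEquivOfCardEq hcard)
      refine ⟨2, Nat.prime_two, ⟨FiniteField.ringEquivOfCardEq hcard⟩, hc, ?_⟩
      rw [Nat.card_congr f.toEquiv, CfsgLib.LocalEvenB.SubBlocks.card_commutator_sl22,
        CfsgLib.Classical.Two.card_SL_two, hc]
      norm_num
    · haveI : Fact (Nat.Prime 3) := ⟨Nat.prime_three⟩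
      have hcard : Fintype.card F = Fintype.card (ZMod 3) := by rw [hc, ZMod.card]
      obtain ⟨f⟩ := CfsgLib.LocalEvenB.SubBlocks.nonempty_mulEquiv_commutator_sl2
        (FiniteField.ringEquivOfCardEq hcard)
      refine ⟨3, Nat.prime_three, ⟨FiniteField.ringEquivOfCardEq hcard⟩, hc, ?_⟩
      rw [Nat.card_congr f.toEquiv, CfsgLib.LocalEvenB.SubBlocks.card_commutator_sl23,
        CfsgLib.Classical.Two.card_SL_two, hc]
      norm_num
  have hmp : m = p := ((Nat.prime_dvd_prime_iff_eq Fact.out hm).1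
    (hpe.1 ▸ hq ▸ dvd_pow_self p n.ne_zero)).symm
  subst hmp
  refine le_antisymm (CfsgLib.Transfer.pResidual_le_of_isPGroup_quotient (IsPGroup.of_card (n := 1) ?_)) ?_
  · refine Nat.eq_of_mul_eq_mul_right (Nat.card_pos : 0 < Nat.card (commutator (SpecialLinearGroup (Fin 2) F))) ?_
    rw [← Subgroup.card_eq_card_quotient_mul_card_subgroup, pow_one, ← hpe.2, mul_comm]
  · intro g hg
    refine CfsgLib.Transfer.mem_pResidual_of_coprime (Nat.Coprime.coprime_dvd_left
      (Subgroup.orderOf_dvd_natCard _ hg) ?_)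
    have h1 : Nat.card (commutator (SpecialLinearGroup (Fin 2) F)) = Fintype.card F ^ 2 - 1 := by
      refine Nat.eq_of_mul_eq_mul_right hm.pos ?_
      rw [hpe.2, CfsgLib.Classical.Two.card_SL_two, hpe.1, mul_comm]
    rw [h1]
    exact ((Fact.out : Nat.Prime m).coprime_iff_not_dvd.2
      (CfsgLib.Classical.Two.not_dvd_card_sq_sub_one m)).symm

end CfsgLib.LocalEven.PMinPush
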