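import Cfsg.Agent.Lib.LocalEven.PMinPush.Setup
import Cfsg.Agent.Lib.LocalEven.PMinPush.SL2
import Cfsg.Agent.Lib.LocalEven.PushUp.Local

/-!
# Facts about one pair inside `P`
-/

set_option autoImplicit false
set_option linter.all false

namespace CfsgLib.LocalEven.PMinPush

open Subgroup Cfsg CfsgLib.LocalEven.OffSL2 CfsgLib.LocalEven.PMinFF

variable {P : Type*} [Group P] [Finite P] {p : ℕ} [Fact p.Prime]
variable {U : Type*} [AddCommGroup U] [Finite U]
variable {act : P →* AddMonoid.End U} {T M : Subgroup P} {y : U} {q : ℕ} {L : Subgroup P → Subgroup P}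
variable (hP : PMod p act T M y)
include hP

theorem exists_q_pow {B : Subgroup P} (hB : Atom p act B) : ∃ n, 1 ≤ n ∧ Nat.card B = p ^ n := by
  obtain ⟨n, hn⟩ := IsPGroup.iff_card.1 hB.el.isPGroup
  refine ⟨n, Nat.one_le_iff_ne_zero.2 fun e => hB.ne ?_, hn⟩
  rw [e, pow_zero] at hn
  exact Subgroup.card_eq_one.1 hn

/-- The commutator space of `O^p` of a pair covers modulo the fixed space. -/
theorem pair_img_cover {B L0 : Subgroup P} (h : Pair act M B L0) (hB : Atom p act B) :
    (∀ v, ∃ w ∈ img act (pResidualOf p L0), v - w ∈ fix act L0) ∧ img act L0 ≤ img act (pResidualOf p L0) := by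
  obtain ⟨F, iF, iFF, ψ, ρ, hc, hρ, hψ, hker, heq⟩ := h.nat
  obtain ⟨n, hn, hq⟩ := exists_q_pow hP hB
  haveI := CfsgLib.PushUp.charP_of_card (F := F) hn (hc.trans hq)
  obtain ⟨s, hs, hsw⟩ := exists_fpf (p := p) (F := F)
  obtain ⟨l, rfl⟩ := hρ.2 s
  have hl : (l : P) ∈ pResidualOf p L0 := by
    refine mem_res l.2 ?_
    rwa [orderOf_coe, ← orderOf_injective ρ hρ.1 l]
  have h1 : ∀ v, ∃ w ∈ img act (pResidualOf p L0), v - w ∈ fix act L0 := fun v => by
    obtain ⟨w', hw'⟩ := hsw (ψ v)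
    obtain ⟨u, rfl⟩ := hψ w'
    refine ⟨act (l : P) u - u, mem_img hl u, (hker _).1 ?_⟩
    rw [map_sub, map_sub, heq, ← hw']
    show _ - _ = (0 : Fin 2 → F)
    exact sub_self _
  refine ⟨h1, (AddSubgroup.closure_le _).2 ?_⟩
  rintro _ ⟨e, he, u, rfl⟩
  obtain ⟨w, hw, hf⟩ := h1 u
  have hst : act e w ∈ img act (pResidualOf p L0) := by
    have hle : img act (pResidualOf p L0) ≤ (img act (pResidualOf p L0)).comap (act e) := by
      refine (AddSubgroup.closure_le _).2 ?_
      rintro _ ⟨k, hk, z, rfl⟩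
      show act e (act k z - z) ∈ img act (pResidualOf p L0)
      have hk' : e * k * e⁻¹ ∈ pResidualOf p L0 :=
        (mem_normalizer_iff.1 (normalizer_le_normalizer_res L0 (le_normalizer he)) k).1 hk
      have := mem_img (act := act) hk' (act e z)
      rwa [← OffSL2.act_mul, inv_mul_cancel_right, OffSL2.act_mul, ← map_sub] at this
    exact hle hw
  have e2 : act e u - u = act e w - w := by
    have := hf e he
    rw [map_sub] at this
    exact sub_eq_sub_iff_sub_eq_sub.1 this
  rw [e2]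
  exact sub_mem hst hw

/-- An atom is a Sylow subgroup of its pair. -/
theorem pair_pgroup_eq {B L0 R : Subgroup P} (h : Pair act M B L0) (hB : Atom p act B) (hBR : B ≤ R) (hRL : R ≤ L0)
    (hR : IsPGroup p R) : R = B := by
  obtain ⟨F, iF, iFF, ψ, ρ, hc, hρ, hψ, hker, heq⟩ := h.nat
  obtain ⟨n, hn, hq⟩ := exists_q_pow hP hB
  haveI := CfsgLib.PushUp.charP_of_card (F := F) hn (hc.trans hq)
  classical
  obtain ⟨S, hS⟩ := ((hR.comap_subtype (K := L0)).map ρ).exists_le_sylow
  refine (eq_of_le_of_card_ge hBR ?_).symm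
  have e : Nat.card ((R.subgroupOf L0).map ρ) = Nat.card (R.subgroupOf L0) := card_map_of_injective hρ.1
  rw [← hc, ← CfsgLib.Classical.Two.card_sylow_SL_two p S, ← Nat.card_congr (Subgroup.subgroupOfEquivOfLe hRL).toEquiv,
    ← e]
  exact card_le_of_le hS

/-- A common element of an atom and of a conjugate partner is trivial. -/
theorem pair_inf_conj {B L0 : Subgroup P} (h : Pair act M B L0) (hB : Atom p act B) {l : P} (hl : l ∈ L0)
    (hne : cj l B ≠ B) {x : P} (hx : x ∈ B) (hx' : x ∈ cj l B) : x = 1 := by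
  obtain ⟨hd, -⟩ := h.duo hP hB hl hne
  refine hP.inj (AddMonoidHom.ext fun u => ?_)
  show act x u = act 1 u
  rw [OffSL2.act_one]
  exact hd.free x hx u (hd.atom'.quad hP x hx' u)

/-- The other atoms in `T` meet a pair trivially. -/
theorem AtSys.inf_others (h : AtSys p act T M q L) {B : Subgroup P} (hB : B ∈ sig p act T q) {x : P}
    (hx : x ∈ sSup (sig p act T q \ {B})) (hxL : x ∈ L B) : x = 1 := by
  have hp := h.pairs.pair B hB
  let K : Subgroup P :=
    { carrier := {e | ∀ u, act e u - u ∈ fix act (L B)}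
      one_mem' := fun u => by rw [OffSL2.act_one, sub_self]; exact zero_mem _
      mul_mem' := fun {a b} ha hb u => by
        rw [OffSL2.act_mul, show act a (act b u) - u = (act a (act b u) - act b u) + (act b u - u) by abel]
        exact add_mem (ha _) (hb _)
      inv_mem' := fun {a} ha u => by
        have := ha (act a⁻¹ u)
        rw [OffSL2.act_inv'] at this
        rw [← neg_sub]; exact neg_mem this }
  have hK : sSup (sig p act T q \ {B}) ≤ K := sSup_le fun D hD d hd u => (h.pairs.other B hB D hD.1 hD.2).2 d hd u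
  obtain ⟨F, iF, iFF, ψ, ρ, hc, hρ, hψ, hker, heq⟩ := hp.nat
  have h1 : ∀ w, mv (ρ ⟨x, hxL⟩) w = w := fun w => by
    obtain ⟨u, rfl⟩ := hψ w
    rw [← heq, ← sub_eq_zero, ← map_sub, hker]
    exact hK hx u
  have h2 : ρ ⟨x, hxL⟩ = 1 := by
    apply Matrix.SpecialLinearGroup.ext
    intro i j
    have := congrFun (h1 (Pi.single j 1)) i
    rw [mv, Matrix.mulVec_single_one] at this
    rw [Matrix.SpecialLinearGroup.coe_one, Matrix.one_apply]
    simpa [Pi.single_apply, eq_comm] using this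
  exact congrArg Subtype.val (hρ.1 (h2.trans (map_one ρ).symm))

/-- An element of the group of the atoms in `T` is a product. -/
theorem AtSys.mem_E (h : AtSys p act T M q L) {B : Subgroup P} (hB : B ∈ sig p act T q) {x : P}
    (hx : x ∈ sSup (sig p act T q)) : ∃ d ∈ sSup (sig p act T q \ {B}), ∃ b ∈ B, x = d * b := by
  have hE := (sig_exact hP (q := q)).1.el
  have hle : sSup (sig p act T q) ≤ sSup (sig p act T q \ {B}) ⊔ B := sSup_le fun D hD => by
    by_cases hDB : D = B
    · subst hDB; exact le_sup_right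
    · exact (le_sSup (show D ∈ sig p act T q \ {B} from ⟨hD, hDB⟩)).trans le_sup_left
  have h1 := hle hx
  rw [← SetLike.mem_coe, coe_mul_of_left_le_normalizer_right _ _ (le_normalizer_iff.2 fun d hd b hb => by
    rw [hE.comm d ((sSup_le_sSup Set.diff_subset : sSup (sig p act T q \ {B}) ≤ sSup (sig p act T q)) hd) b (le_sSup hB hb), mul_inv_cancel_right]; exact hb)] at h1
  obtain ⟨d, hd, b, hb, rfl⟩ := h1
  exact ⟨d, hd, b, hb, rfl⟩

theorem AtSys.inf_E (h : AtSys p act T M q L) {B : Subgroup P} (hB : B ∈ sig p act T q) {x : P}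
    (hx : x ∈ sSup (sig p act T q)) (hxL : x ∈ L B) : x ∈ B := by
  obtain ⟨d, hd, b, hb, rfl⟩ := h.mem_E hP hB hx
  have : d = 1 := h.inf_others hP hB hd (by
    have := mul_mem hxL (inv_mem ((h.pairs.pair B hB).le hb))
    rwa [mul_inv_cancel_right] at this)
  rw [this, one_mul]; exact hb

theorem AtSys.sig_in_pair (h : AtSys p act T M q L) {B D : Subgroup P} (hB : B ∈ sig p act T q)
    (hD : D ∈ sig p act T q) (hle : D ≤ L B) : D = B := by
  by_contra hne
  refine hD.1.1.ne ((Subgroup.eq_bot_iff_forall _).2 fun x hx => h.inf_others hP hB ?_ (hle hx))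
  exact le_sSup (show D ∈ sig p act T q \ {B} from ⟨hD, hne⟩) hx

/-- The other atoms in `T` centralise the pair. -/
theorem AtSys.others_commute (h : AtSys p act T M q L) {B : Subgroup P} (hB : B ∈ sig p act T q) :
    ∀ d ∈ sSup (sig p act T q \ {B}), ∀ l ∈ L B, d * l = l * d := fun d hd l hl => by
  have hle : sSup (sig p act T q \ {B}) ≤ centralizer {l} := sSup_le fun D hD x hx =>
    mem_centralizer_singleton_iff.2 ((h.pairs.other B hB D hD.1 hD.2).1 x hx l hl)
  exact mem_centralizer_singleton_iff.1 (hle hd)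

/-- An element of `T`'s atom group whose conjugate by a moving element stays there avoids `B`. -/
theorem AtSys.mem_others (h : AtSys p act T M q L) {B : Subgroup P} (hB : B ∈ sig p act T q) {x l : P}
    (hx : x ∈ sSup (sig p act T q)) (hl : l ∈ L B) (hne : cj l B ≠ B)
    (hxl : l * x * l⁻¹ ∈ sSup (sig p act T q)) : x ∈ sSup (sig p act T q \ {B}) := by
  obtain ⟨d, hd, b, hb, rfl⟩ := h.mem_E hP hB hx
  have e : l * (d * b) * l⁻¹ = d * (l * b * l⁻¹) := by
    rw [← mul_assoc l d b, ← h.others_commute hP hB d hd l hl]; group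
  rw [e] at hxl
  have h1 : l * b * l⁻¹ ∈ sSup (sig p act T q) := by
    have := mul_mem (inv_mem ((sSup_le_sSup Set.diff_subset : sSup (sig p act T q \ {B}) ≤ sSup (sig p act T q)) hd)) hxl
    rwa [inv_mul_cancel_left] at this
  have h2 : l * b * l⁻¹ ∈ B := h.inf_E hP hB h1
    (mul_mem (mul_mem hl ((h.pairs.pair B hB).le hb)) (inv_mem hl))
  have h3 := pair_inf_conj hP (h.pairs.pair B hB) hB.1.1 hl hne h2 (PMinFF.conj_mem_cj hb)
  rw [conj_eq_one_iff] at h3
  rw [h3, mul_one]; exact hd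

/-- Splitting the fixed space at one atom. -/
theorem AtSys.fE_split (h : AtSys p act T M q L) {B : Subgroup P} (hB : B ∈ sig p act T q) {u : U}
    (hu : u ∈ fE p act T q) :
    ∃ c ∈ fE p act T q, (∀ D ∈ sig p act T q, D ≠ B → c ∈ fix act (L D)) ∧ u - c ∈ fix act (L B) := by
  obtain ⟨l, hl, hne⟩ := (h.pairs.pair B hB).moves
  obtain ⟨hd, -⟩ := (h.pairs.pair B hB).duo hP hB.1.1 hl hne
  obtain ⟨v, hv, hv'⟩ := hd.exists_out
  obtain ⟨b, hb, hz⟩ := hd.surj hP hv hv' u
  refine ⟨act b v - v, sub_mem_fE hP hB hb v, fun D hD hne' => (h.pairs.other D hD B hB (Ne.symm hne')).2 b hb v, ?_⟩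
  rw [← (h.pairs.pair B hB).gen2 l hl hne, fix_sup]
  refine AddSubgroup.mem_inf.2 ⟨fix_anti act (le_sSup hB) (sub_mem hu (sub_mem_fE hP hB hb v)), ?_⟩
  rw [← neg_sub]
  exact neg_mem hz

/-- The commutator spaces of the pairs and the fixed space of the atoms span. -/
theorem AtSys.span_img (h : AtSys p act T M q L) :
    fE p act T q ⊔ (⨆ B ∈ sig p act T q, img act (pResidualOf p (L B))) = ⊤ := by
  refine top_le_iff.1 ((h.span hP).ge.trans (sup_le le_sup_left (iSup₂_le fun B hB => ?_)))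
  obtain ⟨l, hl, hne⟩ := (h.pairs.pair B hB).moves
  rw [(h.fD_eq hP hB hl hne).1]
  refine sup_le le_sup_left ?_
  rintro _ ⟨u, hu, rfl⟩
  show act l u ∈ _
  rw [show act l u = (act l u - u) + u from (sub_add_cancel _ _).symm]
  exact add_mem (AddSubgroup.mem_sup_right (le_biSup (fun B => img act (pResidualOf p (L B))) hB
    ((pair_img_cover hP (h.pairs.pair B hB) hB.1.1).2 (mem_img hl u)))) (AddSubgroup.mem_sup_left hu)

end CfsgLib.LocalEven.PMinPush
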