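import Mathlib.GroupTheory.SpecificGroups.Alternating
import Mathlib.GroupTheory.Perm.Cycle.Type
import Mathlib.Algebra.Group.Subgroup.Pointwise

/-!
# Permutations: point stabilisers, commuting transpositions, a splitting criterion for central extensions
-/

set_option autoImplicit false
set_option linter.all false

namespace CfsgLib.LocalEven.PMinPush

open Equiv Equiv.Perm

variable {k : ℕ}

/-- A subgroup with the transpositions outside a set of points contains its pointwise stabiliser. -/
theorem perm_fix_gen (Pt : Fin k → Prop) {K : Subgroup (Perm (Fin k))}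
    (hK : ∀ a c, ¬ Pt a → ¬ Pt c → a ≠ c → swap a c ∈ K) :
    ∀ σ : Perm (Fin k), (∀ i, Pt i → σ i = i) → σ ∈ K := by
  intro σ
  induction hn : σ.support.card using Nat.strong_induction_on generalizing σ with
  | _ n ih =>
    intro hσ
    by_cases h1 : σ = 1
    · subst h1; exact one_mem _
    obtain ⟨x, hx⟩ : ∃ x, σ x ≠ x := by
      by_contra hall
      push Not at hall
      exact h1 (Equiv.ext hall)
    have hx1 : ¬ Pt x := fun e => hx (hσ x e)
    have hx2 : ¬ Pt (σ x) := fun e => hx (σ.injective (hσ _ e))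
    have h2 := ih _ (hn ▸ card_support_swap_mul hx) (swap x (σ x) * σ) rfl fun i hi => by
      rw [Perm.mul_apply, hσ i hi, swap_apply_of_ne_of_ne (fun e => hx1 (by rw [← e]; exact hi)) (fun e => hx2 (by rw [← e]; exact hi))]
    have h3 := mul_mem (hK x (σ x) hx1 hx2 (Ne.symm hx)) h2
    rwa [swap_mul_self_mul] at h3

/-- Distinct commuting transpositions are disjoint. -/
theorem swap_disjoint {a b c d : Fin k} (hab : a ≠ b) (hcd : c ≠ d) (hne : swap a b ≠ swap c d)
    (hc : swap a b * swap c d = swap c d * swap a b) : c ≠ a ∧ c ≠ b ∧ d ≠ a ∧ d ≠ b := by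
  have e : swap (swap a b c) (swap a b d) = swap c d := by
    rw [swap_apply_apply, hc, mul_inv_cancel_right]
  have hset : ∀ z, swap c d z ≠ z → z = c ∨ z = d := fun z hz => by
    by_contra hno
    push Not at hno
    exact hz (swap_apply_of_ne_of_ne hno.1 hno.2)
  have h1 : swap c d (swap a b c) ≠ swap a b c := by
    rw [← e, swap_apply_left]
    exact fun h => hcd ((swap a b).injective h).symm
  have h2 : swap c d (swap a b d) ≠ swap a b d := by
    rw [← e, swap_apply_right]
    exact fun h => hcd ((swap a b).injective h)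
  refine ⟨fun h => ?_, fun h => ?_, fun h => ?_, fun h => ?_⟩
  · subst h
    rw [swap_apply_left] at h1
    rcases hset b h1 with h | h
    · exact hab h.symm
    · exact hne (by rw [h])
  · subst h
    rw [swap_apply_right] at h1
    rcases hset a h1 with h | h
    · exact hab h
    · exact hne (by rw [h, swap_comm])
  · subst h
    rw [swap_apply_left] at h2
    rcases hset b h2 with h | h
    · exact hne (by rw [h, swap_comm])
    · exact hab h.symm
  · subst h
    rw [swap_apply_right] at h2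
    rcases hset a h2 with h | h
    · exact hne (by rw [h])
    · exact hab h

/-- An involution of an odd set moving even vectors along one vector is a transposition. -/
theorem swap_of_line {σ : Perm (Fin k)} (hodd : Odd k) (h2 : σ ^ 2 = 1) (h1 : σ ≠ 1) {c : Fin k → ZMod 2}
    (hline : ∀ g : Fin k → ZMod 2, ∑ i, g i = 0 → (∀ i, g (σ⁻¹ i) + g i = 0) ∨ ∀ i, g (σ⁻¹ i) + g i = c i) :
    ∃ a a', a ≠ a' ∧ σ = swap a a' := by
  classical
  haveI : Fact (Nat.Prime 2) := ⟨Nat.prime_two⟩
  have hinv : σ⁻¹ = σ := inv_eq_of_mul_eq_one_left (by rw [← pow_two, h2])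
  have hσσ : ∀ i, σ (σ i) = i := fun i => by rw [← Perm.mul_apply, ← pow_two, h2]; rfl
  obtain ⟨x, hx⟩ := exists_fixed_point_of_prime (p := 2) (n := 1) (σ := σ)
    (by rw [Fintype.card_fin]; exact hodd.not_two_dvd_nat) (by rw [pow_one]; exact h2)
  have key : ∀ d, σ d ≠ d → ∀ i, c i = (if i = d then 1 else 0) + (if i = σ d then 1 else 0) := by
    intro d hd i
    have hdx : d ≠ x := fun e => hd (by rw [e, hx])
    have hs : ∑ i, ((if i = d then (1 : ZMod 2) else 0) + if i = x then 1 else 0) = 0 := by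
      rw [Finset.sum_add_distrib, Finset.sum_ite_eq', Finset.sum_ite_eq']
      simp only [Finset.mem_univ, if_true]
      decide
    rcases hline (fun i => (if i = d then 1 else 0) + if i = x then 1 else 0) hs with h | h
    · exfalso
      have h' := h d
      rw [hinv] at h'
      have hsx : σ d ≠ x := fun e => hdx (σ.injective (e.trans hx.symm))
      simp [hd, hdx, hsx] at h'
    · have h' := h i
      rw [hinv] at h'
      rw [← h']
      have hiff1 : (σ i = d) ↔ (i = σ d) := ⟨fun e => by rw [← e, hσσ], fun e => by rw [e, hσσ]⟩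
      have hiff2 : (σ i = x) ↔ (i = x) := ⟨fun e => σ.injective (e.trans hx.symm), fun e => by rw [e, hx]⟩
      simp only [hiff1, hiff2]
      generalize (if i = d then (1 : ZMod 2) else 0) = r1
      generalize (if i = σ d then (1 : ZMod 2) else 0) = r2
      generalize (if i = x then (1 : ZMod 2) else 0) = r3
      revert r1 r2 r3; decide
  obtain ⟨a, ha⟩ : ∃ a, σ a ≠ a := by
    by_contra hall
    push Not at hall
    exact h1 (Equiv.ext hall)
  refine ⟨a, σ a, Ne.symm ha, Equiv.ext fun i => ?_⟩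
  by_cases hia : i = a
  · subst hia; rw [swap_apply_left]
  by_cases hia' : i = σ a
  · subst hia'; rw [swap_apply_right, hσσ]
  rw [swap_apply_of_ne_of_ne hia hia']
  by_contra hi
  have h3 := key a ha i
  rw [key i hi i] at h3
  simp [hia, hia', Ne.symm hi] at h3

theorem sign_eq_one_of_coprime {α : Type*} [Fintype α] [DecidableEq α] {σ : Perm α}
    (h : (orderOf σ).Coprime 2) : sign σ = 1 := by
  have h1 : (orderOf (sign σ)) ∣ 2 := orderOf_dvd_of_pow_eq_one (Int.units_sq _)
  exact orderOf_eq_one_iff.1 (Nat.eq_one_of_dvd_coprimes h (orderOf_map_dvd sign σ) h1)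

/-- The subgroup generated by the elements of odd order is the alternating group. -/
theorem closure_odd_perm : Subgroup.closure {σ : Perm (Fin k) | (orderOf σ).Coprime 2} = alternatingGroup (Fin k) := by
  refine le_antisymm ((Subgroup.closure_le _).2 fun σ hσ => mem_alternatingGroup.2 (sign_eq_one_of_coprime hσ)) ?_
  rw [← closure_three_cycles_eq_alternating, Subgroup.closure_le]
  exact fun σ hσ => Subgroup.subset_closure (show (orderOf σ).Coprime 2 by
    rw [IsThreeCycle.orderOf hσ]; decide)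

/-- A point stabiliser in the alternating group is the alternating group on the other points. -/
theorem alt_point_stab (inf : Fin (k + 1)) {S : Subgroup (Perm (Fin (k + 1)))}
    (hS : ∀ σ, σ ∈ S ↔ sign σ = 1 ∧ σ inf = inf) : Nonempty (↥S ≃* ↥(alternatingGroup (Fin k))) := by
  classical
  obtain ⟨f, hf⟩ : ∃ f, f = finSuccAboveEquiv inf := ⟨_, rfl⟩
  obtain ⟨φ, hφ⟩ : ∃ φ : Perm (Fin k) →* Perm (Fin (k + 1)), φ = extendDomainHom f := ⟨_, rfl⟩
  have hmem : ∀ τ : ↥(alternatingGroup (Fin k)), φ τ ∈ S := fun τ => by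
    rw [hS, hφ]
    refine ⟨?_, extendDomain_apply_not_subtype _ _ (by simp)⟩
    show sign ((τ : Perm (Fin k)).extendDomain f) = 1
    rw [sign_extendDomain]
    exact mem_alternatingGroup.1 τ.2
  let g : ↥(alternatingGroup (Fin k)) →* ↥S := (φ.comp (alternatingGroup (Fin k)).subtype).codRestrict S hmem
  refine ⟨(MulEquiv.ofBijective g ⟨fun τ τ' e => ?_, fun σ => ?_⟩).symm⟩
  · have e' : φ τ = φ τ' := congrArg Subtype.val e
    rw [hφ] at e'
    exact Subtype.ext (extendDomainHom_injective f e')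
  · obtain ⟨h1, h2⟩ := (hS σ).1 σ.2
    obtain ⟨τ, hτ⟩ : ∃ τ : Perm (Fin k), φ τ = (σ : Perm (Fin (k + 1))) := by
      have hp : ∀ x, (σ : Perm (Fin (k + 1))) x ≠ inf ↔ x ≠ inf := fun x => by
        refine not_congr ⟨fun e => (σ : Perm (Fin (k + 1))).injective (e.trans h2.symm), fun e => by rw [e, h2]⟩
      refine ⟨f.permCongr.symm (subtypePerm (σ : Perm (Fin (k + 1))) hp), Equiv.ext fun x => ?_⟩
      rw [hφ]
      show (Equiv.Perm.extendDomain _ f) x = _
      by_cases hx : x = inf
      · subst hx; rw [extendDomain_apply_not_subtype _ _ (by simp), h2]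
      · rw [extendDomain_apply_subtype (p := fun z => z ≠ inf) _ f (b := x) hx]
        simp [Equiv.permCongr, Equiv.equivCongr]
    refine ⟨⟨τ, mem_alternatingGroup.2 ?_⟩, Subtype.ext hτ⟩
    rw [hφ] at hτ
    rw [← sign_extendDomain τ f]
    exact (congrArg sign hτ).trans h1

/-- A central extension of a symmetric group by a two-group with commuting involutions over disjoint
transpositions is split over its odd part. -/
theorem split_ext {Y : Type*} [Group Y] [Finite Y] {π : Y →* Perm (Fin k)} (hπ : Function.Surjective π)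
    (hcen : ∀ z, π z = 1 → ∀ y, z * y = y * z) (h2 : ∀ z, π z = 1 → ∃ i, z ^ 2 ^ i = 1) {t t' : Y}
    (ht : t * t = 1) (ht' : t' * t' = 1) (htt : t * t' = t' * t) {a0 a1 c0 c1 : Fin k} (ha : a0 ≠ a1) (hc : c0 ≠ c1)
    (h00 : c0 ≠ a0) (h01 : c0 ≠ a1) (h10 : c1 ≠ a0) (h11 : c1 ≠ a1) (hπt : π t = swap a0 a1)
    (hπt' : π t' = swap c0 c1) :
    ∀ z, π z = 1 → z ∈ Subgroup.closure {y : Y | (orderOf y).Coprime 2} → z = 1 := by
  classical
  have tinv : t⁻¹ = t := inv_eq_of_mul_eq_one_left ht
  -- the centraliser of `t` covers the centraliser of its image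
  have hcentK : ∀ g : Y, π g * swap a0 a1 = swap a0 a1 * π g → g * t = t * g := by
    obtain ⟨K, hK⟩ : ∃ K, K = (Subgroup.centralizer ({t} : Set Y)).map π := ⟨_, rfl⟩
    have hker : ∀ g, π g ∈ K → g * t = t * g := fun g hg => by
      rw [hK] at hg
      obtain ⟨x, hx, hxe⟩ := hg
      have hz : π (x⁻¹ * g) = 1 := by rw [map_mul, map_inv, hxe, inv_mul_cancel]
      have hxt : x * t = t * x := Subgroup.mem_centralizer_singleton_iff.1 hx
      calc g * t = x * ((x⁻¹ * g) * t) := by group
        _ = x * (t * (x⁻¹ * g)) := by rw [hcen _ hz t]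
        _ = t * x * (x⁻¹ * g) := by rw [← mul_assoc, hxt]
        _ = t * g := by group
    have hswap : ∀ a c, ¬ (a = a0 ∨ a = a1) → ¬ (c = a0 ∨ c = a1) → a ≠ c → swap a c ∈ K := by
      intro a c hna hnc hac
      push Not at hna hnc
      obtain ⟨σ, hσ⟩ : ∃ σ : Perm (Fin k), σ = swap (swap c0 a c1) c * swap c0 a := ⟨_, rfl⟩
      have hd1 : swap c0 a c1 ≠ a := fun e => hc (by
        have := congrArg (swap c0 a) e
        rw [swap_apply_self, swap_apply_right] at this
        exact this.symm)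
      have hd2 : swap c0 a c1 ≠ a0 ∧ swap c0 a c1 ≠ a1 := by
        by_cases hca : c1 = a
        · rw [hca, swap_apply_right]; exact ⟨h00, h01⟩
        · rw [swap_apply_of_ne_of_ne (Ne.symm hc) hca]; exact ⟨h10, h11⟩
      have e0 : σ c0 = a := by
        rw [hσ, Perm.mul_apply, swap_apply_left, swap_apply_of_ne_of_ne (Ne.symm hd1) hac]
      have e1 : σ c1 = c := by rw [hσ, Perm.mul_apply, swap_apply_left]
      have ea : σ a0 = a0 := by
        rw [hσ, Perm.mul_apply, swap_apply_of_ne_of_ne (Ne.symm h00) (Ne.symm hna.1),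
          swap_apply_of_ne_of_ne (Ne.symm hd2.1) (Ne.symm hnc.1)]
      have eb : σ a1 = a1 := by
        rw [hσ, Perm.mul_apply, swap_apply_of_ne_of_ne (Ne.symm h01) (Ne.symm hna.2),
          swap_apply_of_ne_of_ne (Ne.symm hd2.2) (Ne.symm hnc.2)]
      obtain ⟨g, hg⟩ := hπ σ
      obtain ⟨z, hzdef⟩ : ∃ z, z = t * (g⁻¹ * t * g) := ⟨_, rfl⟩
      have hz : π z = 1 := by
        rw [hzdef, map_mul, map_mul, map_mul, map_inv, hg, hπt]
        have hfix : σ⁻¹ * swap a0 a1 * σ = swap a0 a1 := by
          calc σ⁻¹ * swap a0 a1 * σ = σ⁻¹ * swap (σ a0) (σ a1) * σ := by rw [ea, eb]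
            _ = _ := by rw [swap_apply_apply]; group
        rw [hfix, swap_mul_self]
      have hgt : g⁻¹ * t * g = t * z := by rw [hzdef, ← mul_assoc, ht, one_mul]
      have h3 : Commute (t * z) t' := (show Commute t t' from htt).mul_left (hcen z hz t')
      rw [← hgt] at h3
      rw [hK]
      refine ⟨g * t' * g⁻¹, Subgroup.mem_centralizer_singleton_iff.2 ?_, ?_⟩
      · calc g * t' * g⁻¹ * t = g * (t' * (g⁻¹ * t * g)) * g⁻¹ := by group
          _ = g * ((g⁻¹ * t * g) * t') * g⁻¹ := by rw [h3.eq]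
          _ = t * (g * t' * g⁻¹) := by group
      · rw [map_mul, map_mul, map_inv, hg, hπt', ← swap_apply_apply, e0, e1]
    have ht0 : swap a0 a1 ∈ K := hK ▸ ⟨t, Subgroup.mem_centralizer_singleton_iff.2 rfl, hπt⟩
    intro g hg
    refine hker g ?_
    have hset : swap (π g a0) (π g a1) = swap a0 a1 := by rw [swap_apply_apply, hg, mul_inv_cancel_right]
    have h0 : π g a0 = a0 ∧ π g a1 = a1 ∨ π g a0 = a1 ∧ π g a1 = a0 := by
      have h4 := congrArg (fun σ : Perm (Fin k) => σ (π g a0)) hset
      simp only [swap_apply_left] at h4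
      by_cases e : π g a0 = a0
      · rw [e, swap_apply_left] at h4; exact Or.inl ⟨e, h4⟩
      by_cases e' : π g a0 = a1
      · rw [e', swap_apply_right] at h4; exact Or.inr ⟨e', h4⟩
      rw [swap_apply_of_ne_of_ne e e'] at h4
      exact absurd ((π g).injective h4) (Ne.symm ha)
    have hgen := perm_fix_gen (fun i => i = a0 ∨ i = a1) hswap
    rcases h0 with ⟨e0, e1⟩ | ⟨e0, e1⟩
    · exact hgen _ fun i hi => by rcases hi with rfl | rfl <;> assumption
    · have h5 := mul_mem ht0 (hgen (swap a0 a1 * π g) fun i hi => by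
        rcases hi with rfl | rfl
        · rw [Perm.mul_apply, e0, swap_apply_right]
        · rw [Perm.mul_apply, e1, swap_apply_left])
      rwa [swap_mul_self_mul] at h5
  -- the class of `t`
  have hinj : ∀ c c' : Y, π (c * t * c⁻¹) = π (c' * t * c'⁻¹) → c * t * c⁻¹ = c' * t * c'⁻¹ := by
    intro c c' e
    simp only [map_mul, map_inv, hπt] at e
    have h3 := hcentK (c'⁻¹ * c) (by
      rw [map_mul, map_inv]
      calc (π c')⁻¹ * π c * swap a0 a1 = (π c')⁻¹ * (π c * swap a0 a1 * (π c)⁻¹) * π c := by group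
        _ = (π c')⁻¹ * (π c' * swap a0 a1 * (π c')⁻¹) * π c := by rw [e]
        _ = _ := by group)
    calc c * t * c⁻¹ = c' * (c'⁻¹ * c * t) * c⁻¹ := by group
      _ = c' * (t * (c'⁻¹ * c)) * c⁻¹ := by rw [h3]
      _ = _ := by group
  have hex : ∀ i l : Fin k, i ≠ l → ∃ c : Y, π (c * t * c⁻¹) = swap i l := by
    intro i l hil
    obtain ⟨σ, hσ⟩ : ∃ σ : Perm (Fin k), σ = swap (swap a0 i a1) l * swap a0 i := ⟨_, rfl⟩
    have e1 : σ a1 = l := by rw [hσ, Perm.mul_apply, swap_apply_left]
    have e0 : σ a0 = i := by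
      rw [hσ, Perm.mul_apply, swap_apply_left, swap_apply_of_ne_of_ne (fun e => ha ?_) hil]
      have := congrArg (swap a0 i) e
      rw [swap_apply_self, swap_apply_right] at this
      exact this
    obtain ⟨c, hcc⟩ := hπ σ
    exact ⟨c, by rw [map_mul, map_mul, map_inv, hcc, hπt, ← swap_apply_apply, e0, e1]⟩
  choose! cf hcf using hex
  obtain ⟨τ, hτ⟩ : ∃ τ : Fin k → Fin k → Y, ∀ i l, τ i l = if i = l then 1 else cf i l * t * (cf i l)⁻¹ :=
    ⟨_, fun i l => rfl⟩
  have hτne : ∀ i l, i ≠ l → τ i l = cf i l * t * (cf i l)⁻¹ := fun i l h => by rw [hτ, if_neg h]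
  have hτid : ∀ i, τ i i = 1 := fun i => by rw [hτ, if_pos rfl]
  have hπτ : ∀ i l, π (τ i l) = swap i l := fun i l => by
    by_cases h : i = l
    · subst h; rw [hτid, map_one, swap_self]; rfl
    · rw [hτne i l h]; exact hcf i l h
  have hsq : ∀ i l, τ i l * τ i l = 1 := fun i l => by
    by_cases h : i = l
    · subst h; rw [hτid, one_mul]
    · rw [hτne i l h, show cf i l * t * (cf i l)⁻¹ * (cf i l * t * (cf i l)⁻¹) = cf i l * (t * t) * (cf i l)⁻¹ by group,
        ht, mul_one, mul_inv_cancel]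
  have hconj : ∀ g i l, g * τ i l * g⁻¹ = τ (π g i) (π g l) := by
    intro g i l
    by_cases h : i = l
    · subst h; rw [hτid, hτid, mul_one, mul_inv_cancel]
    · have h' : π g i ≠ π g l := fun e => h ((π g).injective e)
      have hp : π (g * τ i l * g⁻¹) = π (τ (π g i) (π g l)) := by
        rw [map_mul, map_mul, map_inv, hπτ, hπτ, ← swap_apply_apply]
      rw [hτne i l h, hτne _ _ h'] at hp ⊢
      rw [show g * (cf i l * t * (cf i l)⁻¹) * g⁻¹ = g * cf i l * t * (g * cf i l)⁻¹ by group] at hp ⊢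
      exact hinj _ _ hp
  have hinvτ : ∀ i l, (τ i l)⁻¹ = τ i l := fun i l => inv_eq_of_mul_eq_one_left (hsq i l)
  -- the nested subgroups
  obtain ⟨Gs, hGs⟩ : ∃ Gs : ℕ → Subgroup Y, ∀ j, Gs j =
      Subgroup.closure {y | ∃ i l : Fin k, (i : ℕ) < j ∧ (l : ℕ) < j ∧ y = τ i l} := ⟨_, fun j => rfl⟩
  have hmemG : ∀ {j} {i l : Fin k}, (i : ℕ) < j → (l : ℕ) < j → τ i l ∈ Gs j := fun {j} {i l} hi hl => by
    rw [hGs]; exact Subgroup.subset_closure ⟨i, l, hi, hl, rfl⟩
  have hcard : ∀ j, j ≤ k → Nat.card (Gs j) ≤ j.factorial := by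
    intro j
    induction j with
    | zero =>
      intro _
      have : Gs 0 = ⊥ := by
        rw [hGs, Subgroup.closure_eq_bot_iff]
        rintro _ ⟨i, l, hi, -⟩
        exact absurd hi (Nat.not_lt_zero _)
      rw [this, Subgroup.card_bot]; rfl
    | succ j ih =>
      intro hj
      obtain ⟨J, hJ⟩ : ∃ J : Fin k, (J : ℕ) = j := ⟨⟨j, hj⟩, rfl⟩
      let R : Option (Fin j) → Y := fun o => o.elim 1 fun a => τ J ⟨a, lt_trans a.2 hj⟩
      have hR : ∀ l : Fin k, (l : ℕ) < j → ∃ o, R o = τ J l := fun l hl => ⟨some ⟨l, hl⟩, rfl⟩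
      have hmain : ∀ x ∈ Gs (j + 1), ∃ (o : Option (Fin j)) (h : Y), h ∈ Gs j ∧ x = R o * h := by
        intro x hx
        rw [hGs] at hx
        have hstep : ∀ i l : Fin k, (i : ℕ) < j + 1 → (l : ℕ) < j + 1 →
            ∀ o h, h ∈ Gs j → ∃ o' h', h' ∈ Gs j ∧ τ i l * (R o * h) = R o' * h' := by
          intro i l hi hl o h hh
          have hcase : ((i : ℕ) < j ∧ (l : ℕ) < j) ∨ (i = J ∧ (l : ℕ) < j) ∨ (l = J ∧ (i : ℕ) < j) ∨ i = l := by
            rcases Nat.lt_succ_iff_lt_or_eq.1 hi with h1 | h1 <;> rcases Nat.lt_succ_iff_lt_or_eq.1 hl with h3 | h3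
            · exact Or.inl ⟨h1, h3⟩
            · exact Or.inr (Or.inr (Or.inl ⟨Fin.ext (h3.trans hJ.symm), h1⟩))
            · exact Or.inr (Or.inl ⟨Fin.ext (h1.trans hJ.symm), h3⟩)
            · exact Or.inr (Or.inr (Or.inr (Fin.ext (h1.trans h3.symm))))
          have hlow : ∀ i l : Fin k, (i : ℕ) < j → (l : ℕ) < j →
              ∃ o' h', h' ∈ Gs j ∧ τ i l * (R o * h) = R o' * h' := by
            intro i l hi hl
            rcases o with _ | a
            · exact ⟨none, τ i l * h, mul_mem (hmemG hi hl) hh, by simp [R]⟩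
            · have hne : ∀ z : Fin k, (z : ℕ) < j → z ≠ J := fun z hz e => by rw [e, hJ] at hz; omega
              obtain ⟨o', ho'⟩ := hR (swap i l ⟨a, lt_trans a.2 hj⟩) (by
                by_cases e1 : (⟨a, lt_trans a.2 hj⟩ : Fin k) = i
                · rw [e1, swap_apply_left]; exact hl
                by_cases e2 : (⟨a, lt_trans a.2 hj⟩ : Fin k) = l
                · rw [e2, swap_apply_right]; exact hi
                rw [swap_apply_of_ne_of_ne e1 e2]; exact a.2)
              refine ⟨o', τ i l * h, mul_mem (hmemG hi hl) hh, ?_⟩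
              rw [ho']
              have h6 := hconj (τ i l) J ⟨a, lt_trans a.2 hj⟩
              rw [hπτ, swap_apply_of_ne_of_ne (hne i hi).symm (hne l hl).symm] at h6
              rw [← h6]
              simp only [R, Option.elim_some]
              group
          have hnew : ∀ l : Fin k, (l : ℕ) < j → ∃ o' h', h' ∈ Gs j ∧ τ J l * (R o * h) = R o' * h' := by
            intro l hl
            rcases o with _ | a
            · obtain ⟨o', ho'⟩ := hR l hl
              exact ⟨o', h, hh, by rw [ho']; simp [R]⟩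
            · obtain ⟨a', ha'⟩ : ∃ a' : Fin k, a' = ⟨a, lt_trans a.2 hj⟩ := ⟨_, rfl⟩
              have ha'j : (a' : ℕ) < j := ha' ▸ a.2
              simp only [R, Option.elim_some, ← ha']
              by_cases e : a' = l
              · subst e
                exact ⟨none, h, hh, by rw [← mul_assoc, hsq]; simp⟩
              · have h6 := hconj (τ J a') J l
                rw [hπτ, swap_apply_left, swap_apply_of_ne_of_ne (fun e' => by rw [e', hJ] at hl; omega) (Ne.symm e),
                  hinvτ] at h6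
                refine ⟨some a, τ a' l * h, mul_mem (hmemG ha'j hl) hh, ?_⟩
                simp only [R, Option.elim_some, ← ha']
                rw [← h6]
                calc τ J l * (τ J a' * h) = (τ J a' * τ J a') * τ J l * (τ J a' * h) := by rw [hsq, one_mul]
                  _ = _ := by group
          have hsymm : ∀ i l, τ i l = τ l i := fun i l => by
            by_cases e : i = l
            · rw [e]
            · have h6 := hconj (τ i l) i l
              rw [hπτ, swap_apply_left, swap_apply_right, hinvτ, mul_assoc, hsq, mul_one] at h6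
              exact h6
          rcases hcase with ⟨h1, h3⟩ | ⟨rfl, h3⟩ | ⟨rfl, h1⟩ | rfl
          · exact hlow i l h1 h3
          · exact hnew l h3
          · rw [hsymm]; exact hnew i h1
          · exact ⟨o, h, hh, by rw [hτid, one_mul]⟩
        induction hx using Subgroup.closure_induction_left with
        | one => exact ⟨none, 1, one_mem _, by simp [R]⟩
        | mul_left x hx y hy ih =>
          obtain ⟨i, l, hi, hl, rfl⟩ := hx
          obtain ⟨o, h, hh, rfl⟩ := ih
          exact hstep i l hi hl o h hh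
        | inv_mul_cancel x hx y hy ih =>
          obtain ⟨i, l, hi, hl, rfl⟩ := hx
          obtain ⟨o, h, hh, rfl⟩ := ih
          rw [hinvτ]
          exact hstep i l hi hl o h hh
      have hRmem : ∀ o, R o ∈ Gs (j + 1) := by
        rintro (_ | a)
        · exact one_mem _
        · exact hmemG (by rw [hJ]; omega) (Nat.lt_succ_of_lt a.2)
      have hGle : Gs j ≤ Gs (j + 1) := by
        rw [hGs, Subgroup.closure_le]
        rintro _ ⟨i, l, hi, hl, rfl⟩
        exact hmemG (Nat.lt_succ_of_lt hi) (Nat.lt_succ_of_lt hl)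
      calc Nat.card (Gs (j + 1)) ≤ Nat.card (Option (Fin j) × Gs j) := by
            refine Nat.card_le_card_of_surjective
              (fun x : Option (Fin j) × Gs j => (⟨R x.1 * x.2, mul_mem (hRmem x.1) (hGle x.2.2)⟩ : Gs (j + 1))) ?_
            rintro ⟨x, hx⟩
            obtain ⟨o, h, hh, rfl⟩ := hmain x hx
            exact ⟨(o, ⟨h, hh⟩), rfl⟩
        _ = (j + 1) * Nat.card (Gs j) := by rw [Nat.card_prod, Finite.card_option, Nat.card_fin]
        _ ≤ (j + 1) * j.factorial := Nat.mul_le_mul_left _ (ih (Nat.le_of_succ_le hj))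
        _ = (j + 1).factorial := (Nat.factorial_succ j).symm
  -- the complement
  obtain ⟨Kt, hKt⟩ : ∃ Kt, Kt = Gs k := ⟨_, rfl⟩
  have hτK : ∀ i l, τ i l ∈ Kt := fun i l => hKt ▸ hmemG i.2 l.2
  have hsurj : Function.Surjective (π.comp Kt.subtype) := by
    rw [← MonoidHom.range_eq_top, eq_top_iff, ← closure_isSwap, Subgroup.closure_le]
    rintro _ ⟨i, l, -, rfl⟩
    exact ⟨⟨τ i l, hτK i l⟩, hπτ i l⟩
  have hbij : Function.Bijective (π.comp Kt.subtype) := by
    refine hsurj.bijective_of_nat_card_le ?_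
    rw [Nat.card_perm, Nat.card_fin, hKt]
    exact hcard k le_rfl
  haveI hKn : Kt.Normal := ⟨fun n hn g => by
    have hle : Kt ≤ Kt.comap (MulAut.conj g).toMonoidHom := by
      conv_lhs => rw [hKt, hGs]
      rw [Subgroup.closure_le]
      rintro _ ⟨i, l, -, -, rfl⟩
      show g * τ i l * g⁻¹ ∈ Kt
      rw [hconj]; exact hτK _ _
    exact hle hn⟩
  have hodd : Subgroup.closure {y : Y | (orderOf y).Coprime 2} ≤ Kt := by
    rw [Subgroup.closure_le]
    intro y hy
    obtain ⟨κ, hκ⟩ := hsurj (π y)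
    obtain ⟨z, hzdef⟩ : ∃ z, z = (κ : Y)⁻¹ * y := ⟨_, rfl⟩
    obtain ⟨i, hi⟩ := h2 z (by
      rw [hzdef, map_mul, map_inv]
      exact inv_mul_eq_one.2 hκ)
    have hq : (QuotientGroup.mk' Kt y) = QuotientGroup.mk' Kt z := by
      rw [hzdef, map_mul, map_inv]
      rw [show QuotientGroup.mk' Kt (κ : Y) = 1 from (QuotientGroup.eq_one_iff _).2 κ.2, inv_one, one_mul]
    refine (QuotientGroup.eq_one_iff y).1 (orderOf_eq_one_iff.1 (Nat.eq_one_of_dvd_coprimes (hy.pow_right i)
      (orderOf_map_dvd (QuotientGroup.mk' Kt) y) (orderOf_dvd_of_pow_eq_one ?_)))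
    show (QuotientGroup.mk' Kt y) ^ 2 ^ i = 1
    rw [hq, ← map_pow, hi, map_one]
  intro z hz hmem
  have h7 : (⟨z, hodd hmem⟩ : Kt) = 1 := hbij.1 (by rw [map_one]; exact hz)
  exact congrArg Subtype.val h7

end CfsgLib.LocalEven.PMinPush
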