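import Cfsg.Agent.Lib.LocalEven.PMinPush.SL2
import Cfsg.Agent.Lib.LocalEven.PushUp.Local

/-!
# Telling `SL₂` apart from alternating groups, and `SL₂(3)`
-/

set_option autoImplicit false
set_option linter.all false

namespace CfsgLib.LocalEven.PMinPush

open Subgroup Cfsg Matrix

variable {p : ℕ} [Fact p.Prime] {F : Type*} [Field F] [Fintype F] [CharP F p]

theorem two_ne_zero_F (hp : p ≠ 2) : (2 : F) ≠ 0 := by
  intro e
  rw [show (2 : F) = ((2 : ℕ) : F) by norm_num, CharP.cast_eq_zero_iff F p] at e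
  exact hp ((Nat.prime_dvd_prime_iff_eq Fact.out Nat.prime_two).1 e)

/-- For odd `p`, `O^p(SL₂)` has a central involution. -/
theorem sl2_res_central (hp : p ≠ 2) :
    ∃ z ∈ pResidual p (SpecialLinearGroup (Fin 2) F), z ≠ 1 ∧ ∀ g, g * z = z * g := by
  refine ⟨-1, CfsgLib.Transfer.mem_pResidual_of_coprime ?_, fun e => ?_, fun g => ?_⟩
  · refine Nat.Coprime.coprime_dvd_left (orderOf_dvd_of_pow_eq_one (n := 2) (by simp)) ?_
    exact (Nat.coprime_primes Nat.prime_two Fact.out).2 (Ne.symm hp)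
  · have h1 := congrArg (fun z : SpecialLinearGroup (Fin 2) F => (z : Matrix (Fin 2) (Fin 2) F) 0 0) e
    simp only [Matrix.SpecialLinearGroup.coe_neg, Matrix.SpecialLinearGroup.coe_one, Matrix.neg_apply,
      Matrix.one_apply_eq] at h1
    exact two_ne_zero_F (F := F) hp (by linear_combination -h1)
  · simp

/-- `O^p(SL₂)` is not commutative unless the field has two elements. -/
theorem sl2_res_not_comm (h3 : 3 ≤ Fintype.card F) :
    ∃ a ∈ pResidual p (SpecialLinearGroup (Fin 2) F), ∃ b ∈ pResidual p (SpecialLinearGroup (Fin 2) F),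
      a * b ≠ b * a := by
  classical
  obtain ⟨u, hu⟩ : ∃ u : SpecialLinearGroup (Fin 2) F, (u : Matrix (Fin 2) (Fin 2) F) = !![1, 1; 0, 1] :=
    ⟨⟨!![1, 1; 0, 1], by simp [Matrix.det_fin_two_of]⟩, rfl⟩
  by_cases hp : p = 2
  · have h4 : 4 ≤ Fintype.card F := by
      obtain ⟨n, hn, hq⟩ := FiniteField.card F p
      subst hp
      rcases Nat.lt_or_ge (n : ℕ) 2 with h | h
      · rw [show (n : ℕ) = 1 by have := n.pos; omega] at hq; omega
      · rw [hq]; calc 4 = 2 ^ 2 := rfl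
          _ ≤ _ := Nat.pow_le_pow_right (by norm_num) h
    have htop : pResidual p (SpecialLinearGroup (Fin 2) F) = ⊤ := by
      rw [pResidual_SL2, (CfsgLib.LocalEvenB.SubBlocks.sl2_quasisimple (F := F) h4).2]
    obtain ⟨v, hv⟩ : ∃ v : SpecialLinearGroup (Fin 2) F, (v : Matrix (Fin 2) (Fin 2) F) = !![1, 0; 1, 1] :=
      ⟨⟨!![1, 0; 1, 1], by simp [Matrix.det_fin_two_of]⟩, rfl⟩
    refine ⟨u, htop ▸ mem_top u, v, htop ▸ mem_top v, fun e => ?_⟩
    have h1 := congrArg (fun z : SpecialLinearGroup (Fin 2) F => (z : Matrix (Fin 2) (Fin 2) F) 0 0) e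
    simp [SpecialLinearGroup.coe_mul, hu, hv, Matrix.mul_fin_two] at h1
  · obtain ⟨i, hi⟩ : ∃ i : SpecialLinearGroup (Fin 2) F, (i : Matrix (Fin 2) (Fin 2) F) = !![0, 1; -1, 0] :=
      ⟨⟨!![0, 1; -1, 0], by simp [Matrix.det_fin_two_of]⟩, rfl⟩
    have hi4 : i ^ 4 = 1 := by
      apply Matrix.SpecialLinearGroup.ext
      intro a b
      show ((i : Matrix (Fin 2) (Fin 2) F) ^ 4) a b = (1 : Matrix (Fin 2) (Fin 2) F) a b
      rw [hi]
      simp only [pow_succ, pow_zero, one_mul, Matrix.mul_fin_two]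
      fin_cases a <;> fin_cases b <;> simp
    have hir : i ∈ pResidual p (SpecialLinearGroup (Fin 2) F) := CfsgLib.Transfer.mem_pResidual_of_coprime <|
      Nat.Coprime.coprime_dvd_left (orderOf_dvd_of_pow_eq_one hi4)
        (show Nat.Coprime (2 ^ 2) p from ((Nat.coprime_primes Nat.prime_two Fact.out).2 (Ne.symm hp)).pow_left 2)
    have hj : u * i * u⁻¹ ∈ pResidual p (SpecialLinearGroup (Fin 2) F) :=
      (CfsgLib.Transfer.pResidual_normal).conj_mem i hir u
    refine ⟨i, hir, u * i * u⁻¹, hj, fun e => two_ne_zero_F (F := F) hp ?_⟩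
    have h1 := congrArg (fun z : SpecialLinearGroup (Fin 2) F => (z : Matrix (Fin 2) (Fin 2) F) 0 1) e
    simp [SpecialLinearGroup.coe_mul, SpecialLinearGroup.coe_inv, hu, hi, Matrix.adjugate_fin_two_of, Matrix.mul_fin_two] at h1
    linear_combination h1

omit [Fintype F] in
/-- `SL₂` in characteristic two has no element of order four. -/
theorem sl2_char_two_exp [CharP F 2] {g : SpecialLinearGroup (Fin 2) F} (h : g ^ 4 = 1) : g ^ 2 = 1 := by
  haveI : CharP (Matrix (Fin 2) (Fin 2) F) 2 := inferInstance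
  obtain ⟨N, hN⟩ : ∃ N, N = (g : Matrix (Fin 2) (Fin 2) F) + 1 := ⟨_, rfl⟩
  have h2 : ∀ A : Matrix (Fin 2) (Fin 2) F, (A + 1) ^ 2 = A ^ 2 + 1 := fun A => by
    rw [(Commute.one_right A).add_sq]
    simp [CharTwo.two_eq_zero]
  have h4 : N ^ 4 = 0 := by
    rw [show 4 = 2 * 2 from rfl, pow_mul, hN, h2, h2, ← pow_mul]
    have : (g : Matrix (Fin 2) (Fin 2) F) ^ 4 = 1 := by
      have := congrArg (fun z : SpecialLinearGroup (Fin 2) F => (z : Matrix (Fin 2) (Fin 2) F)) h
      simpa using this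
    rw [this, CharTwo.add_self_eq_zero]
  have hN2 : N ^ 2 = 0 := by
    have hdet : N.det = 0 := by
      have := congrArg Matrix.det h4
      rw [Matrix.det_pow, Matrix.det_zero] at this
      exact pow_eq_zero_iff (by norm_num : 4 ≠ 0) |>.1 this
    have hsq : N ^ 2 = N.trace • N := by
      rw [Matrix.det_fin_two] at hdet
      ext a b
      rw [pow_two, Matrix.mul_apply, Fin.sum_univ_two, Matrix.smul_apply, Matrix.trace_fin_two, smul_eq_mul]
      fin_cases a <;> fin_cases b <;> simp only [Fin.zero_eta, Fin.mk_one] <;>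
        first | ring1 | linear_combination (norm := ring1) hdet | linear_combination (norm := ring1) -hdet
    rw [show 4 = 2 * 2 from rfl, pow_mul, hsq, pow_two (N.trace • N), Matrix.smul_mul, Matrix.mul_smul,
      ← pow_two N, hsq, smul_smul, smul_smul] at h4
    rw [hsq]
    rcases smul_eq_zero.1 h4 with e | e
    · have : N.trace = 0 := by
        have e' : N.trace ^ 3 = 0 := by rw [← e]; ring
        exact pow_eq_zero_iff (by norm_num : 3 ≠ 0) |>.1 e'
      rw [this, zero_smul]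
    · rw [e, smul_zero]
  apply Matrix.SpecialLinearGroup.ext
  intro a b
  rw [hN, h2] at hN2
  have e : (g : Matrix (Fin 2) (Fin 2) F) ^ 2 = 1 := CharTwo.add_eq_zero.1 hN2
  simpa using congrFun (congrFun e a) b

theorem sl2_three_central_aux : ∀ z b : SpecialLinearGroup (Fin 2) (ZMod 3),
    z ^ 4 = 1 → b ^ 3 = 1 → z * b = b * z → (b = 1 ∨ z = 1 ∨ z = -1) := by decide +kernel

theorem sl2_three_center_aux : ∀ z : SpecialLinearGroup (Fin 2) (ZMod 3),
    z ^ 4 = 1 → (∀ w : SpecialLinearGroup (Fin 2) (ZMod 3), w ^ 4 = 1 → w * z = z * w) → (z = 1 ∨ z = -1) := by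
  decide +kernel

theorem sl2_three_central (z b : SpecialLinearGroup (Fin 2) (ZMod 3)) (hz : z ^ 4 = 1) (hb1 : b ≠ 1) (hb : b ^ 3 = 1)
    (hc : z * b = b * z) : ∀ g, g * z = z * g := by
  intro g
  rcases (sl2_three_central_aux z b hz hb hc).resolve_left hb1 with rfl | rfl <;> simp

theorem sl2_three_center (z : SpecialLinearGroup (Fin 2) (ZMod 3)) (hz : z ^ 4 = 1)
    (hc : ∀ w : SpecialLinearGroup (Fin 2) (ZMod 3), w ^ 4 = 1 → w * z = z * w) : ∀ g, g * z = z * g := by
  intro g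
  rcases sl2_three_center_aux z hz hc with rfl | rfl <;> simp

theorem sl2_three_mul : ∀ z w : SpecialLinearGroup (Fin 2) (ZMod 3),
    z ^ 4 = 1 → w ^ 4 = 1 → (z * w) ^ 4 = 1 := by decide +kernel

theorem sl2_three_eight : ∀ z : SpecialLinearGroup (Fin 2) (ZMod 3), z ^ 8 = 1 → z ^ 4 = 1 := by decide +kernel

/-- The elements of `O³(SL₂(3))`. -/
theorem sl2_three_res {z : SpecialLinearGroup (Fin 2) (ZMod 3)} :
    z ∈ pResidual 3 (SpecialLinearGroup (Fin 2) (ZMod 3)) ↔ z ^ 4 = 1 := by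
  haveI : Fact (Nat.Prime 3) := ⟨by norm_num⟩
  constructor
  · intro hz
    let K : Subgroup (SpecialLinearGroup (Fin 2) (ZMod 3)) :=
      { carrier := {w | w ^ 4 = 1}
        one_mem' := one_pow 4
        mul_mem' := fun {a b} ha hb => sl2_three_mul a b ha hb
        inv_mem' := fun {a} ha => by rw [Set.mem_setOf_eq, inv_pow, ha, inv_one] }
    refine (CfsgLib.Transfer.pResidual_le_iff.2 fun w hw => ?_ :
      pResidual 3 (SpecialLinearGroup (Fin 2) (ZMod 3)) ≤ K) hz
    refine sl2_three_eight w (orderOf_dvd_iff_pow_eq_one.1 ?_)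
    have h1 : orderOf w ∣ 24 := by
      have h2 := orderOf_dvd_natCard w
      rwa [CfsgLib.Classical.Two.card_SL_two, show Fintype.card (ZMod 3) = 3 from rfl] at h2
    rw [show 24 = 8 * 3 from rfl] at h1
    exact Nat.Coprime.dvd_of_dvd_mul_right hw h1
  · intro hz
    exact CfsgLib.Transfer.mem_pResidual_of_coprime
      (Nat.Coprime.coprime_dvd_left (orderOf_dvd_of_pow_eq_one hz) (by decide))

end CfsgLib.LocalEven.PMinPush
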