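import Cfsg.Agent.Lib.LocalEven.PMinPush.Common
import Cfsg.Agent.Lib.LocalEven.PMinPush.SL2More

/-!
# A block modulo its core, and the isomorphism types
-/

set_option autoImplicit false
set_option linter.all false

namespace CfsgLib.LocalEven.PMinPush

open Subgroup Cfsg CfsgLib.LocalEven.OffSL2 CfsgLib.LocalEven.PMinFF

/-- A subgroup modulo its core is its image when the core is the kernel. -/
theorem quot_equiv {G P : Type*} [Group G] [Group P] {p : ℕ} (mk : G →* P) {E : Subgroup G}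
    (hi : E ⊓ mk.ker = pCoreOf p E) :
    ∃ e : ↥E ⧸ pCore p ↥E ≃* ↥(E.map mk), ∀ x : ↥E, (e (QuotientGroup.mk' (pCore p ↥E) x) : P) = mk (x : G) := by
  have hk : pCore p ↥E = (mk.subgroupMap E).ker := by
    ext x
    rw [MonoidHom.mem_ker, Subtype.ext_iff]
    constructor
    · intro hx
      have h1 : (x : G) ∈ E ⊓ mk.ker := hi.ge ⟨x, hx, rfl⟩
      exact MonoidHom.mem_ker.1 h1.2
    · intro hx
      obtain ⟨z, hz, hze⟩ := hi.le (mem_inf.2 ⟨x.2, MonoidHom.mem_ker.2 hx⟩)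
      exact (Subtype.ext hze : z = x) ▸ hz
  exact ⟨(QuotientGroup.quotientMulEquivOfEq hk).trans
    (QuotientGroup.quotientKerEquivOfSurjective _ (mk.subgroupMap_surjective E)), fun x => rfl⟩

variable {P : Type*} [Group P] [Finite P] {p : ℕ} [Fact p.Prime]
variable {U : Type*} [AddCommGroup U] [Finite U]
variable {act : P →* AddMonoid.End U} {T M : Subgroup P} {y : U}
variable (hP : PMod p act T M y)
include hP

/-- A pair and its `O^p` as groups. -/
theorem pair_iso {B L0 : Subgroup P} (h : Pair act M B L0) (hB : Atom p act B) :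
    ∃ (F : Type) (_ : Field F) (_ : Fintype F) (_ : CharP F p) (e : ↥L0 ≃* Matrix.SpecialLinearGroup (Fin 2) F),
      Fintype.card F = Nat.card B ∧
      (∀ x : ↥L0, (x : P) ∈ pResidualOf p L0 ↔ e x ∈ pResidual p (Matrix.SpecialLinearGroup (Fin 2) F)) ∧
      Nonempty (↥(pResidualOf p L0) ≃* ↥(commutator (Matrix.SpecialLinearGroup (Fin 2) F))) := by
  obtain ⟨F, iF, iFF, ψ, ρ, hc, hρ, hψ, hker, heq⟩ := h.nat
  obtain ⟨n, hn, hq⟩ := exists_q_pow hP hB
  haveI hC := CfsgLib.PushUp.charP_of_card (F := F) hn (hc.trans hq)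
  let e : ↥L0 ≃* Matrix.SpecialLinearGroup (Fin 2) F := MulEquiv.ofBijective ρ hρ
  refine ⟨F, iF, iFF, hC, e, hc, fun x => ?_, ⟨?_⟩⟩
  · rw [← CfsgLib.Transfer.map_pResidual_mulEquiv e]
    constructor
    · rintro ⟨z, hz, hze⟩
      exact ⟨z, hz, congrArg e (Subtype.ext hze)⟩
    · rintro ⟨z, hz, hze⟩
      exact ⟨z, hz, congrArg Subtype.val (e.injective hze)⟩
  · exact (((pResidual p ↥L0).equivMapOfInjective L0.subtype L0.subtype_injective).symm.trans
      ((pResidual p ↥L0).equivMapOfInjective e.toMonoidHom e.injective)).trans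
      (MulEquiv.subgroupCongr ((CfsgLib.Transfer.map_pResidual_mulEquiv e).trans pResidual_SL2))

/-- With at least three elements, `O^p` of a pair is not commutative. -/
theorem pair_res_not_comm {B L0 : Subgroup P} (h : Pair act M B L0) (hB : Atom p act B) (hq : 3 ≤ Nat.card B) :
    ∃ a ∈ pResidualOf p L0, ∃ b ∈ pResidualOf p L0, a * b ≠ b * a := by
  obtain ⟨F, iF, iFF, iC, e, hc, hmem, -⟩ := pair_iso hP h hB
  obtain ⟨a, ha, b, hb, hab⟩ := sl2_res_not_comm (p := p) (F := F) (hc ▸ hq)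
  refine ⟨(e.symm a : P), (hmem _).2 (by simpa using ha), (e.symm b : P), (hmem _).2 (by simpa using hb), fun e' => hab ?_⟩
  have := congrArg e (Subtype.ext e' : e.symm a * e.symm b = e.symm b * e.symm a)
  simpa using this

/-- With more than three elements a pair is perfect. -/
theorem pair_res_eq {B L0 : Subgroup P} (h : Pair act M B L0) (hB : Atom p act B) (hq : 4 ≤ Nat.card B) :
    pResidualOf p L0 = L0 := by
  obtain ⟨F, iF, iFF, iC, e, hc, hmem, -⟩ := pair_iso hP h hB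
  refine le_antisymm (res_le L0) fun x hx => (hmem ⟨x, hx⟩).2 ?_
  rw [pResidual_SL2, (CfsgLib.LocalEvenB.SubBlocks.sl2_quasisimple (F := F) (hc ▸ hq)).2]
  exact mem_top _

/-- `O³` of a pair of order three is quaternion. -/
theorem pair_iso_three {B L0 : Subgroup P} (h : Pair act M B L0) (hB : Atom p act B) (hq : Nat.card B = 3)
    (hp : p = 3) :
    Nonempty (↥(pResidualOf p L0) ≃* ↥(commutator (Matrix.SpecialLinearGroup (Fin 2) (ZMod 3)))) := by
  subst hp
  obtain ⟨F, iF, iFF, iC, e, hF, -, ⟨eres⟩⟩ := pair_iso hP h hB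
  let r : F ≃+* ZMod 3 := (ZMod.ringEquivOfPrime F (p := 3) (by norm_num) (hF.trans hq)).symm
  let eS : Matrix.SpecialLinearGroup (Fin 2) F ≃* Matrix.SpecialLinearGroup (Fin 2) (ZMod 3) :=
    MulEquiv.ofBijective (Matrix.SpecialLinearGroup.map (n := Fin 2) r.toRingHom) ⟨fun a b hab => by
      apply Matrix.SpecialLinearGroup.ext
      intro i j
      have := congrArg (fun z : Matrix.SpecialLinearGroup (Fin 2) (ZMod 3) =>
        (z : Matrix (Fin 2) (Fin 2) (ZMod 3)) i j) hab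
      exact r.injective this, fun a => ⟨Matrix.SpecialLinearGroup.map (n := Fin 2) r.symm.toRingHom a, by
      apply Matrix.SpecialLinearGroup.ext
      intro i j
      exact r.apply_symm_apply _⟩⟩
  refine ⟨eres.trans (((commutator (Matrix.SpecialLinearGroup (Fin 2) F)).equivMapOfInjective eS.toMonoidHom
    eS.injective).trans (MulEquiv.subgroupCongr ?_))⟩
  rw [← pResidual_SL2 (p := 3), CfsgLib.Transfer.map_pResidual_mulEquiv eS, pResidual_SL2]

/-- Central elements of `O³` of a pair of order three. -/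
theorem pair_three {B L0 : Subgroup P} (h : Pair act M B L0) (hB : Atom p act B) (hq : Nat.card B = 3) (hp : p = 3)
    {z : P} (hz : z ∈ pResidualOf p L0) :
    (∀ l ∈ L0, l * z = z * l) ↔ ∀ a ∈ pResidualOf p L0, a * z = z * a := by
  refine ⟨fun hc a ha => hc a (res_le L0 ha), fun hc => ?_⟩
  subst hp
  obtain ⟨F, iF, iFF, iC, e, hF, hmem, -⟩ := pair_iso hP h hB
  let r : F ≃+* ZMod 3 := (ZMod.ringEquivOfPrime F (p := 3) (by norm_num) (hF.trans hq)).symm
  let e3 : ↥L0 ≃* Matrix.SpecialLinearGroup (Fin 2) (ZMod 3) := e.trans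
    (MulEquiv.ofBijective (Matrix.SpecialLinearGroup.map (n := Fin 2) r.toRingHom) ⟨fun a b hab => by
      apply Matrix.SpecialLinearGroup.ext
      intro i j
      have := congrArg (fun z : Matrix.SpecialLinearGroup (Fin 2) (ZMod 3) => (z : Matrix (Fin 2) (Fin 2) (ZMod 3)) i j) hab
      exact r.injective this, fun a => ⟨Matrix.SpecialLinearGroup.map (n := Fin 2) r.symm.toRingHom a, by
      apply Matrix.SpecialLinearGroup.ext
      intro i j
      exact r.apply_symm_apply _⟩⟩)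
  have hmem3 : ∀ x : ↥L0, (x : P) ∈ pResidualOf 3 L0 ↔ (e3 x) ^ 4 = 1 := fun x => by
    rw [← sl2_three_res, ← CfsgLib.Transfer.map_pResidual_mulEquiv e3]
    constructor
    · rintro ⟨w, hw, hwe⟩
      exact ⟨w, hw, congrArg e3 (Subtype.ext hwe)⟩
    · rintro ⟨w, hw, hwe⟩
      exact ⟨w, hw, congrArg Subtype.val (e3.injective hwe)⟩
  intro l hl
  obtain ⟨z', hz'⟩ : ∃ z', z' = (⟨z, res_le L0 hz⟩ : ↥L0) := ⟨_, rfl⟩
  have h1 := sl2_three_center (e3 z') ((hmem3 z').1 (hz' ▸ hz)) (fun w hw => by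
    obtain ⟨a, rfl⟩ := e3.surjective w
    have h2 := hc a ((hmem3 a).2 hw)
    rw [← map_mul, ← map_mul]
    exact congrArg e3 (Subtype.ext (by rw [hz']; exact h2))) (e3 ⟨l, hl⟩)
  rw [← map_mul, ← map_mul, hz'] at h1
  exact congrArg Subtype.val (e3.injective h1)

/-- In a pair of order three, elements of `O³` commuting with the atom are central. -/
theorem pair_three_commute {B L0 : Subgroup P} (h : Pair act M B L0) (hB : Atom p act B) (hq : Nat.card B = 3)
    (hp : p = 3) {z : P} (hz : z ∈ pResidualOf p L0) (hn : ∀ b ∈ B, z * b * z⁻¹ ∈ B) : ∀ l ∈ L0, l * z = z * l := by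
  subst hp
  obtain ⟨F, iF, iFF, iC, e, hF, hmem, -⟩ := pair_iso hP h hB
  let r : F ≃+* ZMod 3 := (ZMod.ringEquivOfPrime F (p := 3) (by norm_num) (hF.trans hq)).symm
  let e3 : ↥L0 ≃* Matrix.SpecialLinearGroup (Fin 2) (ZMod 3) := e.trans
    (MulEquiv.ofBijective (Matrix.SpecialLinearGroup.map (n := Fin 2) r.toRingHom) ⟨fun a b hab => by
      apply Matrix.SpecialLinearGroup.ext
      intro i j
      have := congrArg (fun z : Matrix.SpecialLinearGroup (Fin 2) (ZMod 3) => (z : Matrix (Fin 2) (Fin 2) (ZMod 3)) i j) hab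
      exact r.injective this, fun a => ⟨Matrix.SpecialLinearGroup.map (n := Fin 2) r.symm.toRingHom a, by
      apply Matrix.SpecialLinearGroup.ext
      intro i j
      exact r.apply_symm_apply _⟩⟩)
  have hmem3 : ∀ x : ↥L0, (x : P) ∈ pResidualOf 3 L0 ↔ (e3 x) ^ 4 = 1 := fun x => by
    rw [← sl2_three_res, ← CfsgLib.Transfer.map_pResidual_mulEquiv e3]
    constructor
    · rintro ⟨w, hw, hwe⟩
      exact ⟨w, hw, congrArg e3 (Subtype.ext hwe)⟩
    · rintro ⟨w, hw, hwe⟩
      exact ⟨w, hw, congrArg Subtype.val (e3.injective hwe)⟩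
  obtain ⟨b, hb, hb1⟩ := (Subgroup.bot_or_exists_ne_one B).resolve_left hB.ne
  obtain ⟨z', hz'⟩ : ∃ z', z' = (⟨z, res_le L0 hz⟩ : ↥L0) := ⟨_, rfl⟩
  obtain ⟨b', hb'⟩ : ∃ b', b' = (⟨b, h.le hb⟩ : ↥L0) := ⟨_, rfl⟩
  obtain ⟨c, hc⟩ : ∃ c, c = z' * b' * z'⁻¹ * b'⁻¹ := ⟨_, rfl⟩
  have hcB : (c : P) ∈ B := by
    rw [hc, hz', hb']
    exact mul_mem (hn b hb) (inv_mem hb)
  have hcR : (c : P) ∈ pResidualOf 3 L0 := by
    rw [hc, hz', hb']
    show z * b * z⁻¹ * b⁻¹ ∈ pResidualOf 3 L0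
    rw [show z * b * z⁻¹ * b⁻¹ = z * (b * z⁻¹ * b⁻¹) by group]
    exact mul_mem hz ((mem_normalizer_iff.1 (normalizer_le_normalizer_res L0 (le_normalizer (h.le hb))) _).1
      (inv_mem hz))
  have hc1 : c = 1 := by
    have h3 : (e3 c) ^ 3 = 1 := by
      rw [← map_pow, ← map_one e3]
      exact congrArg e3 (Subtype.ext (by rw [Subgroup.coe_pow]; exact hB.el.exp _ hcB))
    have h4 := (hmem3 c).1 hcR
    refine e3.injective ?_
    rw [map_one, ← mul_one (e3 c)]
    calc e3 c * 1 = e3 c * (e3 c) ^ 3 := by rw [h3]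
      _ = 1 := by rw [← pow_succ', h4]
  have hcom : e3 z' * e3 b' = e3 b' * e3 z' := by
    rw [← map_mul, ← map_mul]
    refine congrArg e3 ?_
    rw [hc, mul_inv_eq_one, mul_inv_eq_iff_eq_mul] at hc1
    exact hc1
  have hb3 : (e3 b') ^ 3 = 1 := by
    rw [← map_pow, ← map_one e3]
    exact congrArg e3 (Subtype.ext (by rw [hb', Subgroup.coe_pow]; exact hB.el.exp _ hb))
  have hb'1 : e3 b' ≠ 1 := fun e' => hb1 (by
    have := e3.injective (e'.trans (map_one e3).symm)
    rw [hb'] at this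
    exact congrArg Subtype.val this)
  intro l hl
  have h1 := sl2_three_central (e3 z') (e3 b') ((hmem3 z').1 (hz' ▸ hz)) hb'1 hb3 hcom (e3 ⟨l, hl⟩)
  rw [← map_mul, ← map_mul, hz'] at h1
  exact congrArg Subtype.val (e3.injective h1)

end CfsgLib.LocalEven.PMinPush
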