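import Cfsg.Prelude.Def_BaumannBlocks
import Mathlib.GroupTheory.Transfer
import Cfsg.Agent.Lib.Transfer.PResidual
import Cfsg.Agent.Lib.LocalEvenB.BaumannBlock
import Cfsg.Agent.Lib.LocalEven.PushUp.TwoKey

/-!
# `O^p` of a subgroup, coprime stabilisation, and the transfer bound for central extensions
-/

set_option autoImplicit false
set_option linter.all false

namespace CfsgLib.LocalEven.PMinPush

open Subgroup Cfsg
open scoped commutatorElement

variable {G : Type*} [Group G] {p : ℕ}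

theorem res_eq_closure (H : Subgroup G) :
    pResidualOf p H = Subgroup.closure {g : G | g ∈ H ∧ (orderOf g).Coprime p} := by
  show (Subgroup.closure {g : ↥H | (orderOf g).Coprime p}).map H.subtype = _
  rw [MonoidHom.map_closure]
  congr 1
  ext g
  constructor
  · rintro ⟨x, hx, rfl⟩
    exact ⟨x.2, (Subgroup.orderOf_coe x).symm ▸ hx⟩
  · rintro ⟨hg, hc⟩
    exact ⟨⟨g, hg⟩, show (orderOf _).Coprime p by rwa [Subgroup.orderOf_mk], rfl⟩

theorem res_le (H : Subgroup G) : pResidualOf p H ≤ H := map_subtype_le _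

theorem mem_res {H : Subgroup G} {g : G} (hg : g ∈ H) (hc : (orderOf g).Coprime p) : g ∈ pResidualOf p H := by
  rw [res_eq_closure]; exact subset_closure ⟨hg, hc⟩

theorem res_le_of {H K : Subgroup G} (h : ∀ g ∈ H, (orderOf g).Coprime p → g ∈ K) : pResidualOf p H ≤ K := by
  rw [res_eq_closure, closure_le]
  exact fun g hg => h g hg.1 hg.2

theorem res_mono {H K : Subgroup G} (h : H ≤ K) : pResidualOf p H ≤ pResidualOf p K :=
  res_le_of fun _ hg hc => mem_res (h hg) hc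

theorem res_res (H : Subgroup G) : pResidualOf p (pResidualOf p H) = pResidualOf p H :=
  le_antisymm (res_le _) (res_le_of fun _ hg hc => mem_res (mem_res hg hc) hc)

theorem normalizer_le_normalizer_res (H : Subgroup G) :
    normalizer (H : Set G) ≤ normalizer (pResidualOf p H : Set G) := by
  have key : ∀ x ∈ normalizer (H : Set G), ∀ g ∈ pResidualOf p H, x * g * x⁻¹ ∈ pResidualOf p H := by
    intro x hx g hg
    have hle : pResidualOf p H ≤ (pResidualOf p H).comap (MulAut.conj x).toMonoidHom :=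
      res_le_of fun a ha hc => mem_res ((mem_normalizer_iff.1 hx a).1 ha)
        (by rwa [show orderOf ((MulAut.conj x).toMonoidHom a) = orderOf a from
          orderOf_injective _ (MulAut.conj x).injective a])
    exact hle hg
  intro x hx
  rw [mem_normalizer_iff]
  refine fun g => ⟨key x hx g, fun h => ?_⟩
  simpa [mul_assoc] using key x⁻¹ (inv_mem hx) _ h

variable [Finite G] [hp : Fact p.Prime]

theorem res_map {K : Type*} [Group K] (f : G →* K) (H : Subgroup G) :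
    (pResidualOf p H).map f = pResidualOf p (H.map f) := by
  show ((pResidual p ↥H).map H.subtype).map f = (pResidual p ↥(H.map f)).map (H.map f).subtype
  rw [← CfsgLib.Transfer.map_pResidual_of_surjective (f.subgroupMap H) (f.subgroupMap_surjective H), map_map,
    map_map]
  rfl

/-- A coprime element stabilising a chain through a `p`-group stabilises its ends. -/
theorem coprime_step {V : Subgroup G} {x q : G} (hx : x ∈ normalizer (V : Set G)) (hq : q ∈ normalizer (V : Set G))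
    (hpow : ∃ k, ⁅x, q⁆ ^ p ^ k ∈ V) (hxx : ⁅x, ⁅x, q⁆⁆ ∈ V) (hc : (orderOf x).Coprime p) : ⁅x, q⁆ ∈ V := by
  haveI : (V.subgroupOf (normalizer (V : Set G))).Normal := normal_in_normalizer
  obtain ⟨π, hπ⟩ : ∃ π, π = QuotientGroup.mk' (V.subgroupOf (normalizer (V : Set G))) := ⟨_, rfl⟩
  have hπ1 : ∀ a, π a = 1 ↔ (a : G) ∈ V := fun a => by rw [hπ]; exact QuotientGroup.eq_one_iff a
  obtain ⟨xn, rfl⟩ : ∃ xn : normalizer (V : Set G), (xn : G) = x := ⟨⟨x, hx⟩, rfl⟩
  obtain ⟨qn, rfl⟩ : ∃ qn : normalizer (V : Set G), (qn : G) = q := ⟨⟨q, hq⟩, rfl⟩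
  have he : ((⁅xn, qn⁆ : ↥(normalizer (V : Set G))) : G) = ⁅(xn : G), (qn : G)⁆ :=
    map_commutatorElement (normalizer (V : Set G)).subtype xn qn
  have h1 : π ⁅xn, ⁅xn, qn⁆⁆ = 1 := by
    rw [hπ1, show ((⁅xn, ⁅xn, qn⁆⁆ : ↥(normalizer (V : Set G))) : G) = ⁅(xn : G), ((⁅xn, qn⁆ : ↥(normalizer (V : Set G))) : G)⁆
      from map_commutatorElement (normalizer (V : Set G)).subtype _ _, he]
    exact hxx
  rw [map_commutatorElement, commutatorElement_eq_one_iff_mul_comm] at h1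
  obtain ⟨k, hk⟩ := hpow
  have h2 := CfsgLib.PushUp.commute_of_pcoprime (p := p) (c := π xn) (q := π qn) (z := π ⁅xn, qn⁆)
    ⟨k, by rw [← map_pow, hπ1, SubmonoidClass.coe_pow, he]; exact hk⟩ h1
    (by rw [map_commutatorElement, commutatorElement_def]; group)
    ((Fact.out : p.Prime).coprime_iff_not_dvd.1 ((hc.symm.coprime_dvd_right
      ((orderOf_map_dvd π xn).trans (Subgroup.orderOf_coe xn).symm.dvd))))
  rw [← he, ← hπ1, map_commutatorElement, commutatorElement_eq_one_iff_mul_comm]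
  exact h2

theorem pow_mem_of_pgroup {U V : Subgroup G} (hU : IsPGroup p U) {u : G} (hu : u ∈ U) : ∃ k, u ^ p ^ k ∈ V := by
  obtain ⟨k, hk⟩ := hU ⟨u, hu⟩
  have h : u ^ p ^ k = 1 := congrArg Subtype.val hk
  exact ⟨k, h ▸ one_mem _⟩

/-- Commutators with `O^p(H)` are controlled by those with its generators. -/
theorem res_comm_le {H U : Subgroup G} {q : G} (hU : H ≤ normalizer (U : Set G))
    (h : ∀ x ∈ H, (orderOf x).Coprime p → ⁅x, q⁆ ∈ U) {x : G} (hx : x ∈ pResidualOf p H) : ⁅x, q⁆ ∈ U := by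
  let K : Subgroup G :=
    { carrier := {x | x ∈ normalizer (U : Set G) ∧ ⁅x, q⁆ ∈ U}
      one_mem' := ⟨one_mem _, by simp⟩
      mul_mem' := fun {a b} ha hb => ⟨mul_mem ha.1 hb.1, by
        rw [show ⁅a * b, q⁆ = a * ⁅b, q⁆ * a⁻¹ * ⁅a, q⁆ by simp only [commutatorElement_def]; group]
        exact mul_mem ((mem_normalizer_iff.1 ha.1 _).1 hb.2) ha.2⟩
      inv_mem' := fun {a} ha => ⟨inv_mem ha.1, by
        rw [show ⁅a⁻¹, q⁆ = a⁻¹ * ⁅a, q⁆⁻¹ * a⁻¹⁻¹ by simp only [commutatorElement_def]; group]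
        exact (mem_normalizer_iff.1 (inv_mem ha.1) _).1 (inv_mem ha.2)⟩ }
  exact ((res_le_of fun g hg hc => ⟨hU hg, h g hg hc⟩ : pResidualOf p H ≤ K) hx).2

/-- `N / V` central in `X / V` with abelian Sylow subgroups and `X = O^p(X)`: then `N ≤ V`. -/
theorem central_le {X N V : Subgroup G} (hX : pResidualOf p X = X) (hNX : N ≤ X)
    (hN : IsPGroup p N) (hVn : X ≤ normalizer (V : Set G)) (hcen : ∀ n ∈ N, ∀ x ∈ X, ⁅n, x⁆ ∈ V)
    (P : Sylow p ↥X) (hP : ∀ a ∈ (P : Subgroup ↥X), ∀ b ∈ (P : Subgroup ↥X), ⁅(a : G), (b : G)⁆ ∈ V) : N ≤ V := by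
  haveI hV' : (V.subgroupOf X).Normal := ⟨fun v hv x => by
    rw [mem_subgroupOf] at hv ⊢
    exact (mem_normalizer_iff.1 (hVn x.2) _).1 hv⟩
  obtain ⟨π, hπ⟩ : ∃ π, π = QuotientGroup.mk' (V.subgroupOf X) := ⟨_, rfl⟩
  have hπs : Function.Surjective π := hπ ▸ QuotientGroup.mk'_surjective _
  have hπ1 : ∀ a, π a = 1 ↔ (a : G) ∈ V := fun a => by rw [hπ]; exact QuotientGroup.eq_one_iff a
  obtain ⟨R, hR⟩ : ∃ R : Sylow p (↥X ⧸ V.subgroupOf X), R = P.mapSurjective hπs := ⟨_, rfl⟩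
  haveI : IsMulCommutative ↥(R : Subgroup (↥X ⧸ V.subgroupOf X)) := by
    refine ⟨⟨?_⟩⟩
    rintro ⟨a, ha⟩ ⟨b, hb⟩
    rw [hR, Sylow.coe_mapSurjective] at ha hb
    obtain ⟨a, ha', rfl⟩ := ha
    obtain ⟨b, hb', rfl⟩ := hb
    refine Subtype.ext (commutatorElement_eq_one_iff_mul_comm.1 ?_)
    rw [← map_commutatorElement, hπ1, show ((⁅a, b⁆ : ↥X) : G) = ⁅(a : G), (b : G)⁆ from map_commutatorElement X.subtype a b]
    exact hP a ha' b hb'
  letI : CommGroup ↥(R : Subgroup (↥X ⧸ V.subgroupOf X)) :=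
    { (inferInstance : Group ↥(R : Subgroup (↥X ⧸ V.subgroupOf X))) with mul_comm := fun a b => mul_comm' a b }
  intro n hn
  obtain ⟨z, hz⟩ : ∃ z, z = π ⟨n, hNX hn⟩ := ⟨_, rfl⟩
  have hzc : ∀ g, g * z = z * g := by
    intro g
    obtain ⟨g, rfl⟩ := hπs g
    refine (commutatorElement_eq_one_iff_mul_comm.1 ?_).symm
    rw [hz, ← map_commutatorElement, hπ1]
    rw [show ((⁅(⟨n, hNX hn⟩ : ↥X), g⁆ : ↥X) : G) = ⁅n, (g : G)⁆ from map_commutatorElement X.subtype _ g]
    exact hcen n hn g g.2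
  obtain ⟨k, hk⟩ := hN ⟨n, hn⟩
  have hk' : z ^ p ^ k = 1 := by
    rw [hz, ← map_pow, hπ1]
    rw [SubmonoidClass.coe_pow, show n ^ p ^ k = 1 from congrArg Subtype.val hk]
    exact one_mem _
  have hkey : ∀ (j : ℕ) (g₀ : ↥X ⧸ V.subgroupOf X), g₀⁻¹ * z ^ j * g₀ = z ^ j := fun j g₀ => by
    rw [mul_assoc, ← ((show Commute g₀ z from hzc g₀).pow_right j).eq, inv_mul_cancel_left]
  have h1 := MonoidHom.transfer_eq_pow (MonoidHom.id ↥(R : Subgroup (↥X ⧸ V.subgroupOf X))) z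
    (fun j g₀ _ => hkey j g₀)
  have h2 : z ∈ (MonoidHom.transfer (MonoidHom.id ↥(R : Subgroup (↥X ⧸ V.subgroupOf X)))).ker := by
    refine CfsgLib.Transfer.pResidual_le_ker (p := p) R.2 _ ?_
    rw [← CfsgLib.Transfer.map_pResidual_of_surjective π hπs]
    refine hz ▸ mem_map_of_mem π ?_
    have h3 : n ∈ pResidualOf p X := hX.symm ▸ hNX hn
    obtain ⟨y, hy, hye⟩ := h3
    exact (show y = ⟨n, hNX hn⟩ from Subtype.ext hye) ▸ hy
  rw [MonoidHom.mem_ker, h1, MonoidHom.id_apply] at h2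
  have h4 : z ^ (R : Subgroup (↥X ⧸ V.subgroupOf X)).index = 1 := congrArg Subtype.val h2
  have hco : (p ^ k).Coprime (R : Subgroup (↥X ⧸ V.subgroupOf X)).index :=
    ((Fact.out : p.Prime).coprime_iff_not_dvd.2 R.not_dvd_index).pow_left k
  have h5 : z = 1 := by
    rw [← orderOf_eq_one_iff]
    exact Nat.eq_one_of_dvd_coprimes hco (orderOf_dvd_of_pow_eq_one hk') (orderOf_dvd_of_pow_eq_one h4)
  rw [hz, hπ1] at h5
  exact h5

end CfsgLib.LocalEven.PMinPush
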