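import Cfsg.Agent.Lib.LocalEven.PMinPush.Atoms
import Cfsg.Agent.Lib.LocalEven.PMinPush.Res
import Cfsg.Agent.Lib.LocalEven.PMinFF.Ambient
import Cfsg.Agent.Lib.LocalEven.PMinimalCore
import Cfsg.Agent.Lib.LocalEvenB.BaumannBlock
import Cfsg.Agent.Lib.LocalEvenB.ReplacementOmega
import Cfsg.Agent.Lib.LocalEvenB.PushingUpCL.Swap
import Cfsg.Agent.Lib.LocalEven.Transitive
import Cfsg.Agent.Lib.PLocal.Offender

/-!
# The group, its module, and the largest elementary abelian subgroups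
-/

set_option autoImplicit false
set_option linter.all false

namespace CfsgLib.LocalEven.PMinPush

open Subgroup Cfsg CfsgLib.LocalEven.OffSL2 CfsgLib.LocalEven.PMinFF
open scoped IsMulCommutative commutatorElement

variable {G : Type*} [Group G] [Finite G] {p : ℕ} [Fact p.Prime]

/-- `Ω₁(Z(J(T)))`. -/
abbrev jW (p : ℕ) (T : Subgroup G) : Subgroup G := omegaOne p (centerThompsonOf p T)

theorem el_iff {A : Subgroup G} : IsElementaryAbelian p A ↔ El p A :=
  ⟨fun h => ⟨fun a ha b hb => congrArg Subtype.val (h.1.is_comm.comm ⟨a, ha⟩ ⟨b, hb⟩), h.2⟩,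
    fun h => ⟨⟨⟨fun a b => Subtype.ext (h.comm a a.2 b b.2)⟩⟩, h.exp⟩⟩

theorem el_zpowers {x : G} (hx : x ^ p = 1) : El p (zpowers x) := el_iff.1 (CfsgLib.PLocal.elementary_zpowers hx)

/-- `V` and the faithful action of `G / C_G(V)`, with the standing hypotheses. -/
structure Ctx {P : Type*} [Group P] [Finite P] (p : ℕ) (T : Sylow p G) (M : Subgroup G) (mk : G →* P)
    (V : Subgroup G) [IsMulCommutative V] (act : P →* AddMonoid.End (Additive ↥V)) (y : Additive ↥V) : Prop where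
  hmin : IsPMinimal p G
  hG : centralizer (pCore p G : Set G) ≤ pCore p G
  hchar : ∀ C : Subgroup G, C ≤ baumannSubgroupOf p (T : Subgroup G) → C ≠ ⊥ →
    (C.subgroupOf (baumannSubgroupOf p (T : Subgroup G))).Characteristic → ¬ C.Normal
  hz : ¬ (omegaOneCenter p (T : Subgroup G)).Normal
  coatom : IsCoatom M
  TM : (T : Subgroup G) ≤ M
  V_eq : V = omegaOneCenter p (pCore p G)
  surj : Function.Surjective mk
  ker : mk.ker = centralizer (V : Set G)
  conj : ∀ (g : G) (v : Additive ↥V),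
    ((Additive.toMul (act (mk g) v) : ↥V) : G) = g * (Additive.toMul v : ↥V) * g⁻¹
  pm : PMod p act ((T : Subgroup G).map mk) (M.map mk) y
  exact : ∀ A ∈ maxElementaryAbelianSubgroups p G, Exact p act (A.map mk)
  ex : ∃ A ∈ maxElementaryAbelianSubgroups p G, ¬ A ≤ mk.ker

variable {P : Type*} [Group P] [Finite P] {T : Sylow p G} {M : Subgroup G} {mk : G →* P}
variable {V : Subgroup G} [IsMulCommutative V] {act : P →* AddMonoid.End (Additive ↥V)} {y : Additive ↥V}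
variable (h : Ctx p T M mk V act y)
include h

theorem Ctx.le_M {X : Subgroup G} (hX : (T : Subgroup G) ≤ X) (hne : X ≠ ⊤) : X ≤ M :=
  PMinimalCore.le_of_sylow_le h.hmin T h.coatom h.TM hX hne

theorem Ctx.mem_V {x : G} : x ∈ V ↔ x ∈ pCore p G ⊓ centralizer (pCore p G : Set G) ∧ x ^ p = 1 := by
  rw [h.V_eq]; exact CfsgLib.LocalEvenB.PushCL.mem_omegaOneCenter

theorem Ctx.V_le_core : V ≤ pCore p G := fun _ hx => (h.mem_V.1 hx).1.1

theorem Ctx.core_le_T : pCore p G ≤ (T : Subgroup G) := CfsgLib.Core.pCore_le_sylow T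

theorem Ctx.V_el : El p V :=
  ⟨fun a ha b hb => congrArg Subtype.val (mul_comm' (⟨a, ha⟩ : V) ⟨b, hb⟩), fun a ha => (h.mem_V.1 ha).2⟩

theorem Ctx.V_normal : V.Normal := ⟨fun v hv g => by
  haveI hQn : (pCore p G).Normal := CfsgLib.Core.normal_pCore p G
  obtain ⟨⟨h1, h2⟩, h3⟩ := h.mem_V.1 hv
  refine h.mem_V.2 ⟨⟨hQn.conj_mem v h1 g, mem_centralizer_iff.2 fun q hq => ?_⟩,
    by rw [conj_pow, h3, mul_one, mul_inv_cancel]⟩
  have h4 := mem_centralizer_iff.1 h2 _ (hQn.conj_mem q hq g⁻¹)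
  simpa [mul_assoc] using congrArg (fun z => g * z * g⁻¹) h4⟩

/-- `mk g` fixes `v` when `g` commutes with it. -/
theorem Ctx.fix_iff {g : G} {v : Additive ↥V} :
    act (mk g) v = v ↔ g * (Additive.toMul v : ↥V) = (Additive.toMul v : ↥V) * g := by
  constructor
  · intro e
    have h2 := h.conj g v
    rw [e] at h2
    exact (eq_mul_inv_iff_mul_eq.1 h2).symm
  · intro e
    refine Additive.toMul.injective (Subtype.ext ((h.conj g v).trans ?_))
    rw [mul_inv_eq_iff_eq_mul]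
    exact e

theorem Ctx.mem_fix_map {H : Subgroup G} {v : Additive ↥V} :
    v ∈ fix act (H.map mk) ↔ ((Additive.toMul v : ↥V) : G) ∈ centralizer (H : Set G) := by
  rw [mem_centralizer_iff]
  exact ⟨fun hv g hg => h.fix_iff.1 (hv _ ⟨g, hg, rfl⟩), fun hv => by
    rintro _ ⟨g, hg, rfl⟩; exact h.fix_iff.2 (hv g hg)⟩

theorem Ctx.mem_ker {g : G} : g ∈ mk.ker ↔ ∀ v ∈ V, g * v = v * g := by
  rw [h.ker, mem_centralizer_iff]
  exact ⟨fun e v hv => (e v hv).symm, fun e v hv => (e v hv).symm⟩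

theorem Ctx.core_le_ker : pCore p G ≤ mk.ker := fun q hq => h.mem_ker.2 fun v hv =>
  mem_centralizer_iff.1 (h.mem_V.1 hv).1.2 q hq

theorem Ctx.omT_le_V : omegaOneCenter p (T : Subgroup G) ≤ V := fun x hx => by
  obtain ⟨⟨h1, h2⟩, h3⟩ := CfsgLib.LocalEvenB.PushCL.mem_omegaOneCenter.1 hx
  have h4 : x ∈ centralizer (pCore p G : Set G) := centralizer_le h.core_le_T h2
  exact h.mem_V.2 ⟨⟨h.hG h4, h4⟩, h3⟩

theorem Ctx.T_le_centZ : (T : Subgroup G) ≤ centralizer (omegaOneCenter p (T : Subgroup G) : Set G) := fun t ht =>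
  mem_centralizer_iff.2 fun x hx =>
    (mem_centralizer_iff.1 (CfsgLib.LocalEvenB.PushCL.mem_omegaOneCenter.1 hx).1.2 t ht).symm

theorem Ctx.ker_le_centZ : mk.ker ≤ centralizer (omegaOneCenter p (T : Subgroup G) : Set G) := fun g hg =>
  mem_centralizer_iff.2 fun x hx => (h.mem_ker.1 hg x (h.omT_le_V hx)).symm

theorem Ctx.centZ_ne_top : centralizer (omegaOneCenter p (T : Subgroup G) : Set G) ≠ ⊤ := fun e => h.hz
  ⟨fun z hz g => by
    rw [← mem_centralizer_iff.1 (e.ge (mem_top g)) z hz, mul_inv_cancel_right]; exact hz⟩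

theorem Ctx.centZ_le_M : centralizer (omegaOneCenter p (T : Subgroup G) : Set G) ≤ M :=
  h.le_M h.T_le_centZ h.centZ_ne_top

theorem Ctx.ker_le_M : mk.ker ≤ M := h.ker_le_centZ.trans h.centZ_le_M

theorem Ctx.comap_M : (M.map mk).comap mk = M := by rw [comap_map_eq, sup_eq_left.2 h.ker_le_M]

theorem Ctx.mem_M_iff {g : G} : mk g ∈ M.map mk ↔ g ∈ M := by
  conv_rhs => rw [← h.comap_M, mem_comap]

theorem Ctx.baumann_le : baumannSubgroupOf p (T : Subgroup G) ≤ (T : Subgroup G) := inf_le_left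

theorem Ctx.T_normalizes_baumann :
    (T : Subgroup G) ≤ normalizer (baumannSubgroupOf p (T : Subgroup G) : Set G) :=
  le_normalizer.trans (CfsgLib.LocalEvenB.normalizer_le_normalizer_baumann _)

/-- `T` normalises the characteristic subgroups of `B(T)`. -/
theorem Ctx.T_normalizes_char {C : Subgroup G} (hC : C ≤ baumannSubgroupOf p (T : Subgroup G))
    (hch : (C.subgroupOf (baumannSubgroupOf p (T : Subgroup G))).Characteristic) :
    (T : Subgroup G) ≤ normalizer (C : Set G) := by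
  intro t ht
  refine PMinFF.mem_normalizer_of_conj fun c hc => ?_
  have hn := mem_normalizer_iff.1 (h.T_normalizes_baumann ht)
  let e : ↥(baumannSubgroupOf p (T : Subgroup G)) ≃* ↥(baumannSubgroupOf p (T : Subgroup G)) :=
    { toFun := fun x => ⟨t * x * t⁻¹, (hn x).1 x.2⟩
      invFun := fun x => ⟨t⁻¹ * x * t, (hn _).2 (by simp [mul_assoc])⟩
      left_inv := fun x => Subtype.ext (by simp [mul_assoc])
      right_inv := fun x => Subtype.ext (by simp [mul_assoc])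
      map_mul' := fun x z => Subtype.ext (by simp [mul_assoc]) }
  exact (characteristic_iff_map_le.1 hch e) ⟨⟨c, hC hc⟩, hc, rfl⟩

theorem Ctx.cStar_le_M : cStarOf p (T : Subgroup G) ≤ M := by
  refine sup_le h.centZ_le_M (iSup_le fun C => ?_)
  refine h.le_M (h.T_normalizes_char C.2.1 C.2.2.2) fun e => h.hchar _ C.2.1 C.2.2.1 C.2.2.2 ?_
  exact normalizer_eq_top_iff.1 e

theorem Ctx.T_le_cStar : (T : Subgroup G) ≤ cStarOf p (T : Subgroup G) := h.T_le_centZ.trans le_sup_left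

theorem Ctx.ker_le_cStar : mk.ker ≤ cStarOf p (T : Subgroup G) := h.ker_le_centZ.trans le_sup_left

/-- A normal subgroup inside `M` meets `T` in `O_p(G)`. -/
theorem Ctx.inf_le_core {N : Subgroup G} [N.Normal] (hN : N ≤ M) : (T : Subgroup G) ⊓ N ≤ pCore p G :=
  inf_comm (a := N) (b := (T : Subgroup G)) ▸
    PMinimalCore.inf_sylow_le_pCore h.hmin T h.coatom h.TM ((Subgroup.Normal.isSubnormal inferInstance)) hN

/-- `p`-subgroups of `C_G(V)` lie in `O_p(G)`. -/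
theorem Ctx.pgroup_le_core {S : Subgroup G} (hS : IsPGroup p S) (hSk : S ≤ mk.ker) : S ≤ pCore p G := by
  obtain ⟨k, -, hk⟩ := (MaxP.of_sylow T (le_top : _ ≤ (⊤ : Subgroup G))).exists_conj hS le_top
  intro s hs
  have h1 := h.inf_le_core h.ker_le_M ⟨hk (PMinFF.conj_mem_cj hs), (MonoidHom.normal_ker mk).conj_mem s (hSk hs) k⟩
  haveI hQn : (pCore p G).Normal := CfsgLib.Core.normal_pCore p G
  simpa [mul_assoc] using hQn.conj_mem _ h1 k⁻¹

theorem Ctx.zpowers_le_core {g : G} (hg : g ∈ mk.ker) {k : ℕ} (hk : g ^ p ^ k = 1) : g ∈ pCore p G := by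
  refine h.pgroup_le_core (S := zpowers g) ?_ (zpowers_le.2 hg) (mem_zpowers g)
  rintro ⟨x, hx⟩
  obtain ⟨i, rfl⟩ := hx
  refine ⟨k, Subtype.ext ?_⟩
  show (g ^ i) ^ p ^ k = 1
  rw [← zpow_natCast (g ^ i), ← zpow_mul, mul_comm, zpow_mul, zpow_natCast, hk, one_zpow]

theorem Ctx.maxElem_iff {A : Subgroup G} :
    CfsgLib.Transfer.MaxElem p (T : Subgroup G) A ↔
      A ∈ maxElementaryAbelianSubgroups p G ∧ A ≤ (T : Subgroup G) := by
  constructor
  · intro hA
    refine ⟨⟨hA.2.1, fun B hB => ?_⟩, hA.1⟩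
    obtain ⟨k, -, hk⟩ := (MaxP.of_sylow T (le_top : _ ≤ (⊤ : Subgroup G))).exists_conj
      (CfsgLib.PLocal.isPGroup_of_elementary hB) le_top
    rw [← PMinFF.card_cj k B]
    exact hA.2.2 _ hk (el_iff.2 ((el_iff.1 hB).cj k))
  · exact fun hA => ⟨hA.2, hA.1.1, fun B _ hB => hA.1.2 B hB⟩

theorem Ctx.le_J {A : Subgroup G} (hA : A ∈ maxElementaryAbelianSubgroups p G) (hAT : A ≤ (T : Subgroup G)) :
    A ≤ thompsonSubgroupOf p (T : Subgroup G) :=
  CfsgLib.Transfer.le_thompsonOf_of_max (h.maxElem_iff.2 ⟨hA, hAT⟩)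

theorem Ctx.J_le {X : Subgroup G}
    (hX : ∀ A ∈ maxElementaryAbelianSubgroups p G, A ≤ (T : Subgroup G) → A ≤ X) :
    thompsonSubgroupOf p (T : Subgroup G) ≤ X := by
  rw [CfsgLib.Transfer.thompsonOf_eq_sSup]
  exact sSup_le fun A hA => hX A (h.maxElem_iff.1 hA).1 (h.maxElem_iff.1 hA).2

theorem Ctx.W_pow {w : G} (hw : w ∈ jW p (T : Subgroup G)) : w ^ p = 1 :=
  CfsgLib.LocalEvenB.pow_eq_one_of_mem_omegaOne
    ⟨⟨fun a b => Subtype.ext (CfsgLib.Transfer.centerThompson_comm a.2 b.2)⟩⟩ hw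

theorem Ctx.W_le_T : jW p (T : Subgroup G) ≤ (T : Subgroup G) :=
  (CfsgLib.PGroups.omegaOne_le _).trans (CfsgLib.Transfer.centerThompsonOf_le _)

theorem Ctx.W_comm {A : Subgroup G} (hA : A ∈ maxElementaryAbelianSubgroups p G) (hAT : A ≤ (T : Subgroup G))
    {a w : G} (ha : a ∈ A) (hw : w ∈ jW p (T : Subgroup G)) : a * w = w * a :=
  CfsgLib.Transfer.commute_of_mem_centerThompson (CfsgLib.PGroups.omegaOne_le _ hw) (h.le_J hA hAT ha)

theorem Ctx.W_le {A : Subgroup G} (hA : A ∈ maxElementaryAbelianSubgroups p G) (hAT : A ≤ (T : Subgroup G)) :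
    jW p (T : Subgroup G) ≤ A := fun w hw =>
  CfsgLib.Transfer.mem_maxElem_of_centralizes (h.maxElem_iff.2 ⟨hA, hAT⟩) (h.W_le_T hw) (h.W_pow hw)
    (mem_centralizer_iff.2 fun _ ha => h.W_comm hA hAT ha hw)

/-- An element of order `p` of `T` commuting with all largest elementary abelian subgroups of `T` lies in `W`. -/
theorem Ctx.mem_W {x : G} (hxT : x ∈ (T : Subgroup G)) (hx : x ^ p = 1)
    (hc : ∀ A ∈ maxElementaryAbelianSubgroups p G, A ≤ (T : Subgroup G) → ∀ a ∈ A, a * x = x * a) :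
    x ∈ jW p (T : Subgroup G) := by
  have hcJ : thompsonSubgroupOf p (T : Subgroup G) ≤ centralizer ({x} : Set G) :=
    h.J_le fun A hA hAT a ha => mem_centralizer_singleton_iff.2 (hc A hA hAT a ha)
  obtain ⟨A₁, hA₁, -⟩ := h.ex
  obtain ⟨k, -, hk⟩ := (MaxP.of_sylow T (le_top : _ ≤ (⊤ : Subgroup G))).exists_conj
    (CfsgLib.PLocal.isPGroup_of_elementary hA₁.1) le_top
  have hA : cj k A₁ ∈ maxElementaryAbelianSubgroups p G :=
    ⟨el_iff.2 ((el_iff.1 hA₁.1).cj k), fun B hB => (hA₁.2 B hB).trans (PMinFF.card_cj k A₁).ge⟩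
  have hxA := CfsgLib.Transfer.mem_maxElem_of_centralizes (h.maxElem_iff.2 ⟨hA, hk⟩) hxT hx
    (mem_centralizer_iff.2 fun a ha => hc _ hA hk a ha)
  exact CfsgLib.PGroups.mem_omegaOne ⟨h.le_J hA hk hxA, mem_centralizer_iff.2 fun j hj =>
    mem_centralizer_singleton_iff.1 (hcJ hj)⟩ hx

/-- The exact subgroups of the image of a largest elementary abelian subgroup are themselves such images. -/
theorem Ctx.subExact {A : Subgroup G} (hA : A ∈ maxElementaryAbelianSubgroups p G) {X : Subgroup P}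
    (hX : Exact p act X) (hXA : X ≤ A.map mk) :
    (A ⊓ X.comap mk) ⊔ (V ⊓ centralizer ((A ⊓ X.comap mk : Subgroup G) : Set G)) ∈
        maxElementaryAbelianSubgroups p G ∧
      ((A ⊓ X.comap mk) ⊔ (V ⊓ centralizer ((A ⊓ X.comap mk : Subgroup G) : Set G))).map mk = X := by
  obtain ⟨A1, hA1⟩ : ∃ A1, A1 = A ⊓ X.comap mk := ⟨_, rfl⟩
  obtain ⟨V1, hV1⟩ : ∃ V1, V1 = V ⊓ centralizer (A1 : Set G) := ⟨_, rfl⟩
  rw [← hA1, ← hV1]
  have hAel := el_iff.1 hA.1
  have hA1le : A1 ≤ A := hA1 ▸ inf_le_left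
  have hV1c : ∀ a ∈ A1, ∀ v ∈ V1, a * v = v * a := fun a ha v hv => by
    rw [hV1] at hv; exact mem_centralizer_iff.1 hv.2 a ha
  have hel : El p (A1 ⊔ V1) := (hAel.mono hA1le).sup (h.V_el.mono (hV1 ▸ inf_le_left)) hV1c
  have hV1k : V1 ≤ mk.ker := (hV1 ▸ inf_le_left : V1 ≤ V).trans (h.V_le_core.trans h.core_le_ker)
  have himg : A1.map mk = X := le_antisymm
    (map_le_iff_le_comap.2 (hA1 ▸ inf_le_right)) fun x hx => by
      obtain ⟨a, ha, rfl⟩ := hXA hx
      exact ⟨a, hA1 ▸ ⟨ha, hx⟩, rfl⟩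
  refine ⟨⟨el_iff.2 hel, fun B hB => (hA.2 B hB).trans ?_⟩, ?_⟩
  swap
  · rw [Subgroup.map_sup, himg, (Subgroup.map_eq_bot_iff V1).2 hV1k, sup_bot_eq]
  -- counting
  have hker : ∀ {D : Subgroup G}, Nat.card D = Nat.card (D.map mk) * Nat.card ↥(D ⊓ mk.ker) := fun {D} => by
    rw [card_eq_card_quotient_mul_card_subgroup (mk.comp D.subtype).ker,
      Nat.card_congr (QuotientGroup.quotientKerEquivRange _).toEquiv, MonoidHom.range_comp, range_subtype]
    congr 1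
    exact Nat.card_congr
      { toFun := fun a => ⟨((a : D) : G), (a : D).2, a.2⟩
        invFun := fun a => ⟨⟨(a : G), a.2.1⟩, a.2.2⟩
        left_inv := fun a => rfl
        right_inv := fun a => rfl }
  have hfix : ∀ {D : Subgroup G}, Nat.card (fix act (D.map mk)) = Nat.card ↥(V ⊓ centralizer (D : Set G)) :=
    fun {D} => Nat.card_congr
      { toFun := fun v => ⟨((Additive.toMul (v : Additive ↥V) : ↥V) : G), (Additive.toMul (v : Additive ↥V)).2,
          h.mem_fix_map.1 v.2⟩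
        invFun := fun v => ⟨Additive.ofMul ⟨(v : G), v.2.1⟩, h.mem_fix_map.2 v.2.2⟩
        left_inv := fun v => rfl
        right_inv := fun v => rfl }
  have hkk : A1 ⊓ mk.ker = A ⊓ mk.ker := le_antisymm (inf_le_inf_right _ hA1le) fun x hx =>
    ⟨hA1 ▸ ⟨hx.1, show mk x ∈ X by rw [MonoidHom.mem_ker.1 hx.2]; exact one_mem _⟩, hx.2⟩
  have hVA : V ⊓ centralizer (A : Set G) ≤ A := fun v hv => by
    have hel2 := (el_zpowers (h.V_el.exp v hv.1)).sup hAel fun a ha b hb => by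
      obtain ⟨i, rfl⟩ := ha
      exact ((show Commute b v from mem_centralizer_iff.1 hv.2 b hb).symm.zpow_left i).eq
    exact (eq_of_le_of_card_ge (le_sup_right : A ≤ zpowers v ⊔ A) (hA.2 _ (el_iff.2 hel2))).ge
      (mem_sup_left (mem_zpowers v))
  have hinf : A1 ⊓ V1 ≤ V ⊓ centralizer (A : Set G) := fun x hx => by
    obtain ⟨h1, h2⟩ := hx
    rw [hV1] at h2
    exact ⟨h2.1, mem_centralizer_iff.2 fun a ha => hAel.comm a ha x (hA1le h1)⟩
  have e1 := CfsgLib.Core.card_sup_mul_card_inf A1 V1 (le_normalizer_iff.2 fun a ha v hv => by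
    rw [hV1c a ha v hv, mul_inv_cancel_right]; exact hv)
  have e2 := hX.eq
  have e3 := (h.exact A hA).eq
  rw [meas] at e2 e3
  have c1 : Nat.card A1 = Nat.card X * Nat.card ↥(A ⊓ mk.ker) := by rw [hker, himg, hkk]
  have c2 : Nat.card V1 = Nat.card (fix act X) := by rw [← himg, hfix, hV1]
  refine Nat.le_of_mul_le_mul_right ?_ (Nat.card_pos : 0 < Nat.card ↥(A1 ⊓ V1))
  calc Nat.card A * Nat.card ↥(A1 ⊓ V1) ≤ Nat.card A * Nat.card ↥(V ⊓ centralizer (A : Set G)) :=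
        Nat.mul_le_mul_left _ (card_le_of_le hinf)
    _ = Nat.card (A.map mk) * Nat.card (fix act (A.map mk)) * Nat.card ↥(A ⊓ mk.ker) := by
        rw [hker, hfix]; ring
    _ = Nat.card X * Nat.card (fix act X) * Nat.card ↥(A ⊓ mk.ker) := by rw [e3, ← e2]
    _ = Nat.card A1 * Nat.card V1 := by rw [c1, c2]; ring
    _ = _ := e1.symm

theorem Ctx.maxEl_cj {A : Subgroup G} (hA : A ∈ maxElementaryAbelianSubgroups p G) (k : G) :
    cj k A ∈ maxElementaryAbelianSubgroups p G :=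
  ⟨el_iff.2 ((el_iff.1 hA.1).cj k), fun B hB => (hA.2 B hB).trans (PMinFF.card_cj k A).ge⟩

/-- Every atom is the image of a largest elementary abelian subgroup. -/
theorem Ctx.atom_image {Z : Subgroup P} (hZ : Atom p act Z) :
    ∃ A ∈ maxElementaryAbelianSubgroups p G, A.map mk = Z := by
  obtain ⟨A, hA, hAk⟩ := h.ex
  have hne : A.map mk ≠ ⊥ := fun e => hAk ((Subgroup.map_eq_bot_iff A).1 e)
  obtain ⟨X, ⟨hX1, hX2, hX3⟩, hmin⟩ := Set.exists_min_image {B | B ≤ A.map mk ∧ B ≠ ⊥ ∧ Exact p act B}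
    (fun B => Nat.card B) (Set.toFinite _) ⟨A.map mk, le_rfl, hne, h.exact A hA⟩
  have hXat : Atom p act X := ⟨hX3, hX2, fun D hD hDe => or_iff_not_imp_left.2 fun hD0 =>
    eq_of_le_of_card_ge hD (hmin D ⟨hD.trans hX1, hD0, hDe⟩)⟩
  obtain ⟨𝒵, h𝒵⟩ : ∃ 𝒵 : Set (Subgroup P), 𝒵 = {Z | Atom p act Z ∧
      ∃ A ∈ maxElementaryAbelianSubgroups p G, A.map mk = Z} := ⟨_, rfl⟩
  have hXz : X ∈ 𝒵 := h𝒵 ▸ ⟨hXat, _, h.subExact hA hX3 hX1⟩
  have hconj : ∀ g : P, ∀ Y ∈ 𝒵, PMinFF.cj g Y ∈ 𝒵 := fun g Y hY => by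
    rw [h𝒵] at hY ⊢
    obtain ⟨hY1, B, hB, rfl⟩ := hY
    obtain ⟨k, rfl⟩ := h.surj g
    refine ⟨hY1.cj _, cj k B, h.maxEl_cj hB k, ?_⟩
    rw [PMinFF.cj, PMinFF.cj, map_map, map_map]
    congr 1
    ext x
    simp
  suffices hmem : Z ∈ 𝒵 by rw [h𝒵] at hmem; exact hmem.2
  by_contra hZn
  obtain ⟨N, hN⟩ : ∃ N, N = sSup 𝒵 := ⟨_, rfl⟩
  have hn : ∀ g : P, ∀ n ∈ N, g * n * g⁻¹ ∈ N := fun g n hn => by
    have : N ≤ N.comap (MulAut.conj g).toMonoidHom := by
      conv_lhs => rw [hN]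
      refine sSup_le fun Y hY => map_le_iff_le_comap.1 ?_
      rw [hN]
      exact le_sSup (hconj g Y hY)
    exact this hn
  have htop := normal_sup_top h.pm hn hXat.el.isPGroup (hN ▸ le_sSup hXz) hXat.ne
  refine hZ.ne (eq_bot_of_central h.pm (fun t ht => PMinFF.mem_normalizer_of_conj (hn t)) htop hZ.el.isPGroup
    fun a ha n hn' => ?_)
  have hle : N ≤ centralizer {a} := by
    rw [hN]
    refine sSup_le fun Y hY z hz => mem_centralizer_singleton_iff.2 ?_
    by_contra hne'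
    have hY1 : Atom p act Y := by rw [h𝒵] at hY; exact hY.1
    obtain ⟨g, hg⟩ := conj_of_not_commute h.pm (q := Nat.card Z)
      ⟨hY1, atom_card_eq h.pm hY1 hZ⟩ ⟨hZ, rfl⟩ fun hall => hne' (hall z hz a ha)
    exact hZn (hg ▸ hconj g Y hY)
  exact (mem_centralizer_singleton_iff.1 (hle hn')).symm

/-- Atoms in `T` are images of largest elementary abelian subgroups of `T`. -/
theorem Ctx.sig_image {q : ℕ} {B : Subgroup P} (hB : B ∈ sig p act ((T : Subgroup G).map mk) q) :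
    ∃ A ∈ maxElementaryAbelianSubgroups p G, A ≤ (T : Subgroup G) ∧ A.map mk = B := by
  obtain ⟨A, hA, hAB⟩ := h.atom_image hB.1.1
  have hAT : A ≤ (T : Subgroup G) ⊔ mk.ker := by
    rw [← comap_map_eq]
    exact map_le_iff_le_comap.1 (hAB.le.trans hB.2)
  obtain ⟨k, hk, hkA⟩ := ((MaxP.of_sylow T (le_top : _ ≤ (⊤ : Subgroup G))).mono
    (L' := (T : Subgroup G) ⊔ mk.ker) le_sup_left le_top).exists_conj (el_iff.1 hA.1).isPGroup hAT
  rw [← comap_map_eq] at hk
  obtain ⟨t, ht, hte⟩ := hk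
  refine ⟨cj t⁻¹ (cj k A), h.maxEl_cj (h.maxEl_cj hA k) t⁻¹,
    PMinFF.cj_le_of_mem (inv_mem ht) hkA, ?_⟩
  rw [PMinFF.cj_cj, PMinFF.cj, map_map]
  rw [show mk.comp (MulAut.conj (t⁻¹ * k)).toMonoidHom = mk from MonoidHom.ext fun x => by
    simp [hte, mul_assoc]]
  exact hAB

/-- `W ≤ O_p(G)`. -/
theorem Ctx.W_le_core : jW p (T : Subgroup G) ≤ pCore p G := by
  obtain ⟨A1, hA1, -⟩ := h.ex
  obtain ⟨k, -, hk⟩ := (MaxP.of_sylow T (le_top : _ ≤ (⊤ : Subgroup G))).exists_conj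
    (el_iff.1 hA1.1).isPGroup le_top
  have hbot : Exact p act (⊥ : Subgroup P) :=
    ⟨⟨fun a ha b hb => by rw [mem_bot.1 ha, mem_bot.1 hb], fun a ha => by rw [mem_bot.1 ha, one_pow]⟩, meas_bot act⟩
  obtain ⟨h1, h2⟩ := h.subExact (h.maxEl_cj hA1 k) hbot bot_le
  refine (h.W_le h1 (sup_le (inf_le_left.trans hk) (inf_le_left.trans (h.V_le_core.trans h.core_le_T)))).trans ?_
  exact h.pgroup_le_core (el_iff.1 h1.1).isPGroup ((Subgroup.map_eq_bot_iff _).1 h2)

theorem Ctx.V_comm_W {v w : G} (hv : v ∈ V) (hw : w ∈ jW p (T : Subgroup G)) : v * w = w * v :=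
  (mem_centralizer_iff.1 (h.mem_V.1 hv).1.2 w (h.W_le_core hw)).symm

/-- A largest elementary abelian subgroup centralises `W` modulo `V`. -/
theorem Ctx.comm_W {A : Subgroup G} (hA : A ∈ maxElementaryAbelianSubgroups p G) {a w : G} (ha : a ∈ A)
    (hw : w ∈ jW p (T : Subgroup G)) : a * w * a⁻¹ * w⁻¹ ∈ V := by
  have hbot : Exact p act (⊥ : Subgroup P) :=
    ⟨⟨fun a ha b hb => by rw [mem_bot.1 ha, mem_bot.1 hb], fun a ha => by rw [mem_bot.1 ha, one_pow]⟩, meas_bot act⟩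
  obtain ⟨h1, h2⟩ := h.subExact hA hbot bot_le
  obtain ⟨A0, hA0⟩ : ∃ A0, A0 = A ⊓ (⊥ : Subgroup P).comap mk := ⟨_, rfl⟩
  rw [← hA0] at h1 h2
  have hle : A0 ⊔ (V ⊓ centralizer (A0 : Set G)) ≤ (T : Subgroup G) :=
    (h.pgroup_le_core (el_iff.1 h1.1).isPGroup ((Subgroup.map_eq_bot_iff _).1 h2)).trans h.core_le_T
  have hw' := h.W_le h1 hle hw
  rw [← SetLike.mem_coe, coe_mul_of_left_le_normalizer_right _ _ (le_normalizer_iff.2 fun x hx v hv => by
    rw [mem_centralizer_iff.1 hv.2 x hx, mul_inv_cancel_right]; exact hv)] at hw'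
  obtain ⟨x, hx, v, hv, rfl⟩ := hw'
  haveI := h.V_normal
  have hxa : a * x = x * a := (el_iff.1 hA.1).comm a ha x ((hA0 ▸ inf_le_left : A0 ≤ A) hx)
  have e : a * (x * v) * a⁻¹ * (x * v)⁻¹ = x * ((a * v * a⁻¹) * v⁻¹) * x⁻¹ := by
    rw [mul_inv_rev, ← mul_assoc a x v, hxa]; group
  rw [e]
  exact h.V_normal.conj_mem _ (mul_mem (h.V_normal.conj_mem v hv.1 a) (inv_mem hv.1)) x

theorem Ctx.JG_normal : (thompsonSubgroup p G).Normal := ⟨fun n hn g => by
  rw [← CfsgLib.PLocal.map_equiv_thompson (p := p) (MulAut.conj g)]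
  exact ⟨n, hn, rfl⟩⟩

theorem Ctx.JG_sup_T : thompsonSubgroup p G ⊔ (T : Subgroup G) = ⊤ := by
  by_contra hne
  obtain ⟨A, hA, hAk⟩ := h.ex
  haveI := h.JG_normal
  have hJM : thompsonSubgroup p G ≤ M := le_sup_left.trans (h.le_M le_sup_right hne)
  obtain ⟨k, -, hk⟩ := (MaxP.of_sylow T (le_top : _ ≤ (⊤ : Subgroup G))).exists_conj
    (el_iff.1 hA.1).isPGroup le_top
  refine hAk fun a ha => ?_
  have h1 := h.core_le_ker (h.inf_le_core hJM ⟨hk (PMinFF.conj_mem_cj ha),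
    h.JG_normal.conj_mem a ((le_sSup hA : A ≤ thompsonSubgroup p G) ha) k⟩)
  simpa [mul_assoc] using (MonoidHom.normal_ker mk).conj_mem _ h1 k⁻¹

/-- `J(G)` centralises `W` modulo `V`. -/
theorem Ctx.JG_comm_W {g w : G} (hg : g ∈ thompsonSubgroup p G) (hw : w ∈ jW p (T : Subgroup G)) :
    g * w * g⁻¹ * w⁻¹ ∈ V := by
  let K : Subgroup G :=
    { carrier := {g | ∀ w ∈ jW p (T : Subgroup G), g * w * g⁻¹ * w⁻¹ ∈ V}
      one_mem' := fun w _ => by simp
      mul_mem' := fun {a b} ha hb w hw => by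
        rw [show a * b * w * (a * b)⁻¹ * w⁻¹ = (a * (b * w * b⁻¹ * w⁻¹) * a⁻¹) * (a * w * a⁻¹ * w⁻¹) by group]
        exact mul_mem (h.V_normal.conj_mem _ (hb w hw) a) (ha w hw)
      inv_mem' := fun {a} ha w hw => by
        rw [show a⁻¹ * w * a⁻¹⁻¹ * w⁻¹ = a⁻¹ * (a * w * a⁻¹ * w⁻¹)⁻¹ * a⁻¹⁻¹ by group]
        exact h.V_normal.conj_mem _ (inv_mem (ha w hw)) a⁻¹ }
  exact (sSup_le fun A hA a ha w hw => h.comm_W hA ha hw : thompsonSubgroup p G ≤ K) hg w hw

theorem Ctx.T_normalizes_W : (T : Subgroup G) ≤ normalizer (jW p (T : Subgroup G) : Set G) :=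
  (le_normalizer.trans (CfsgLib.Transfer.normalizer_le_normalizer_centerThompson _)).trans
    (CfsgLib.LocalEvenB.normalizer_le_normalizer_omegaOne _)

theorem Ctx.WV_normal : (jW p (T : Subgroup G) ⊔ V).Normal := by
  refine normalizer_eq_top_iff.1 (top_le_iff.1 (h.JG_sup_T.ge.trans (sup_le ?_ ?_)))
  · intro g hg
    refine PMinFF.mem_normalizer_of_conj fun x hx => ?_
    have hle : jW p (T : Subgroup G) ⊔ V ≤ (jW p (T : Subgroup G) ⊔ V).comap (MulAut.conj g).toMonoidHom := by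
      refine sup_le (fun w hw => ?_) fun v hv => mem_sup_right (h.V_normal.conj_mem v hv g)
      show g * w * g⁻¹ ∈ jW p (T : Subgroup G) ⊔ V
      rw [show g * w * g⁻¹ = (g * w * g⁻¹ * w⁻¹) * w by group]
      exact mul_mem (mem_sup_right (h.JG_comm_W hg hw)) (mem_sup_left hw)
    exact hle hx
  · intro t ht
    refine PMinFF.mem_normalizer_of_conj fun x hx => ?_
    have hle : jW p (T : Subgroup G) ⊔ V ≤ (jW p (T : Subgroup G) ⊔ V).comap (MulAut.conj t).toMonoidHom :=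
      sup_le (fun w hw => mem_sup_left ((mem_normalizer_iff.1 (h.T_normalizes_W ht) w).1 hw))
        fun v hv => mem_sup_right (h.V_normal.conj_mem v hv t)
    exact hle hx

theorem Ctx.R1_normal : (pCore p G ⊓ centralizer (jW p (T : Subgroup G) : Set G)).Normal := by
  have e : pCore p G ⊓ centralizer (jW p (T : Subgroup G) : Set G) =
      pCore p G ⊓ centralizer ((jW p (T : Subgroup G) ⊔ V : Subgroup G) : Set G) := by
    refine le_antisymm (fun x hx => ⟨hx.1, ?_⟩) (inf_le_inf_left _ (centralizer_le (le_sup_left : jW p _ ≤ _)))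
    refine mem_centralizer_iff.2 fun z hz => ?_
    have hle : jW p (T : Subgroup G) ⊔ V ≤ centralizer ({x} : Set G) := sup_le
      (fun w hw => mem_centralizer_singleton_iff.2 (mem_centralizer_iff.1 hx.2 w hw))
      fun v hv => mem_centralizer_singleton_iff.2 (mem_centralizer_iff.1 (h.mem_V.1 hv).1.2 x hx.1).symm
    exact mem_centralizer_singleton_iff.1 (hle hz)
  haveI := h.WV_normal
  haveI := CfsgLib.Core.normal_pCore p G
  rw [e]; infer_instance

theorem Ctx.R1_le_baumann : pCore p G ⊓ centralizer (jW p (T : Subgroup G) : Set G) ≤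
    baumannSubgroupOf p (T : Subgroup G) := inf_le_inf_right _ h.core_le_T

/-- `C_G(C_{O_p(G)}(W))` is contained in that subgroup. -/
theorem Ctx.cent_R1 : centralizer ((pCore p G ⊓ centralizer (jW p (T : Subgroup G) : Set G) : Subgroup G) : Set G) ≤
    pCore p G ⊓ centralizer (jW p (T : Subgroup G) : Set G) := by
  obtain ⟨R, hR⟩ : ∃ R, R = pCore p G ⊓ centralizer (jW p (T : Subgroup G) : Set G) := ⟨_, rfl⟩
  rw [← hR]
  haveI hRn : R.Normal := hR ▸ h.R1_normal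
  haveI hQn := CfsgLib.Core.normal_pCore p G
  have hQp := CfsgLib.Core.isPGroup_pCore p G
  have hWR : jW p (T : Subgroup G) ≤ R := hR ▸ le_inf h.W_le_core (le_centralizer_iff.1 fun w hw =>
    mem_centralizer_iff.2 fun z hz => (CfsgLib.Transfer.centerThompson_comm
      (CfsgLib.PGroups.omegaOne_le _ hz) (CfsgLib.PGroups.omegaOne_le _ hw)))
  have hp' : ∀ x ∈ centralizer (R : Set G), (orderOf x).Coprime p → x = 1 := by
    intro x hx hc
    have hxQ : x ∈ centralizer (pCore p G : Set G) := by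
      refine CfsgLib.Core.pq_lemma (P := R) (Q := zpowers x) (hQp.to_le (hR ▸ inf_le_left))
        (by rwa [Nat.card_zpowers]) hQp ?_ ?_ ?_ ?_ (mem_zpowers x)
      · rw [le_centralizer_iff, zpowers_le]; exact hx
      · exact le_normalizer_of_normal
      · exact le_normalizer_of_normal
      · intro q hq
        have hqR : q ∈ R := hR ▸ ⟨hq.1, centralizer_le hWR hq.2⟩
        exact (le_centralizer_iff.1 (zpowers_le.2 hx)) hqR
    obtain ⟨k, hk⟩ := hQp ⟨x, h.hG hxQ⟩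
    refine orderOf_eq_one_iff.1 (Nat.eq_one_of_dvd_coprimes (hc.pow_right k) dvd_rfl
      (orderOf_dvd_of_pow_eq_one (congrArg Subtype.val hk)))
  have hp : IsPGroup p (centralizer (R : Set G)) := by
    intro x
    obtain ⟨k, m, hm, e⟩ := Nat.exists_eq_pow_mul_and_not_dvd (orderOf_pos (x : G)).ne' p (Fact.out : p.Prime).ne_one
    have h1 : orderOf ((x : G) ^ p ^ k) = m := by
      rw [orderOf_pow_of_dvd (by have := (Fact.out : p.Prime).pos; positivity) (e ▸ Dvd.intro _ rfl), e,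
        Nat.mul_div_cancel_left _ (pow_pos (Fact.out : p.Prime).pos k)]
    have h2 := hp' _ (pow_mem x.2 _) (by
      rw [h1]; exact (((Fact.out : p.Prime).coprime_iff_not_dvd).2 hm).symm)
    exact ⟨k, Subtype.ext h2⟩
  intro x hx
  exact hR ▸ ⟨(CfsgLib.Core.le_pCore hp) hx, centralizer_le hWR hx⟩

end CfsgLib.LocalEven.PMinPush
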