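import Cfsg.Agent.Lib.LocalEven.PMinPush.Quot
import Cfsg.Agent.Lib.LocalEven.PMinPush.PermExt
import Cfsg.Agent.Lib.LocalEven.PMinFF.TwoNat

/-!
# The blocks of transvections and their points
-/

set_option autoImplicit false
set_option linter.all false

namespace CfsgLib.LocalEven.PMinPush

open Subgroup Cfsg CfsgLib.LocalEven.OffSL2 CfsgLib.LocalEven.PMinFF
open Equiv Equiv.Perm

theorem exists_perm_two {k : ℕ} {a0 a1 a c : Fin k} (h0 : a0 ≠ a1) (h : a ≠ c) :
    ∃ σ : Perm (Fin k), σ a0 = a ∧ σ a1 = c ∧ ∀ z, z ≠ a0 → z ≠ a1 → z ≠ a → z ≠ c → σ z = z := by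
  have h1 : swap a0 a a1 ≠ a := fun e => h0 (by
    have := congrArg (swap a0 a) e
    rw [swap_apply_self, swap_apply_right] at this
    exact this.symm)
  refine ⟨swap (swap a0 a a1) c * swap a0 a, ?_, ?_, fun z z0 z1 za zc => ?_⟩
  · rw [Perm.mul_apply, swap_apply_left, swap_apply_of_ne_of_ne (Ne.symm h1) h]
  · rw [Perm.mul_apply, swap_apply_left]
  · rw [Perm.mul_apply, swap_apply_of_ne_of_ne z0 za, swap_apply_of_ne_of_ne ?_ zc]
    intro e
    have := congrArg (swap a0 a) e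
    rw [swap_apply_self, swap_apply_of_ne_of_ne z0 za] at this
    exact z1 this

variable {P : Type*} [Group P] [Finite P]
variable {U : Type*} [AddCommGroup U] [Finite U]
variable {act : P →* AddMonoid.End U} {T M : Subgroup P} {y : U} {L : Subgroup P → Subgroup P}

/-- A transvection inside a block. -/
def AtSwap (act : P →* AddMonoid.End U) {Eb : Subgroup P} {k : ℕ} (ρ : Eb →* Perm (Fin k))
    (ψ : U →+ (Fin k → ZMod 2)) (x : Eb) (a a' : Fin k) (c : U) (φ : U →+ ZMod 2) : Prop :=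
  Tr act (x : P) c φ ∧ a ≠ a' ∧ ρ x = swap a a' ∧ ∀ i, ψ c i = if i = a ∨ i = a' then 1 else 0

/-- The points of a block, with one outside all atoms in `T`. -/
structure BlkRep (act : P →* AddMonoid.End U) (T M : Subgroup P) (Eb : Subgroup P) (m : ℕ)
    (inf : Fin (2 * m + 1)) (ρ : Eb →* Perm (Fin (2 * m + 1))) (ψ : U →+ (Fin (2 * m + 1) → ZMod 2)) : Prop where
  one_le : 1 ≤ m
  pow : ∃ n, 2 * m + 1 = 2 ^ n + 1
  bij : Function.Bijective ρ
  sum0 : ∀ v, ∑ i, ψ v i = 0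
  surj : ∀ g : Fin (2 * m + 1) → ZMod 2, ∑ i, g i = 0 → ∃ v, ψ v = g
  ker : ∀ v, ψ v = 0 ↔ v ∈ fix act Eb
  eqv : ∀ (x : Eb) v i, ψ (act (x : P) v) i = ψ v ((ρ x)⁻¹ i)
  pairs : ∀ B ∈ sig 2 act T 2, B ≤ Eb → ∃ (x : Eb) (a a' : Fin (2 * m + 1)) (c : U) (φ : U →+ ZMod 2),
    B = zpowers (x : P) ∧ AtSwap act ρ ψ x a a' c φ ∧ a ≠ inf ∧ a' ≠ inf
  disj : ∀ B ∈ sig 2 act T 2, ∀ D ∈ sig 2 act T 2, B ≠ D → ∀ x x' : Eb, ∀ a a' c c' : Fin (2 * m + 1),
    B = zpowers (x : P) → D = zpowers (x' : P) → ρ x = swap a a' → ρ x' = swap c c' → a ≠ a' → c ≠ c' →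
    c ≠ a ∧ c ≠ a' ∧ c' ≠ a ∧ c' ≠ a'
  mem_M : ∀ x : Eb, (x : P) ∈ M ↔ ρ x inf = inf
  fix_T : ∀ x : Eb, ρ x inf = inf → ∀ u ∈ fix act T, act (x : P) u = u

variable (hP : PMod 2 act T M y) (hA : AtSys 2 act T M 2 L)
include hP hA

/-- The pair of an atom lies in its block. -/
theorem pair_le_blk {B Eb : Subgroup P} (hB : B ∈ sig 2 act T 2) (hE : isBlk act Eb) (hle : B ≤ Eb) : L B ≤ Eb := by
  have hp := hA.pairs.pair B hB
  obtain ⟨l, hl, hne⟩ := hp.moves
  obtain ⟨E', hE', hlE⟩ := (two_blocks hP).mem _ (hB.1.cj l)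
  by_cases e : Eb = E'
  · subst e
    rw [← hp.gen2 l hl hne]
    exact sup_le hle hlE
  · exact absurd (hp.eq_of_commute hB.1.1.el hl fun a ha b hb =>
      (two_blocks hP).comm E' Eb hE' hE (Ne.symm e) a (hlE ha) b (hle hb)) hne

/-- A block is generated by the pairs of its atoms in `T`. -/
theorem blk_eq_sup {Eb : Subgroup P} (hE : isBlk act Eb) :
    Eb = ⨆ B ∈ {B ∈ sig 2 act T 2 | B ≤ Eb}, L B := by
  have hb := two_blocks hP
  obtain ⟨K, hK⟩ : ∃ K, K = ⨆ B ∈ {B ∈ sig 2 act T 2 | B ≤ Eb}, L B := ⟨_, rfl⟩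
  obtain ⟨K', hK'⟩ : ∃ K', K' = sSup {E' | isBlk act E' ∧ E' ≠ Eb} := ⟨_, rfl⟩
  rw [← hK]
  have hKle : K ≤ Eb := hK ▸ iSup₂_le fun B hB => pair_le_blk hP hA hB.1 hE hB.2
  refine le_antisymm (fun x hx => ?_) hKle
  have hcov : lhat 2 act T 2 L ≤ K ⊔ K' := iSup₂_le fun B hB => by
    by_cases hBE : B ≤ Eb
    · exact le_trans (hK ▸ le_iSup₂_of_le B ⟨hB, hBE⟩ le_rfl) le_sup_left
    · obtain ⟨E', hE', hBE'⟩ := hb.mem B hB.1
      refine (pair_le_blk hP hA hB hE' hBE').trans (le_trans ?_ le_sup_right)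
      rw [hK']
      exact le_sSup ⟨hE', fun e => hBE (e ▸ hBE')⟩
  have hcomm : K ≤ normalizer (K' : Set P) := le_normalizer_iff.2 fun a ha d hd => by
    have hc : K' ≤ centralizer ({a} : Set P) := hK' ▸ sSup_le fun E' hE' z hz =>
      mem_centralizer_singleton_iff.2 (hb.comm E' Eb hE'.1 hE hE'.2 z hz a (hKle ha))
    rw [← mem_centralizer_singleton_iff.1 (hc hd), mul_inv_cancel_right]; exact hd
  have hx' : x ∈ K ⊔ K' := hcov ((hb.gen Eb hE).trans (sSup_le fun Z hZ => (hA.lhat_normal hP).2.2 Z hZ.1.1) hx)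
  rw [← SetLike.mem_coe, coe_mul_of_left_le_normalizer_right K K' hcomm] at hx'
  obtain ⟨a, ha, d, hd, rfl⟩ := hx'
  have h1 : d ∈ Eb ⊓ K' := ⟨by simpa using mul_mem (inv_mem (hKle ha)) hx, hd⟩
  rw [hK', hb.disjoint' hP hE] at h1
  show a * d ∈ K
  rw [mem_bot.1 h1, mul_one]
  exact ha

/-- Every block holds an atom of `T`. -/
theorem blk_has_sig {Eb : Subgroup P} (hE : isBlk act Eb) : ∃ B ∈ sig 2 act T 2, B ≤ Eb := by
  by_contra hall
  push Not at hall
  refine (two_blocks hP).notM Eb hE ((blk_eq_sup hP hA hE).le.trans (iSup₂_le fun B hB => absurd hB.2 (hall B hB.1)))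

omit hA in
theorem atom_swap {Eb : Subgroup P} {k : ℕ} {ρ : Eb →* Perm (Fin k)} {ψ : U →+ (Fin k → ZMod 2)}
    (hk : Odd k) (hbij : Function.Bijective ρ)
    (hsurj : ∀ g : Fin k → ZMod 2, ∑ i, g i = 0 → ∃ v, ψ v = g)
    (heq : ∀ (x : Eb) v i, ψ (act (x : P) v) i = ψ v ((ρ x)⁻¹ i)) {x : Eb} {c : U} {φ : U →+ ZMod 2}
    (h : Tr act (x : P) c φ) : ∃ a a', AtSwap act ρ ψ x a a' c φ := by
  classical
  have hx1 : x ≠ 1 := fun e => h.atom.1.ne (zpowers_eq_bot.2 (by rw [e]; rfl))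
  have h1 : ρ x ≠ 1 := fun e => hx1 (hbij.1 (e.trans (map_one ρ).symm))
  have h2 : ρ x ^ 2 = 1 := by
    rw [← map_pow, show x ^ 2 = 1 from Subtype.ext (by
      rw [Subgroup.coe_pow]; exact h.atom.1.el.exp _ (mem_zpowers _)), map_one]
  have hv : ∀ v i, ψ v ((ρ x)⁻¹ i) + ψ v i = zs (φ v) (ψ c i) := fun v i => by
    rw [← heq x v i, h.eq, map_add, zs_map]
    show ψ v i + zs (φ v) (ψ c) i + ψ v i = _
    rw [show zs (φ v) (ψ c) i = zs (φ v) (ψ c i) from rfl]
    generalize zs (φ v) (ψ c i) = r; generalize ψ v i = r'; revert r r'; decide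
  obtain ⟨a, a', hne, hσ⟩ := swap_of_line hk h2 h1 (c := fun i => ψ c i) fun g hg => by
    obtain ⟨v, rfl⟩ := hsurj g hg
    rcases zmod2_cases (φ v) with e | e
    · exact Or.inl fun i => by rw [hv, e, zs_zero]
    · exact Or.inr fun i => by rw [hv, e, zs_one]
  refine ⟨a, a', h, hne, hσ, fun i => ?_⟩
  obtain ⟨z, hza, hza'⟩ : ∃ z, z ≠ a ∧ z ≠ a' := by
    obtain ⟨z, -, hz⟩ := Finset.exists_mem_notMem_of_card_lt_card (s := ({a, a'} : Finset (Fin k)))
      (t := Finset.univ) (by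
        rw [Finset.card_univ, Fintype.card_fin, Finset.card_pair hne]
        by_contra hlt
        obtain ⟨r, hr⟩ := hk
        have h3 : a.val < k := a.2
        have h4 : a'.val < k := a'.2
        exact hne (Fin.ext (by omega)))
    exact ⟨z, by simpa using hz⟩
  obtain ⟨v, hv'⟩ := hsurj (fun i => (if i = a then 1 else 0) + if i = z then 1 else 0) (by
    rw [Finset.sum_add_distrib, Finset.sum_ite_eq', Finset.sum_ite_eq']
    simp only [Finset.mem_univ, if_true]
    decide)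
  have h5 := hv v a
  rw [hσ, swap_inv, swap_apply_left, hv'] at h5
  simp only [if_pos, if_neg hne.symm, if_neg (Ne.symm hza'), if_neg (Ne.symm hza), add_zero, zero_add] at h5
  have hφ : φ v = 1 := (zmod2_cases _).resolve_left fun e => by rw [e, zs_zero] at h5; exact one_ne_zero h5
  have h6 := hv v i
  rw [hσ, swap_inv, hv', hφ, zs_one] at h6
  rw [← h6]
  by_cases hia : i = a
  · subst hia; simp [swap_apply_left, hne.symm, Ne.symm hza', Ne.symm hza]
  by_cases hia' : i = a'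
  · subst hia'; simp [swap_apply_right, hne, hne.symm, Ne.symm hza', Ne.symm hza]
  rw [swap_apply_of_ne_of_ne hia hia']
  simp only [hia, hia', or_self, if_false]
  generalize (if i = z then (1 : ZMod 2) else 0) = r
  revert r; decide

/-- The points of a block. -/
theorem exists_rep {Eb : Subgroup P} (hE : isBlk act Eb) :
    ∃ m inf ρ ψ, BlkRep act T M Eb m inf ρ ψ := by
  classical
  haveI : Fact (Nat.Prime 2) := ⟨Nat.prime_two⟩
  obtain ⟨n, ρ, ψ, hn, hbij, hsum, hsurj, hker, heq⟩ := blk_nat hP hE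
  obtain ⟨m, hm⟩ : ∃ m, 2 ^ n = 2 * m := ⟨2 ^ (n - 1), by rw [← pow_succ', Nat.sub_add_cancel hn]⟩
  generalize hk : 2 ^ n + 1 = k at ρ ψ
  obtain rfl : k = 2 * m + 1 := by omega
  have hm1 : 1 ≤ m := by
    have := Nat.one_lt_two_pow (n := n) (by omega)
    omega
  have hodd : Odd (2 * m + 1) := odd_two_mul_add_one m
  -- the atoms of `T` in the block
  have hpair : ∀ B ∈ sig 2 act T 2, B ≤ Eb → ∃ (x : Eb) (a a' : Fin (2 * m + 1)) (c : U) (φ : U →+ ZMod 2),
      B = zpowers (x : P) ∧ AtSwap act ρ ψ x a a' c φ := by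
    intro B hB hBE
    obtain ⟨b, c, φ, hb, rfl⟩ := exists_tr hP hB.1
    obtain ⟨a, a', h⟩ := atom_swap hP hodd hbij hsurj heq (x := ⟨b, hBE (mem_zpowers b)⟩) hb
    exact ⟨_, a, a', c, φ, rfl, h⟩
  have hdisj : ∀ B ∈ sig 2 act T 2, ∀ D ∈ sig 2 act T 2, B ≠ D → ∀ x x' : Eb, ∀ a a' c c' : Fin (2 * m + 1),
      B = zpowers (x : P) → D = zpowers (x' : P) → ρ x = swap a a' → ρ x' = swap c c' → a ≠ a' → c ≠ c' →
      c ≠ a ∧ c ≠ a' ∧ c' ≠ a ∧ c' ≠ a' := by
    intro B hB D hD hne x x' a a' c c' eB eD ex ex' ha hc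
    refine swap_disjoint ha hc (fun e => hne ?_) ?_
    · rw [eB, eD, hbij.1 (ex.trans (e.trans ex'.symm))]
    · rw [← ex, ← ex', ← map_mul, ← map_mul]
      exact congrArg ρ (Subtype.ext (sig_comm hP B hB D hD _ (eB ▸ mem_zpowers _) _ (eD ▸ mem_zpowers _)))
  -- a point fixed by all of them
  obtain ⟨inf, hinf⟩ : ∃ inf, ∀ B ∈ sig 2 act T 2, ∀ (x : Eb), B = zpowers (x : P) → ρ x inf = inf := by
    obtain ⟨K, hK⟩ : ∃ K, K = ((sSup (sig 2 act T 2)).subgroupOf Eb).map ρ := ⟨_, rfl⟩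
    have hKp : IsPGroup 2 K := hK ▸ ((hP.syl.pgr.to_le sSup_sig_le).comap_subtype).map ρ
    obtain ⟨i, hi⟩ := hKp.nonempty_fixed_point_of_prime_not_dvd_card (Fin (2 * m + 1))
      (by rw [Nat.card_fin]; omega)
    refine ⟨i, fun B hB x eB => hi ⟨ρ x, hK ▸ ⟨x, ?_, rfl⟩⟩⟩
    exact mem_subgroupOf.2 (le_sSup hB (eB ▸ mem_zpowers _))
  have hpair' : ∀ B ∈ sig 2 act T 2, B ≤ Eb → ∃ (x : Eb) (a a' : Fin (2 * m + 1)) (c : U) (φ : U →+ ZMod 2),
      B = zpowers (x : P) ∧ AtSwap act ρ ψ x a a' c φ ∧ a ≠ inf ∧ a' ≠ inf := by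
    intro B hB hBE
    obtain ⟨x, a, a', c, φ, eB, h⟩ := hpair B hB hBE
    refine ⟨x, a, a', c, φ, eB, h, fun e => ?_, fun e => ?_⟩
    · have := hinf B hB x eB
      rw [h.2.2.1, ← e, swap_apply_left] at this
      exact h.2.1 this.symm
    · have := hinf B hB x eB
      rw [h.2.2.1, ← e, swap_apply_right] at this
      exact h.2.1 this
  obtain ⟨B0, hB0, hB0E⟩ := blk_has_sig hP hA hE
  obtain ⟨x0, a0, a0', c0, φ0, eB0, hx0, h0i, h0i'⟩ := hpair' B0 hB0 hB0E
  -- every transposition is a conjugate of the first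
  have hconj : ∀ a c, a ≠ c → ∀ x : Eb, ρ x = swap a c → ∃ g : Eb, (a ≠ inf → c ≠ inf → ρ g inf = inf) ∧
      x = g * x0 * g⁻¹ := by
    intro a c hac x hx
    obtain ⟨σ, e0, e1, efix⟩ := exists_perm_two hx0.2.1 hac
    obtain ⟨g, rfl⟩ := hbij.2 σ
    refine ⟨g, fun ha hc => efix _ (Ne.symm h0i) (Ne.symm h0i') (Ne.symm ha) (Ne.symm hc), hbij.1 ?_⟩
    rw [hx, map_mul, map_mul, map_inv, hx0.2.2.1, ← swap_apply_apply, e0, e1]
  -- exactly one point avoids the atoms
  have hcov : ∀ i, i ≠ inf → ∃ B ∈ sig 2 act T 2, B ≤ Eb ∧ ∀ (x : Eb) (a a' : Fin (2 * m + 1)),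
      B = zpowers (x : P) → ρ x = swap a a' → i = a ∨ i = a' := by
    intro i hi
    by_contra hall
    push Not at hall
    obtain ⟨x, hx⟩ := hbij.2 (swap i inf)
    obtain ⟨g, -, hg⟩ := hconj i inf hi x hx
    have htr : Tr act ((g : P) * (x0 : P) * (g : P)⁻¹) _ _ := hx0.1.conj (g : P)
    rw [show (g : P) * (x0 : P) * (g : P)⁻¹ = (x : P) by rw [hg]; rfl] at htr
    have hsig : zpowers (x : P) ∈ sig 2 act T 2 := by
      refine mem_sig_of_commute hP htr.atom fun D hD u hu v hv => ?_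
      have hxE : zpowers (x : P) ≤ Eb := zpowers_le.2 x.2
      obtain ⟨E', hE', hDE'⟩ := (two_blocks hP).mem D hD.1
      by_cases e : Eb = E'
      · subst e
        obtain ⟨x', a, a', c, φ, eD, hx', hai, hai'⟩ := hpair' D hD hDE'
        obtain ⟨x'', a2, a2', e1, e2, hn1, hn2⟩ := hall D hD hDE'
        have hxx : x'' = x' := by
          refine Subtype.ext ?_
          have hv' : (x'' : P) ∈ zpowers (x' : P) := by rw [← eD, e1]; exact mem_zpowers _
          have hne1 : (x'' : P) ≠ 1 := fun e3 => hD.1.1.ne (by rw [e1, e3]; exact zpowers_one_eq_bot)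
          obtain ⟨j, hj⟩ := hv'
          have hex := hx'.1.atom.1.el.exp _ (mem_zpowers (x' : P))
          rcases Int.even_or_odd j with ⟨r, hr⟩ | ⟨r, hr⟩
          · exact absurd (hj.symm.trans (by
              show (x' : P) ^ j = 1
              rw [hr, ← two_mul, zpow_mul, zpow_ofNat, hex, one_zpow])) hne1
          · rw [← hj]; show (x' : P) ^ j = _
            rw [hr, zpow_add, zpow_mul, zpow_ofNat, hex, one_zpow, one_mul, zpow_one]
        subst hxx
        have hset : ∀ z, z = a2 ∨ z = a2' ↔ ρ x'' z ≠ z := fun z => by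
          have hne2 : a2 ≠ a2' := fun e3 => by
            have := hx'.2.2.1
            rw [e2, e3, swap_self] at this
            exact hx'.2.1 (by
              have h4 := congrArg (fun σ : Perm (Fin (2 * m + 1)) => σ a) this
              simpa using h4)
          rw [e2]
          constructor
          · rintro (rfl | rfl)
            · rw [swap_apply_left]; exact hne2.symm
            · rw [swap_apply_right]; exact hne2
          · intro hz
            by_contra hno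
            push Not at hno
            exact hz (swap_apply_of_ne_of_ne hno.1 hno.2)
        have hmv : ρ x'' i = i := by
          by_contra h4
          rcases (hset i).2 h4 with rfl | rfl
          exacts [hn1 rfl, hn2 rfl]
        have hmi : ρ x'' inf = inf := hinf D hD x'' e1
        have hc : (x : P) * (x'' : P) = (x'' : P) * (x : P) := by
          refine congrArg Subtype.val (hbij.1 ?_ : x * x'' = x'' * x)
          rw [map_mul, map_mul, hx]
          have h5 := swap_apply_apply (ρ x'') i inf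
          rw [hmv, hmi] at h5
          conv_lhs => rw [h5]
          group
        obtain ⟨j1, rfl⟩ := hu
        rw [eD] at hv
        obtain ⟨j2, rfl⟩ := hv
        exact ((show Commute (x : P) (x'' : P) from hc).zpow_zpow j1 j2).eq
      · exact (two_blocks hP).comm Eb E' hE hE' e u (hxE hu) v (hDE' hv)
    have := hinf _ hsig x rfl
    rw [hx, swap_apply_right] at this
    exact hi this
  -- the stabiliser of the free point
  have hgen : ∀ S : Subgroup P, (∀ a c, a ≠ inf → c ≠ inf → a ≠ c → ∀ x : Eb, ρ x = swap a c → (x : P) ∈ S) →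
      ∀ x : Eb, ρ x inf = inf → (x : P) ∈ S := by
    intro S hS x hx
    obtain ⟨K, hK⟩ : ∃ K, K = (S.subgroupOf Eb).map ρ := ⟨_, rfl⟩
    have hmem := perm_fix_gen (fun i => i = inf) (K := K) (fun a c ha hc hac => by
      obtain ⟨z, hz⟩ := hbij.2 (swap a c)
      exact hK ▸ ⟨z, mem_subgroupOf.2 (hS a c ha hc hac z hz), hz⟩) (ρ x) (fun i hi => by rw [hi, hx])
    obtain ⟨z, hz, hze⟩ := hK.le hmem
    rw [hbij.1 hze] at hz
    exact mem_subgroupOf.1 hz
  have hfix : ∀ u : U, act (x0 : P) u = u → (∀ i j, i ≠ inf → j ≠ inf → ψ u i = ψ u j) →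
      ∀ x : Eb, ρ x inf = inf → act (x : P) u = u := by
    intro u hu hcon x hx
    refine hgen (stabV act u) (fun a c ha hc hac z hz => ?_) x hx
    obtain ⟨g, hg, rfl⟩ := hconj a c hac z hz
    have hgi := hg ha hc
    obtain ⟨w, hw⟩ : ∃ w, w = act ((g⁻¹ : Eb) : P) u - u := ⟨_, rfl⟩
    have hwf : w ∈ fix act Eb := (hker w).1 (funext fun i => by
      rw [hw, map_sub, Pi.sub_apply, heq, map_inv, inv_inv]
      show ψ u (ρ g i) - ψ u i = 0
      rw [sub_eq_zero]
      by_cases hi : i = inf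
      · rw [hi, hgi]
      · exact hcon _ _ (fun e => hi ((ρ g).injective (e.trans hgi.symm))) hi)
    show act ((g : P) * (x0 : P) * (g : P)⁻¹) u = u
    have e : act (g : P)⁻¹ u = u + w := by rw [hw, InvMemClass.coe_inv]; abel
    rw [OffSL2.act_mul, OffSL2.act_mul, e, map_add (act (x0 : P)), hu, hwf _ x0.2, ← e, OffSL2.act_inv']
  -- the stabiliser lies in `M`
  have hstab : ∀ x : Eb, ρ x inf = inf → (x : P) ∈ M := by
    obtain ⟨s, hs⟩ : ∃ s : Finset (Subgroup P), ∀ X, X ∈ s ↔ X ∈ sig 2 act T 2 :=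
      ⟨(Set.toFinite (sig 2 act T 2)).toFinset, fun X => Set.Finite.mem_toFinset _⟩
    have hex : ∀ X, ∃ c : U, X ∈ sig 2 act T 2 → ∃ b φ, Tr act b c φ ∧ X = zpowers b := fun X => by
      by_cases hX : X ∈ sig 2 act T 2
      · obtain ⟨b, c, φ, hb, e⟩ := exists_tr hP hX.1
        exact ⟨c, fun _ => ⟨b, φ, hb, e⟩⟩
      · exact ⟨0, fun h => absurd h hX⟩
    choose cX hcX using hex
    have hcv : ∀ X ∈ s, CVal act X (cX X) := fun X hX => by
      obtain ⟨b, φ, hb, e⟩ := hcX X ((hs X).1 hX)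
      obtain ⟨u, hu⟩ := hb.surj hP
      exact ⟨⟨b, e ▸ mem_zpowers b, u, by rw [hb.eq, hu, zs_one, add_sub_cancel_left]⟩, hb.ne⟩
    obtain ⟨v, hv⟩ : ∃ v, v = ∑ X ∈ s, cX X := ⟨_, rfl⟩
    have hle := stab_sum_le hP hs ⟨B0, hB0⟩ cX hcv
    rw [← hv] at hle
    have hv0 : act (x0 : P) v = v := by
      rw [hv, map_sum]
      refine Finset.sum_congr rfl fun X hX => ?_
      obtain ⟨⟨b, hb, u, hu⟩, -⟩ := hcv X hX
      rw [hu]
      exact sub_mem_fE hP ((hs X).1 hX) hb u _ (le_sSup hB0 (eB0 ▸ mem_zpowers _))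
    have hvi : ∀ i, i ≠ inf → ψ v i = 1 := by
      intro i hi
      obtain ⟨B, hB, hBE, hBi⟩ := hcov i hi
      rw [hv, map_sum, Finset.sum_apply, Finset.sum_eq_single B]
      · obtain ⟨x, a, a', c, φ, eB, hx, -, -⟩ := hpair' B hB hBE
        obtain ⟨b, φ', hb, e⟩ := hcX B hB
        have hbx : b = (x : P) := hb.gen_eq hx.1 (e.symm.trans eB)
        rw [hbx] at hb
        rw [(hb.unique hP hx.1).1, hx.2.2.2, if_pos (hBi x a a' eB hx.2.2.1)]
      · intro D hD hDB
        obtain ⟨b, φ', hb, e⟩ := hcX D ((hs D).1 hD)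
        obtain ⟨E', hE', hDE'⟩ := (two_blocks hP).mem D ((hs D).1 hD).1
        by_cases eE : E' = Eb
        · subst eE
          obtain ⟨x, a, a', c, φ, eD, hx, -, -⟩ := hpair' D ((hs D).1 hD) hDE'
          have hbx : b = (x : P) := hb.gen_eq hx.1 (e.symm.trans eD)
          rw [hbx] at hb
          rw [(hb.unique hP hx.1).1, hx.2.2.2, if_neg]
          obtain ⟨x', a1, a1', c', φ1, eB, hx', -, -⟩ := hpair' B hB hBE
          obtain ⟨d1, d2, d3, d4⟩ := hdisj B hB D ((hs D).1 hD) (Ne.symm hDB) x' x a1 a1' a a' eB eD hx'.2.2.1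
            hx.2.2.1 hx'.2.1 hx.2.1
          rcases hBi x' a1 a1' eB hx'.2.2.1 with rfl | rfl
          · rintro (rfl | rfl)
            exacts [d1 rfl, d3 rfl]
          · rintro (rfl | rfl)
            exacts [d2 rfl, d4 rfl]
        · obtain ⟨u, hu⟩ := hb.surj hP
          have h3 : cX D ∈ fix act Eb := by
            refine (two_blocks hP).img_le_fix hP hE' hE eE ?_
            have := mem_img (act := act) (hDE' (e ▸ mem_zpowers b)) u
            rwa [hb.eq, hu, zs_one, add_sub_cancel_left] at this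
          rw [(hker _).2 h3]; rfl
      · exact fun h3 => absurd ((hs B).2 hB) h3
    exact fun x hx => hle (hfix v hv0 (fun i j hi hj => by rw [hvi i hi, hvi j hj]) x hx)
  -- and is all of the block inside `M`
  have hM : ∀ x : Eb, (x : P) ∈ M → ρ x inf = inf := by
    intro x hxM
    by_contra hmv
    obtain ⟨K, hK⟩ : ∃ K, K = (M.subgroupOf Eb).map ρ := ⟨_, rfl⟩
    have hKmem : ∀ z : Eb, (z : P) ∈ M → ρ z ∈ K := fun z hz => hK ▸ ⟨z, mem_subgroupOf.2 hz, rfl⟩
    have hKs : ∀ a c, a ≠ inf → c ≠ inf → swap a c ∈ K := fun a c ha hc => by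
      obtain ⟨z, hz⟩ := hbij.2 (swap a c)
      exact hz ▸ hKmem z (hstab z (by rw [hz, swap_apply_of_ne_of_ne (Ne.symm ha) (Ne.symm hc)]))
    obtain ⟨d, hd⟩ : ∃ d, d = (ρ x)⁻¹ inf := ⟨_, rfl⟩
    have hxd : ρ x d = inf := by rw [hd, ← Perm.mul_apply, mul_inv_cancel]; rfl
    have hdi : d ≠ inf := fun e => hmv (e ▸ hxd : ρ x inf = inf)
    obtain ⟨e, hei, hed⟩ : ∃ e, e ≠ inf ∧ e ≠ d := by
      obtain ⟨z, -, hz⟩ := Finset.exists_mem_notMem_of_card_lt_card (s := ({inf, d} : Finset (Fin (2 * m + 1))))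
        (t := Finset.univ) (by
          rw [Finset.card_univ, Fintype.card_fin]; exact lt_of_le_of_lt Finset.card_le_two (by omega))
      exact ⟨z, by simpa using hz⟩
    obtain ⟨f, hf⟩ : ∃ f, f = ρ x e := ⟨_, rfl⟩
    have hfi : f ≠ inf := fun h3 => hed ((ρ x).injective ((hf ▸ h3 : ρ x e = inf).trans hxd.symm))
    have hif : swap inf f ∈ K := by
      have h3 := mul_mem (mul_mem (hKmem x hxM) (hKs d e hdi hei)) (inv_mem (hKmem x hxM))
      rwa [← swap_apply_apply, hxd, ← hf] at h3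
    have hiall : ∀ g, g ≠ inf → swap inf g ∈ K := fun g hg => by
      have h3 := mul_mem (mul_mem (hKs f g hfi hg) hif) (inv_mem (hKs f g hfi hg))
      rwa [← swap_apply_apply, swap_apply_of_ne_of_ne (Ne.symm hfi) (Ne.symm hg), swap_apply_left] at h3
    have htop : ⊤ ≤ K := by
      rw [← closure_isSwap, closure_le]
      rintro _ ⟨a, c, hac, rfl⟩
      by_cases ha : a = inf
      · subst ha; exact hiall c hac.symm
      by_cases hc : c = inf
      · subst hc; rw [swap_comm]; exact hiall a hac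
      exact hKs a c ha hc
    refine (two_blocks hP).notM Eb hE fun z hz => ?_
    obtain ⟨z', hz', hze⟩ := hK.le (htop (mem_top (ρ ⟨z, hz⟩)))
    have := hbij.1 hze
    rw [this] at hz'
    exact mem_subgroupOf.1 hz'
  -- vectors fixed by `T`
  have hT : ∀ x : Eb, ρ x inf = inf → ∀ u ∈ fix act T, act (x : P) u = u := by
    intro x hx u hu
    have hTs : T ≤ stabV act u := fun t ht => hu t ht
    by_cases htop : stabV act u = ⊤
    · exact htop.ge (mem_top (x : P))
    have hle := hP.pmin _ hTs htop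
    refine hfix u (hTs (hB0.2 (eB0 ▸ mem_zpowers _))) (fun i j hi hj => ?_) x hx
    have key : ∀ a, a ≠ inf → ψ u a ≠ ψ u inf := by
      intro a ha he
      obtain ⟨z, hz⟩ := hbij.2 (swap a inf)
      obtain ⟨g, -, hg⟩ := hconj a inf ha z hz
      have htr : Tr act ((g : P) * (x0 : P) * (g : P)⁻¹) _ _ := hx0.1.conj (g : P)
      rw [show (g : P) * (x0 : P) * (g : P)⁻¹ = (z : P) by rw [hg]; rfl] at htr
      obtain ⟨a2, a2', hz2⟩ := atom_swap hP hodd hbij hsurj heq htr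
      have hψ : ∀ i, ψ (act (z : P) u) i = ψ u i := fun i => by
        rw [heq, hz, swap_inv]
        by_cases h3 : i = a
        · rw [h3, swap_apply_left, he]
        by_cases h4 : i = inf
        · rw [h4, swap_apply_right, he]
        rw [swap_apply_of_ne_of_ne h3 h4]
      have h5 := hψ a2
      rw [htr.eq, map_add, zs_map, Pi.add_apply, add_eq_left] at h5
      rw [show ∀ r, zs r (ψ (act (g : P) c0)) a2 = zs r (ψ (act (g : P) c0) a2) from fun r => rfl,
        hz2.2.2.2 a2, if_pos (Or.inl rfl)] at h5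
      have h6 : act (z : P) u = u := by
        rw [htr.eq, show _ = (0 : ZMod 2) from zs_inj one_ne_zero (h5.trans (zs_zero (1 : ZMod 2)).symm), zs_zero, add_zero]
      have h7 := hM z (hle h6)
      rw [hz, swap_apply_right] at h7
      exact ha h7
    have h1 := key i hi
    have h2 := key j hj
    revert h1 h2
    generalize ψ u i = r1; generalize ψ u j = r2; generalize ψ u inf = r3
    revert r1 r2 r3; decide
  exact ⟨m, inf, ρ, ψ, hm1, ⟨n, by omega⟩, hbij, hsum, hsurj, hker, heq, hpair', hdisj,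
    fun x => ⟨hM x, hstab x⟩, hT⟩

/-- `O²` of a block consists of its even permutations. -/
theorem BlkRep.mem_res {Eb : Subgroup P} {m : ℕ} {inf : Fin (2 * m + 1)} {ρ : Eb →* Perm (Fin (2 * m + 1))}
    {ψ : U →+ (Fin (2 * m + 1) → ZMod 2)} (h : BlkRep act T M Eb m inf ρ ψ) (x : Eb) :
    (x : P) ∈ pResidualOf 2 Eb ↔ sign (ρ x) = 1 := by
  haveI : Fact (Nat.Prime 2) := ⟨Nat.prime_two⟩
  let e : ↥Eb ≃* Perm (Fin (2 * m + 1)) := MulEquiv.ofBijective ρ h.bij
  have hr : pResidual 2 (Perm (Fin (2 * m + 1))) = alternatingGroup (Fin (2 * m + 1)) := closure_odd_perm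
  rw [← mem_alternatingGroup, ← hr, ← CfsgLib.Transfer.map_pResidual_mulEquiv e]
  constructor
  · rintro ⟨z, hz, hze⟩
    exact ⟨z, hz, congrArg e (Subtype.ext hze)⟩
  · rintro ⟨z, hz, hze⟩
    exact ⟨z, hz, congrArg Subtype.val (e.injective hze)⟩

/-- The commutator space of `O²` of a pair avoids the fixed space. -/
theorem img_res_inf_fix {B Eb : Subgroup P} (hB : B ∈ sig 2 act T 2) (hE : isBlk act Eb) (hle : B ≤ Eb) {u : U}
    (hu : u ∈ img act (pResidualOf 2 (L B))) (hfix : u ∈ fix act (L B)) : u = 0 := by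
  classical
  haveI : Fact (Nat.Prime 2) := ⟨Nat.prime_two⟩
  obtain ⟨m, inf, ρ, ψ, h⟩ := exists_rep hP hA hE
  obtain ⟨R, hR⟩ : ∃ R, R = pResidualOf 2 (L B) := ⟨_, rfl⟩
  have hRL : R ≤ L B := hR ▸ res_le _
  rw [← hR] at hu
  have hodd : ¬ 2 ∣ Nat.card R := by
    intro hd
    obtain ⟨x, hx⟩ := exists_prime_orderOf_dvd_card' (G := R) 2 hd
    have hx' : orderOf (x : P) = 2 := by rw [orderOf_coe, hx]
    have hp := hA.pairs.pair B hB
    have hmax : MaxP 2 B (L B) := ⟨hp.le, hB.1.1.el.isPGroup, fun S h1 h2 h3 =>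
      pair_pgroup_eq hP hp hB.1.1 h1 h2 h3⟩
    have hxp : IsPGroup 2 (zpowers (x : P)) := IsPGroup.of_card (n := 1) (by rw [Nat.card_zpowers, hx', pow_one])
    obtain ⟨k, hk, hkB⟩ := hmax.exists_conj hxp (zpowers_le.2 (hRL x.2))
    obtain ⟨z, hz⟩ : ∃ z, z = k * (x : P) * k⁻¹ := ⟨_, rfl⟩
    have hzB : z ∈ B := hz ▸ hkB (conj_mem_cj (mem_zpowers _))
    have hx2 : (x : P) ∈ pResidualOf 2 (L B) := hR.le x.2
    have hzR : z ∈ pResidualOf 2 Eb := res_mono (pair_le_blk hP hA hB hE hle) (by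
      rw [hz]
      exact (mem_normalizer_iff.1 (normalizer_le_normalizer_res (L B) (le_normalizer hk)) (x : P)).1 hx2)
    obtain ⟨b, a, a', c, φ, eB, hb, -, -⟩ := h.pairs B hB hle
    have hz1 : z ≠ 1 := fun e => by
      have : (x : P) = 1 := by rw [hz] at e; exact conj_eq_one_iff.1 e
      rw [this, orderOf_one] at hx'
      exact absurd hx' (by norm_num)
    have hzb : z = (b : P) := by
      rw [eB] at hzB
      obtain ⟨j, hj⟩ := hzB
      have hex := hb.1.atom.1.el.exp _ (mem_zpowers (b : P))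
      rcases Int.even_or_odd j with ⟨r, hr⟩ | ⟨r, hr⟩
      · exact absurd (hj.symm.trans (by
          show (b : P) ^ j = 1
          rw [hr, ← two_mul, zpow_mul, zpow_ofNat, hex, one_zpow])) hz1
      · rw [← hj]; show (b : P) ^ j = _
        rw [hr, zpow_add, zpow_mul, zpow_ofNat, hex, one_zpow, one_mul, zpow_one]
    have hs := (h.mem_res hP hA b).1 (hzb ▸ hzR)
    rw [hb.2.2.1, sign_swap hb.2.1] at hs
    exact absurd hs (by decide)
  haveI : Fintype R := Fintype.ofFinite R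
  let N : U →+ U := ∑ r : R, (act (r : P) : U →+ U)
  have hN : ∀ v, N v = ∑ r : R, act (r : P) v := fun v => AddMonoidHom.finset_sum_apply _ _ _
  have h0 : img act R ≤ N.ker := by
    refine (AddSubgroup.closure_le _).2 ?_
    rintro _ ⟨e, he, w, rfl⟩
    rw [SetLike.mem_coe, AddMonoidHom.mem_ker, map_sub, sub_eq_zero, hN, hN]
    refine Fintype.sum_equiv (Equiv.mulRight (⟨e, he⟩ : R)) _ _ fun r => ?_
    show act (r : P) (act e w) = act ((r : P) * e) w
    rw [OffSL2.act_mul]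
  have h1 := AddMonoidHom.mem_ker.1 (h0 hu)
  rw [hN, Finset.sum_congr rfl fun (r : R) _ => hfix (r : P) (hRL r.2), Finset.sum_const, Finset.card_univ,
    ← Nat.card_eq_fintype_card, odd_smul (Nat.not_even_iff_odd.1 fun e => hodd e.two_dvd) (by
      rw [← two_nsmul]; exact hP.hpU u)] at h1
  exact h1

end CfsgLib.LocalEven.PMinPush
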