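import Cfsg.Agent.Lib.LocalEven.PMinPush.OneBlock
import Cfsg.Agent.Lib.PGroups.Basic

/-!
# The block at critical distance two
-/

set_option autoImplicit false
set_option linter.all false

namespace CfsgLib.LocalEven.PMinPush

open Subgroup Cfsg CfsgLib.PushUp Matrix
open scoped commutatorElement

variable {W : Type*} [Group W] [Finite W] {p : ℕ} [hp : Fact p.Prime] {G S Q M N : Subgroup W}

/-- An involution of `O^p(G)` inverting natural sections. -/
theorem exists_inv_elem (h : Setup p G S Q M N) {A B : Subgroup W} (hN : NatSec G S Q A B) (hp2 : p ≠ 2) :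
    ∃ i ∈ pResidualOf p G, i * i = 1 ∧ i ∉ Q ∧ ∀ g ∈ G, ⁅i, g⁆ ∈ Q := by
  have hN' := hN
  obtain ⟨-, -, -, F, i1, i2, χ0, σ0, hc, -⟩ := hN'
  obtain ⟨k, -, -, hC⟩ := field_facts h hc
  haveI := hC
  obtain ⟨χ, σ, hσ, -, -, -, hσk, -⟩ := natSec_rep hN hc
  have h2 : ((-1 : SpecialLinearGroup (Fin 2) F)) * (-1) = 1 := by rw [neg_mul_neg, one_mul]
  obtain ⟨x, hx, hxs⟩ := exists_lift (p := p) σ hσ (s := (-1 : SpecialLinearGroup (Fin 2) F)) (by
    refine Nat.Coprime.coprime_dvd_left (orderOf_dvd_of_pow_eq_one (n := 2) (by rw [pow_two, h2])) ?_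
    exact (Nat.coprime_primes Nat.prime_two Fact.out).2 (Ne.symm hp2))
  have hxx : (x : W) * x ∈ Q := (hσk (x * x)).1 (by rw [map_mul, hxs, h2])
  obtain ⟨e, he⟩ := IsPGroup.iff_orderOf.1 (h.pS.to_le h.QS) ⟨_, hxx⟩
  rw [Subgroup.orderOf_mk] at he
  have h1 : (x : W) * x = 1 := orderOf_eq_one_iff.1 (Nat.eq_one_of_dvd_coprimes (hx.pow_right e)
    (by rw [← pow_two]; exact orderOf_pow_dvd 2) (dvd_of_eq he))
  refine ⟨x, mem_res x.2 hx, h1, fun hQ => ?_, fun g hg => ?_⟩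
  · have e1 := ((hσk x).2 hQ).symm.trans hxs
    have e2 := congrArg (fun s : SpecialLinearGroup (Fin 2) F => (s : Matrix (Fin 2) (Fin 2) F) 0 0) e1
    have e3 : (1 : F) = -1 := by simpa using e2
    refine hp2 ((Nat.prime_dvd_prime_iff_eq Fact.out Nat.prime_two).1 ((CharP.cast_eq_zero_iff F p 2).1 ?_))
    push_cast
    linear_combination e3
  · have e1 : σ ⁅x, ⟨g, hg⟩⁆ = 1 := by
      rw [map_commutatorElement, commutatorElement_eq_one_iff_mul_comm, hxs]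
      simp
    have e2 := (hσk _).1 e1
    rwa [show ((⁅x, ⟨g, hg⟩⁆ : ↥G) : W) = ⁅(x : W), g⁆ from map_commutatorElement G.subtype x ⟨g, hg⟩] at e2

/-- Its action on a natural section. -/
theorem inv_neg_elem (h : Setup p G S Q M N) {A B : Subgroup W} (hN : NatSec G S Q A B) (hp2 : p ≠ 2) {i : W}
    (hiG : i ∈ G) (hii : i * i = 1) (hiQ : i ∉ Q) (hic : ∀ g ∈ G, ⁅i, g⁆ ∈ Q) :
    ∀ u ∈ A, i * u * i * u ∈ B ∧ (i * u = u * i → u ∈ B) := by
  have hN' := hN
  obtain ⟨-, -, -, F, i1, i2, χ0, σ0, hc, -⟩ := hN'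
  obtain ⟨k, -, -, hC⟩ := field_facts h hc
  haveI := hC
  obtain ⟨χ, σ, hσ, hadd, -, hk, hσk, hact⟩ := natSec_rep hN hc
  have hcen : σ ⟨i, hiG⟩ ∈ Subgroup.center (SpecialLinearGroup (Fin 2) F) := mem_center_iff.2 fun a => by
    obtain ⟨g, rfl⟩ := hσ a
    have e1 : σ ⁅(⟨i, hiG⟩ : ↥G), g⁆ = 1 := (hσk _).2 (by
      rw [show ((⁅(⟨i, hiG⟩ : ↥G), g⁆ : ↥G) : W) = ⁅i, (g : W)⁆ from map_commutatorElement G.subtype _ g]
      exact hic g g.2)
    rw [map_commutatorElement, commutatorElement_eq_one_iff_mul_comm] at e1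
    exact e1.symm
  have hneg := (center_SL2 hcen).resolve_left fun e => hiQ ((hσk _).1 e)
  have hi' : i⁻¹ = i := inv_eq_of_mul_eq_one_right hii
  intro u hu
  have h1 : χ (i * u * i) = - χ u := by
    have := hact ⟨i, hiG⟩ u hu
    rwa [hneg, show ((⟨i, hiG⟩ : ↥G) : W) = i from rfl, hi'] at this
  have hiu : i * u * i ∈ A := by
    have := hN.stA i hiG u hu
    rwa [hi'] at this
  refine ⟨(hk _ (mul_mem hiu hu)).1 (by rw [hadd _ hiu _ hu, h1, neg_add_cancel]), fun e => (hk u hu).1 ?_⟩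
  rw [e, mul_assoc, hii, mul_one] at h1
  have h3 : (2 : F) ≠ 0 := fun h0 => hp2 ((Nat.prime_dvd_prime_iff_eq Fact.out Nat.prime_two).1
    ((CharP.cast_eq_zero_iff F p 2).1 (by exact_mod_cast h0)))
  funext j
  have h4 := congrFun h1 j
  simp only [Pi.neg_apply] at h4
  rcases mul_eq_zero.1 (show (2 : F) * χ u j = 0 by linear_combination h4) with h5 | h5
  · exact absurd h5 h3
  · simpa using h5

variable {g₀ m₀ g₁ m₁ n : W}

/-- The facts on `J = [U, O^p G]`. -/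
structure TwoFacts (p : ℕ) (G S Q N : Subgroup W) (J D : Subgroup W) (i : W) : Prop where
  three : p = 3
  cube : ∀ u ∈ nb p G S N, u ^ 3 = 1
  stab : Stable G J
  le : J ≤ nb p G S N
  core : pResidualOf p G ⊓ Q = J
  comm : ⁅J, pResidualOf p G⁆ = J
  Dle : D ≤ J
  Deq : D = ⁅J, J⁆
  Dcen : D ≤ zc p G S ⊓ centralizer (G : Set W)
  Dfix : J ⊓ centralizer (pResidualOf p G : Set W) ≤ D
  cap : J ⊓ cU p G S N = J ⊓ zc p G S
  Rle : ⁅zc p G S, pResidualOf p G⁆ ≤ J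
  iX : i ∈ pResidualOf p G
  XQ : ∀ x ∈ pResidualOf p G, ∀ q ∈ Q, ⁅x, q⁆ ∈ J
  dec : ∀ u ∈ nb p G S N, ∃ w ∈ J, ∃ c ∈ cU p G S N,
    i * c = c * i ∧ c ∈ centralizer (pResidualOf p G : Set W) ∧ u = w * c

theorem nb_cube (h : Setup p G S Q M N) (t : Two p G S Q M N g₀ m₀ g₁ m₁ n) :
    ∀ u ∈ nb p G S N, u ^ 3 = 1 := by
  have hp3 : p = 3 := t.three h
  intro u hu
  induction hu using closure_induction with
  | mem y hy =>
    obtain ⟨g, -, m, -, z, hz, rfl⟩ := hy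
    rw [← map_pow, ← hp3, h.zc_pow z hz, map_one]
  | one => exact one_pow 3
  | mul a b ha hb iha ihb =>
    obtain ⟨y, hy⟩ : ∃ y, y = b⁻¹ * a⁻¹ * b⁻¹⁻¹ * a⁻¹⁻¹ := ⟨_, rfl⟩
    have hyz : y ∈ zc p G S := hy ▸ h.nb_comm t.d (inv_mem hb) (inv_mem ha)
    have hyc : y ∈ centralizer (G : Set W) := hy ▸ t.nb_cen h (inv_mem hb) (inv_mem ha)
    have hUG : nb p G S N ≤ G := t.d.nb_le.trans (h.QS.trans h.SG)
    rw [pow_mul_central (y := y) (by rw [hy]; group) (cen_comm hyc (hUG ha)).symm (cen_comm hyc (hUG hb)).symm 3,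
      iha, ihb, one_mul, one_mul, show Nat.choose 3 2 = 3 from rfl, ← hp3]
    exact h.zc_pow y hyz
  | inv a _ iha => rw [inv_pow, iha, inv_one]

set_option maxHeartbeats 1000000 in
theorem two_facts (h : Setup p G S Q M N) (t : Two p G S Q M N g₀ m₀ g₁ m₁ n) :
    ∃ J D i, TwoFacts p G S Q N J D i := by
  obtain ⟨U, hU⟩ : ∃ U, U = nb p G S N := ⟨_, rfl⟩
  obtain ⟨X, hX⟩ : ∃ X, X = pResidualOf p G := ⟨_, rfl⟩
  have hp3 : p = 3 := t.three h
  have hp2 : p ≠ 2 := by omega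
  have hC := t.centralizer_eq h
  have hN1 := h.natSec_zc hC
  obtain ⟨hRst, hRle, hRdec, hRcomm⟩ := zc_decomp h hC
  obtain ⟨i, hiX, hii, hiQ, hic⟩ := exists_inv_elem h hN1 hp2
  rw [← hX] at hiX hRst hRle hRdec hRcomm
  have hXG : X ≤ G := hX ▸ res_le G
  have hXst : Stable G X := hX ▸ res_stable
  have hiG := hXG hiX
  have hi' : i⁻¹ = i := inv_eq_of_mul_eq_one_right hii
  have hi1 := inv_neg_elem h hN1 hp2 hiG hii hiQ hic
  have hi2 := inv_neg_elem h (t.sections h).2.2.2.1 hp2 hiG hii hiQ hic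
  rw [← hU] at hi2
  have hUst : Stable G U := hU ▸ nb_stable
  have hUQ : U ≤ Q := hU ▸ t.d.nb_le
  have hUG : U ≤ G := hUQ.trans (h.QS.trans h.SG)
  have hU3 : ∀ u ∈ U, u ^ 3 = 1 := hU ▸ nb_cube h t
  have hUcen : ∀ u ∈ U, ∀ v ∈ U, ⁅u, v⁆ ∈ zc p G S ⊓ centralizer (G : Set W) := fun u hu v hv => by
    rw [commutatorElement_def]
    exact ⟨h.nb_comm t.d (hU ▸ hu) (hU ▸ hv), t.nb_cen h (hU ▸ hu) (hU ▸ hv)⟩
  obtain ⟨H, -, hHst, hHQ, hZ2H, hH⟩ := t.exists_H h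
  rw [← hU] at hH
  have hHX : ∀ x ∈ X, ∀ q ∈ Q, ⁅x, q⁆ ∈ U := fun x hx q hq => by
    refine res_comm_le (p := p) (stable_le_normalizer hUst) (fun y hy hc => ?_) (hX ▸ hx)
    exact hH y (h.mem_of_coprime hHst hHQ hy ((Fact.out : p.Prime).coprime_iff_not_dvd.1 hc.symm)) q hq
  have hZab : ∀ a ∈ zv p G S (n * (g₁ * m₁)), ∀ b ∈ zv p G S (n * (g₁ * m₁)), a * b = b * a :=
    fun a ha b hb => h.zv_comm ha hb
  have hM0 : X ⊓ Q ≤ U := hX ▸ inf_Q_le h (t.full₂ h) hZab hUst (fun a ha q hq => hH a (hZ2H ha) q hq) (hX ▸ hHX)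
  -- fixed points of `i` centralise `X`
  have hCX : ∀ f ∈ U, i * f = f * i → f ∈ centralizer (X : Set W) := by
    intro f hf hif
    have hfc := ((t.mem_cU h).1 ((hi2 f hf).2 hif)).2
    suffices hsuf : X ≤ centralizer {f} from
      mem_centralizer_iff.2 fun x hx => mem_centralizer_singleton_iff.1 (hsuf hx)
    conv_lhs => rw [hX, ← res_res G, ← hX]
    refine res_le_of fun x hx hco => mem_centralizer_singleton_iff.2 ?_
    obtain ⟨c, hc⟩ : ∃ c, c = x * f * x⁻¹ * f⁻¹ := ⟨_, rfl⟩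
    obtain ⟨r, hr⟩ : ∃ r, r = i * x * i * x⁻¹ := ⟨_, rfl⟩
    have hrQ : r ∈ Q := by
      have := hic x (hXG hx)
      rwa [commutatorElement_def, hi', ← hr] at this
    have hrU : r ∈ U := hM0 ⟨hr ▸ X.mul_mem (X.mul_mem (X.mul_mem hiX hx) hiX) (X.inv_mem hx), hrQ⟩
    have hcz : c ∈ zc p G S := hc ▸ hfc x (hXG hx)
    have hb0 := hUcen r hrU f hf
    have e : i * c * i = c * ⁅r, f⁆ := by
      have hrc : r * c = c * r := (h.zc_comm hcz hrQ).symm
      calc i * c * i = (i * x * i) * (i * f * i) * (i * x⁻¹ * i) * (i * f⁻¹ * i) := by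
            rw [hc]
            calc i * (x * f * x⁻¹ * f⁻¹) * i
                = i * x * (1 : W) * f * (1 : W) * x⁻¹ * (1 : W) * f⁻¹ * i := by group
              _ = i * x * (i * i) * f * (i * i) * x⁻¹ * (i * i) * f⁻¹ * i := by rw [hii]
              _ = _ := by group
        _ = (r * x) * f * (r * x)⁻¹ * f⁻¹ := by
            have e1 : i * x * i = r * x := by rw [hr]; group
            have e2 : i * x⁻¹ * i = (r * x)⁻¹ := by rw [← e1, _root_.mul_inv_rev, _root_.mul_inv_rev, hi']; group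
            have e3 : i * f * i = f := by rw [hif, mul_assoc, hii, mul_one]
            have e4 : i * f⁻¹ * i = f⁻¹ := by
              conv_rhs => rw [← e3]
              rw [_root_.mul_inv_rev, _root_.mul_inv_rev, hi']; group
            rw [e1, e2, e3, e4]
        _ = (r * c) * f * r⁻¹ * f⁻¹ := by rw [hc]; group
        _ = _ := by rw [hrc, commutatorElement_def]; group
    have hsq : c * c ∈ centralizer (G : Set W) := by
      have h1 := (hi1 c hcz).1.2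
      rw [e] at h1
      have h2 : c * c = c * ⁅r, f⁆ * c * ⁅r, f⁆⁻¹ := by
        rw [mul_assoc c, ← h.zc_comm hcz (h.zc_le_Q hb0.1)]; group
      rw [h2]
      exact mul_mem h1 (inv_mem hb0.2)
    have hc3 : c * c * (c * c) = c := by
      have h3 : c ^ 3 = 1 := hp3 ▸ h.zc_pow c hcz
      calc c * c * (c * c) = c ^ 3 * c := by rw [pow_three]; group
        _ = _ := by rw [h3, one_mul]
    have hcc : c ∈ centralizer (G : Set W) := hc3 ▸ mul_mem hsq hsq
    refine (commute_of_pcoprime (p := p) (z := c) ⟨1, by rw [pow_one]; exact h.zc_pow c hcz⟩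
      (cen_comm hcc (hXG hx)) (by rw [hc]; group) ((Fact.out : p.Prime).coprime_iff_not_dvd.1 hco.symm))
  -- `U = J · C_U(i)`
  obtain ⟨J, hJ⟩ : ∃ J, J = ⁅U, X⁆ := ⟨_, rfl⟩
  have hJst : Stable G J := hJ ▸ stable_comm hUst hXst
  have hJU : J ≤ U := by
    rw [hJ, commutator_le]
    intro u hu x hx
    rw [commutatorElement_def, show u * x * u⁻¹ * x⁻¹ = u * (x * u⁻¹ * x⁻¹) by group]
    exact mul_mem hu (hUst x (hXG hx) _ (inv_mem hu))
  have hJX : J ≤ X := by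
    rw [hJ, commutator_le]
    intro u hu x hx
    rw [commutatorElement_def]
    exact mul_mem (hXst u (hUG hu) x hx) (inv_mem hx)
  have hdec : ∀ u ∈ U, ∃ w ∈ J, ∃ c ∈ U, i * c = c * i ∧ c ∈ centralizer (X : Set W) ∧ u = w * c ∧
      w = i * u * i * u⁻¹ := by
    intro u hu
    obtain ⟨w, hw⟩ : ∃ w, w = i * u * i * u⁻¹ := ⟨_, rfl⟩
    have hwJ : w ∈ J := by
      rw [hJ, commutator_comm, hw]
      have := commutator_mem_commutator hiX hu
      rwa [commutatorElement_def, hi'] at this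
    have hw3 : w * w = w⁻¹ := by
      refine eq_inv_of_mul_eq_one_left ?_
      have := hU3 w (hJU hwJ)
      rwa [pow_three, ← mul_assoc] at this
    have hwi : i * w * i = w⁻¹ := by
      rw [hw, _root_.mul_inv_rev, _root_.mul_inv_rev, _root_.mul_inv_rev, inv_inv, hi']
      calc i * (i * u * i * u⁻¹) * i = (i * i) * u * i * u⁻¹ * i := by group
        _ = _ := by rw [hii]; group
    have hfix : i * (w⁻¹ * u) = (w⁻¹ * u) * i := by
      have e1 : i * (w⁻¹ * u) * i = w⁻¹ * u := by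
        calc i * (w⁻¹ * u) * i = i * w⁻¹ * (1 : W) * u * i := by group
          _ = i * w⁻¹ * (i * i) * u * i := by rw [hii]
          _ = (i * w * i⁻¹)⁻¹ * (i * u * i) := by rw [hi', _root_.mul_inv_rev, _root_.mul_inv_rev, hi']; group
          _ = (w⁻¹)⁻¹ * (i * u * i) := by rw [hi', hwi]
          _ = w * w * u := by rw [hw]; group
          _ = _ := by rw [hw3]
      calc i * (w⁻¹ * u) = i * (w⁻¹ * u) * (i * i) := by rw [hii, mul_one]
        _ = i * (w⁻¹ * u) * i * i := by group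
        _ = _ := by rw [e1]
    have hcU := mul_mem (inv_mem (hJU hwJ)) hu
    exact ⟨w, hwJ, w⁻¹ * u, hcU, hfix, hCX _ hcU hfix, (mul_inv_cancel_left w u).symm, hw⟩
  have hRJ : ⁅zc p G S, X⁆ ≤ J := hJ ▸ commutator_mono (hU ▸ zc_le_nb) le_rfl
  have hXQ : ∀ x ∈ X, ∀ q ∈ Q, ⁅x, q⁆ ∈ J := fun x hx q hq => by
    refine res_comm_le (p := p) (H := X) (hXG.trans (stable_le_normalizer hJst)) (fun y hy hc => ?_)
      (by rw [hX, res_res, ← hX]; exact hx)
    have h1 := hHX y hy q hq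
    refine coprime_step (stable_le_normalizer hJst (hXG hy)) (stable_le_normalizer hJst (h.SG (h.QS hq)))
      ⟨1, ?_⟩ ?_ hc
    · rw [pow_one, hp3, hU3 _ h1]; exact one_mem _
    · rw [hJ, commutator_comm]; exact commutator_mem_commutator hy h1
  have hcQn : ∀ {c z : W}, c ∈ U → i * c = c * i → z ∈ zv p G S (n * (g₁ * m₁)) → ⁅z, c⁆ ∈ J := by
    intro c z hc hic' hz
    have h1 := (t.mem_cU h).1 ((hi2 c hc).2 hic')
    obtain ⟨z₀, hz₀, e⟩ := t.comm_Qn h (t.cent_le_Qn h h1.1 h1.2)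
    rw [commutatorElement_def, (e z hz).1]
    exact hRJ (hRcomm z (h.SG (t.Z2_le_S h hz)) z₀ hz₀)
  have hAQ : ∀ z ∈ zv p G S (n * (g₁ * m₁)), ∀ q ∈ Q, ⁅z, q⁆ ∈ J := by
    intro z hz q hq
    have hzG := h.SG (t.Z2_le_S h hz)
    have hsup := (t.l.full h t.d).ge (h.QS hq)
    rw [← SetLike.mem_coe, coe_mul_of_left_le_normalizer_right _ _ (le_normalizer_iff.2 fun v hv r hr =>
      h.normalizes_Qn t.l.hn (h.cj_S t.l.hn ▸ t.l.V_le h t.d hv) hr)] at hsup
    obtain ⟨v, hv, r, hr, rfl⟩ := hsup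
    have hvU : v ∈ U := hU ▸ zv_le_nb t.l.hg t.l.hm hv
    obtain ⟨z₀, hz₀, e⟩ := t.comm_Qn h hr
    have h1 : ⁅z, r⁆ ∈ J := by
      rw [commutatorElement_def, (e z hz).1]
      exact hRJ (hRcomm z hzG z₀ hz₀)
    obtain ⟨w, hw, c, hc, hci, -, rfl, -⟩ := hdec v hvU
    have h2 : ⁅z, w⁆ ∈ J := by
      rw [commutatorElement_def]; exact mul_mem (hJst z hzG w hw) (inv_mem hw)
    rw [show ⁅z, w * c * r⁆ = ⁅z, w⁆ * (w * ⁅z, c⁆ * w⁻¹) * ((w * c) * ⁅z, r⁆ * (w * c)⁻¹) by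
      simp only [commutatorElement_def]; group]
    exact mul_mem (mul_mem h2 (hJst w (hUG (hJU hw)) _ (hcQn hc hci hz))) (hJst _ (hUG hvU) _ h1)
  have hcore : X ⊓ Q = J :=
    le_antisymm (hX ▸ inf_Q_le h (t.full₂ h) hZab hJst hAQ (hX ▸ hXQ)) (le_inf hJX (hJU.trans hUQ))
  have hcomm : ⁅J, X⁆ = J := by
    refine le_antisymm ?_ ?_
    · rw [commutator_le]
      intro u hu x hx
      rw [commutatorElement_def, show u * x * u⁻¹ * x⁻¹ = u * (x * u⁻¹ * x⁻¹) by group]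
      exact mul_mem hu (hJst x (hXG hx) _ (inv_mem hu))
    · conv_lhs => rw [hJ]
      rw [commutator_le]
      intro u hu x hx
      obtain ⟨w, hw, c, -, -, hcX, rfl, -⟩ := hdec u hu
      have hxc : x * c = c * x := mem_centralizer_iff.1 hcX x hx
      have e : ⁅w * c, x⁆ = ⁅w, x⁆ := by
        simp only [commutatorElement_def]
        calc w * c * x * (w * c)⁻¹ * x⁻¹ = w * (c * x) * c⁻¹ * w⁻¹ * x⁻¹ := by group
          _ = _ := by rw [← hxc]; group
      rw [e]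
      exact commutator_mem_commutator hw hx
  -- `D = [J, J]`
  obtain ⟨D, hD⟩ : ∃ D, D = ⁅J, J⁆ := ⟨_, rfl⟩
  have hDcen : D ≤ zc p G S ⊓ centralizer (G : Set W) := by
    rw [hD, commutator_le]
    exact fun u hu v hv => hUcen u (hJU hu) v (hJU hv)
  have hDJ : D ≤ J := by
    rw [hD, commutator_le]
    exact fun u hu v hv => by
      rw [commutatorElement_def]
      exact mul_mem (mul_mem (mul_mem hu hv) (inv_mem hu)) (inv_mem hv)
  have hDc : ∀ d ∈ D, ∀ g ∈ G, g * d = d * g := fun d hd g hg => cen_comm (hDcen hd).2 hg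
  let L : Subgroup W :=
    { carrier := {u | u ∈ J ∧ i * u * i * u ∈ D}
      one_mem' := ⟨one_mem _, by rw [mul_one, mul_one, hii]; exact one_mem _⟩
      mul_mem' := fun {u v} hu hv => ⟨mul_mem hu.1 hv.1, by
        obtain ⟨d, hd⟩ : ∃ d, d = i * u * i * u := ⟨_, rfl⟩
        obtain ⟨e, he⟩ : ∃ e, e = i * v * i * v := ⟨_, rfl⟩
        have hdD : d ∈ D := hd ▸ hu.2
        have heD : e ∈ D := he ▸ hv.2
        have h1 : i * (u * v) * i * (u * v) = d * e * ⁅u⁻¹, v⁻¹⁆ := by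
          have hc := hDc e heD u⁻¹ (inv_mem (hUG (hJU hu.1)))
          calc i * (u * v) * i * (u * v) = i * u * (1 : W) * v * i * (u * v) := by group
            _ = i * u * (i * i) * v * i * (u * v) := by rw [hii]
            _ = d * (u⁻¹ * e) * v⁻¹ * u * v := by rw [hd, he]; group
            _ = d * (e * u⁻¹) * v⁻¹ * u * v := by rw [hc]
            _ = _ := by rw [commutatorElement_def]; group
        rw [h1]
        exact mul_mem (mul_mem hdD heD) (hD ▸ commutator_mem_commutator (inv_mem hu.1) (inv_mem hv.1))⟩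
      inv_mem' := fun {u} hu => ⟨inv_mem hu.1, by
        obtain ⟨d, hd⟩ : ∃ d, d = i * u * i * u := ⟨_, rfl⟩
        have hdD : d ∈ D := hd ▸ hu.2
        have hc := hDc d⁻¹ (inv_mem hdD) u (hUG (hJU hu.1))
        have h1 : i * u⁻¹ * i * u⁻¹ = u * d⁻¹ * u⁻¹ := by
          rw [hd, _root_.mul_inv_rev, _root_.mul_inv_rev, _root_.mul_inv_rev, hi']; group
        rw [h1, hc, mul_inv_cancel_right]
        exact inv_mem hdD⟩ }
  have hLX : ∀ x ∈ X, ∀ y ∈ L, x * y * x⁻¹ ∈ L := by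
    rintro x hx y ⟨hy1, hy2⟩
    obtain ⟨r, hr⟩ : ∃ r, r = i * x * i * x⁻¹ := ⟨_, rfl⟩
    have hrJ : r ∈ J := hcore.le ⟨hr ▸ X.mul_mem (X.mul_mem (X.mul_mem hiX hx) hiX) (X.inv_mem hx), by
      have := hic x (hXG hx)
      rwa [commutatorElement_def, hi', ← hr] at this⟩
    obtain ⟨v, hv⟩ : ∃ v, v = x * y * x⁻¹ := ⟨_, rfl⟩
    have hvJ : v ∈ J := hv ▸ hJst x (hXG hx) y hy1
    obtain ⟨d, hd⟩ : ∃ d, d = i * y * i * y := ⟨_, rfl⟩
    have hdD : d ∈ D := hd ▸ hy2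
    refine ⟨hv ▸ hvJ, ?_⟩
    rw [← hv]
    have h1 : i * v * i * v = d * ⁅r, v⁻¹⁆ := by
      have hc := hDc d hdD (r * x) (mul_mem (hUG (hJU hrJ)) (hXG hx))
      calc i * v * i * v = i * x * (1 : W) * y * (1 : W) * x⁻¹ * i * v := by rw [hv]; group
        _ = i * x * (i * i) * y * (i * i) * x⁻¹ * i * v := by rw [hii]
        _ = (i * x * i) * (i * y * i) * (i⁻¹ * x⁻¹ * i⁻¹) * v * 1 := by rw [hi']; group
        _ = (r * x * d) * y⁻¹ * (r * x)⁻¹ * v := by rw [hd, hr]; group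
        _ = (d * (r * x)) * y⁻¹ * (r * x)⁻¹ * v := by rw [hc]
        _ = _ := by rw [commutatorElement_def, hv]; group
    rw [h1]
    exact mul_mem hdD (hD ▸ commutator_mem_commutator hrJ (inv_mem hvJ))
  have hJL : J ≤ L := by
    conv_lhs => rw [← hcomm]
    rw [commutator_le]
    intro u hu x hx
    obtain ⟨w, hw, c, -, -, hcX, hue, hwe⟩ := hdec u (hJU hu)
    have hwL : w ∈ L := ⟨hw, by
      have : i * w * i * w = 1 := by
        rw [hwe]
        have hii2 : ∀ z : W, i * (i * z) = z := fun z => by rw [← mul_assoc, hii, one_mul]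
        simp [mul_assoc, hii2]
      rw [this]; exact one_mem _⟩
    have hxc : x * c = c * x := mem_centralizer_iff.1 hcX x hx
    have e : ⁅u, x⁆ = w * (x * w⁻¹ * x⁻¹) := by
      rw [hue, commutatorElement_def]
      calc w * c * x * (w * c)⁻¹ * x⁻¹ = w * (c * x) * c⁻¹ * w⁻¹ * x⁻¹ := by group
        _ = _ := by rw [← hxc]; group
    rw [e]
    exact mul_mem hwL (hLX x hx _ (inv_mem hwL))
  have hDfix : J ⊓ centralizer (X : Set W) ≤ D := by
    rintro f ⟨hf, hfX⟩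
    have h1 := (hJL hf).2
    have hf3 := hU3 f (hJU hf)
    rw [mem_centralizer_iff.1 hfX i hiX, mul_assoc f, hii, mul_one] at h1
    have h2 : f * f * (f * f) = f := by
      calc f * f * (f * f) = f ^ 3 * f := by rw [pow_three]; group
        _ = _ := by rw [hf3, one_mul]
    exact h2 ▸ mul_mem h1 h1
  have hcap : J ⊓ cU p G S N = J ⊓ zc p G S := by
    refine le_antisymm ?_ ?_
    · rintro u ⟨hu, huc⟩
      refine ⟨hu, ?_⟩
      obtain ⟨w, hw, c, -, -, hcX, hue, hwe⟩ := hdec u (hJU hu)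
      have hwz : w ∈ zc p G S := by
        rw [hwe]
        have := ((t.mem_cU h).1 huc).2 i hiG
        rwa [hi'] at this
      have hcJ : c ∈ J := by
        have := mul_mem (inv_mem hw) hu
        rwa [hue, inv_mul_cancel_left] at this
      rw [hue]
      exact mul_mem hwz (hDcen (hDfix ⟨hcJ, hcX⟩)).1
    · rintro u ⟨hu, huz⟩
      exact ⟨hu, (t.sections h).1 huz⟩
  refine ⟨J, D, i, ?_⟩
  subst hX hU
  exact ⟨hp3, hU3, hJst, hJU, hcore, hcomm, hDJ, hD, hDcen, hDfix, hcap, hRJ, hiX, hXQ, fun u hu => by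
    obtain ⟨w, hw, c, hc, hci, hcX, e, -⟩ := hdec u hu
    exact ⟨w, hw, c, (hi2 c hc).2 hci, hci, hcX, e⟩⟩

end CfsgLib.LocalEven.PMinPush
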