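import Cfsg.Agent.Lib.LocalEven.PMinPush.TwoBlk
import Cfsg.Agent.Lib.LocalEven.Subnormal

/-!
# The subgroups of `G` over the blocks of transvections
-/

set_option autoImplicit false
set_option linter.all false

namespace CfsgLib.LocalEven.PMinPush

open Subgroup Cfsg CfsgLib.LocalEven.OffSL2 CfsgLib.LocalEven.PMinFF
open scoped IsMulCommutative commutatorElement

variable {G : Type*} [Group G]

/-- The elements of the normaliser of `V` centralising `Q` modulo `V`. -/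
def actTriv (Q V : Subgroup G) : Subgroup G where
  carrier := {g | g ∈ normalizer (V : Set G) ∧ ∀ q ∈ Q, ⁅q, g⁆ ∈ V}
  one_mem' := ⟨one_mem _, fun q _ => by simp⟩
  mul_mem' := fun {a b} ha hb => ⟨mul_mem ha.1 hb.1, fun q hq => by
    rw [show ⁅q, a * b⁆ = ⁅q, a⁆ * (a * ⁅q, b⁆ * a⁻¹) by simp only [commutatorElement_def]; group]
    exact mul_mem (ha.2 q hq) ((mem_normalizer_iff.1 ha.1 _).1 (hb.2 q hq))⟩
  inv_mem' := fun {a} ha => ⟨inv_mem ha.1, fun q hq => by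
    rw [show ⁅q, a⁻¹⁆ = a⁻¹ * ⁅q, a⁆⁻¹ * a⁻¹⁻¹ by simp only [commutatorElement_def]; group]
    exact (mem_normalizer_iff.1 (inv_mem ha.1) _).1 (inv_mem (ha.2 q hq))⟩

theorem actTriv_normal (Q V : Subgroup G) [Q.Normal] [V.Normal] : (actTriv Q V).Normal := ⟨fun a ha g =>
  ⟨(normalizer_eq_top_iff.2 ‹V.Normal›).ge (mem_top _), fun q hq => by
    rw [show ⁅q, g * a * g⁻¹⁆ = g * ⁅g⁻¹ * q * g, a⁆ * g⁻¹ by simp only [commutatorElement_def]; group]
    exact Subgroup.Normal.conj_mem ‹V.Normal› _ (ha.2 _ (by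
      simpa using Subgroup.Normal.conj_mem ‹Q.Normal› q hq g⁻¹)) g⟩⟩

/-- The subgroup of `G` over a block of transvections. -/
def blkE {P : Type*} [Group P] (p : ℕ) (mk : G →* P) (V : Subgroup G) (Eb : Subgroup P) : Subgroup G :=
  pResidualOf p (Eb.comap mk ⊓ actTriv (pCore p G) V)

variable [Finite G] [Fact (Nat.Prime 2)]
variable {P : Type*} [Group P] [Finite P] {T : Sylow 2 G} {M : Subgroup G} {mk : G →* P}
variable {V : Subgroup G} [IsMulCommutative V] {act : P →* AddMonoid.End (Additive ↥V)} {y : Additive ↥V}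
variable {L : Subgroup P → Subgroup P} {X : Subgroup P → Subgroup G}
variable (h : Ctx 2 T M mk V act y) (hA : AtSys 2 act ((T : Subgroup G).map mk) (M.map mk) 2 L)
variable (hX : LocFam 2 T mk V act 2 L X)
include h

theorem Ctx.n1_normal : (actTriv (pCore 2 G) V).Normal := by
  haveI := h.V_normal
  haveI : (pCore 2 G).Normal := CfsgLib.Core.normal_pCore 2 G
  exact actTriv_normal _ _

/-- Elements of `C_G(V)` centralising `O_p(G)` modulo `V` lie in `O_p(G)`. -/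
theorem Ctx.n1_ker_le_core : actTriv (pCore 2 G) V ⊓ mk.ker ≤ pCore 2 G := by
  intro c hc
  obtain ⟨a, r, ha, hr, har, ⟨k, hk⟩, hrc⟩ := exists_parts (p := 2) c
  have hrN : r ∈ actTriv (pCore 2 G) V := (zpowers_le.2 hc.1) hr
  have hrK : r ∈ mk.ker := (zpowers_le.2 hc.2) hr
  haveI hbn : (⊥ : Subgroup G).Normal := inferInstance
  have hrC : r ∈ centralizer (pCore 2 G : Set G) := mem_centralizer_iff.2 fun q hq => by
    have h1 : ⁅r, q⁆ ∈ V := by rw [← commutatorElement_inv]; exact inv_mem (hrN.2 q hq)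
    have h2 := coprime_step (V := (⊥ : Subgroup G)) (x := r) (q := q)
      ((normalizer_eq_top_iff.2 hbn).ge (mem_top _)) ((normalizer_eq_top_iff.2 hbn).ge (mem_top _))
      ⟨1, mem_bot.2 (by rw [pow_one]; exact h.V_el.exp _ h1)⟩
      (mem_bot.2 (commutatorElement_eq_one_iff_mul_comm.2 (h.mem_ker.1 hrK _ h1))) hrc
    exact (commutatorElement_eq_one_iff_mul_comm.1 (mem_bot.1 h2)).symm
  obtain ⟨i, hi⟩ := (CfsgLib.Core.isPGroup_pCore 2 G) ⟨r, h.hG hrC⟩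
  have hr1 : r = 1 := orderOf_eq_one_iff.1 (Nat.eq_one_of_dvd_coprimes (hrc.pow_right i) dvd_rfl
    (orderOf_dvd_of_pow_eq_one (congrArg Subtype.val hi)))
  refine h.zpowers_le_core hc.2 (k := k) ?_
  rw [← har, hr1, mul_one]; exact hk

include hA hX

theorem Ctx.two_core {B : Subgroup P} (hB : B ∈ sig 2 act ((T : Subgroup G).map mk) 2) :
    pCoreOf 2 (X B) ≤ V ∧ ⁅pCoreOf 2 (X B), X B⁆ = pCoreOf 2 (X B) ∧
      pCoreOf 2 (X B) = omegaOneCenter 2 (pCoreOf 2 (X B)) := by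
  obtain ⟨-, -, hQ, -, hor⟩ := (hX B hB).block
  have hW : pCoreOf 2 (X B) = omegaOneCenter 2 (pCoreOf 2 (X B)) := by
    rcases hor with ⟨F, iF, iFF, n, -, -, -, hw | ⟨h3, -⟩⟩ | ⟨-, m, -, -, hw⟩
    · exact hw
    · exact absurd h3 (by norm_num)
    · exact hw
  refine ⟨?_, hQ, hW⟩
  have h1 := (hX B hB).bM_le
  rw [← hW, hQ] at h1
  exact h1

/-- The core of a local block lies in its commutator space. -/
theorem Ctx.two_core_img {B : Subgroup P} (hB : B ∈ sig 2 act ((T : Subgroup G).map mk) 2) {z : ↥V}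
    (hz : (z : G) ∈ pCoreOf 2 (X B)) : Additive.ofMul z ∈ img act (pResidualOf 2 (L B)) := by
  obtain ⟨-, hQ, hW⟩ := h.two_core hA hX hB
  have h1 := (hX B hB).bM_img
  rw [← hW, hQ] at h1
  obtain ⟨w, hw, hwz⟩ := h1 hz
  rw [show z = w from Subtype.ext hwz.symm]
  exact hw

theorem Ctx.X_le_n1 {B : Subgroup P} (hB : B ∈ sig 2 act ((T : Subgroup G).map mk) 2) :
    X B ≤ actTriv (pCore 2 G) V := fun x hx =>
  ⟨(normalizer_eq_top_iff.2 h.V_normal).ge (mem_top _), fun q hq =>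
    (h.two_core hA hX hB).1 ((hX B hB).comm_core q hq x hx)⟩

theorem Ctx.X_le_blkE {B Eb : Subgroup P} (hB : B ∈ sig 2 act ((T : Subgroup G).map mk) 2) (hE : isBlk act Eb)
    (hle : B ≤ Eb) : X B ≤ blkE 2 mk V Eb := by
  rw [← (hX B hB).block.1]
  exact res_mono (le_inf (map_le_iff_le_comap.1 ((hX B hB).image.le.trans
    ((res_le _).trans (pair_le_blk h.pm hA hB hE hle)))) (h.X_le_n1 hA hX hB))

/-- The subgroup over a block is generated by the local blocks. -/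
theorem Ctx.blkE_eq {Eb : Subgroup P} (hE : isBlk act Eb) :
    blkE 2 mk V Eb = ⨆ B ∈ {B ∈ sig 2 act ((T : Subgroup G).map mk) 2 | B ≤ Eb}, X B ∧
    (blkE 2 mk V Eb).map mk = pResidualOf 2 Eb := by
  obtain ⟨S, hS⟩ : ∃ S, S = {B ∈ sig 2 act ((T : Subgroup G).map mk) 2 | B ≤ Eb} := ⟨_, rfl⟩
  obtain ⟨K, hK⟩ : ∃ K, K = ⨆ B ∈ S, X B := ⟨_, rfl⟩
  obtain ⟨E0, hE0⟩ : ∃ E0, E0 = sSup (sig 2 act ((T : Subgroup G).map mk) 2) := ⟨_, rfl⟩
  rw [← hS, ← hK]
  have hSmem : ∀ {B}, B ∈ S → B ∈ sig 2 act ((T : Subgroup G).map mk) 2 ∧ B ≤ Eb := fun hB => hS.le hB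
  have hXK : ∀ {B}, B ∈ S → X B ≤ K := fun {B} hB => hK ▸ le_iSup₂_of_le B hB le_rfl
  have hnorm : ∀ D : Subgroup G, (∀ B ∈ S, D ≤ normalizer (X B : Set G)) → D ≤ normalizer (K : Set G) :=
    fun D hD d hd => PMinFF.mem_normalizer_of_conj fun k hk => by
      have hle : K ≤ K.comap (MulAut.conj d).toMonoidHom := by
        conv_lhs => rw [hK]
        exact iSup₂_le fun B hB x hx => hXK hB ((mem_normalizer_iff.1 (hD B hB hd) x).1 hx)
      exact hle hk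
  have hQK : pCore 2 G ≤ normalizer (K : Set G) := hnorm _ fun B hB => (hX B (hSmem hB).1).core_norm
  have hBTK : baumannSubgroupOf 2 (T : Subgroup G) ≤ normalizer (K : Set G) :=
    hnorm _ fun B hB => (hX B (hSmem hB).1).baumann_norm
  have hE0K : E0 ≤ normalizer ((K.map mk : Subgroup P) : Set P) := by
    rw [hE0, ← h.baumann_image hA]
    exact (map_mono hBTK).trans (le_normalizer_map mk)
  have hEbK : Eb ≤ K.map mk ⊔ E0 := by
    refine (blk_eq_sup h.pm hA hE).le.trans (iSup₂_le fun B hB => ?_)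
    refine (pair_res_sup h.pm (hA.pairs.pair B hB.1) hB.1.1.1).ge.trans (sup_le ?_ ?_)
    · exact ((hX B hB.1).image.ge.trans (map_mono (hXK (hS.ge hB)))).trans le_sup_left
    · exact (hE0 ▸ le_sSup hB.1 : B ≤ E0).trans le_sup_right
  have hE0p : IsPGroup 2 E0 := hE0 ▸ h.pm.syl.pgr.to_le sSup_sig_le
  have hodd : ∀ z ∈ Eb, (orderOf z).Coprime 2 → z ∈ K.map mk := fun z hz hc =>
    CfsgLib.LocalEvenB.mem_of_coprime_sup hE0p hE0K (hEbK hz) hc
  have himg : K.map mk = pResidualOf 2 Eb := by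
    refine le_antisymm ?_ (res_le_of hodd)
    rw [hK, Subgroup.map_iSup]
    refine iSup_le fun B => ?_
    rw [Subgroup.map_iSup]
    exact iSup_le fun hB => (hX B (hSmem hB).1).image.le.trans
      (res_mono (pair_le_blk h.pm hA (hSmem hB).1 hE (hSmem hB).2))
  have heq : blkE 2 mk V Eb = K := by
    refine le_antisymm (res_le_of fun x hx hc => ?_) (hK ▸ iSup₂_le fun B hB =>
      h.X_le_blkE hA hX (hSmem hB).1 hE (hSmem hB).2)
    obtain ⟨k, hk, hke⟩ := hodd (mk x) hx.1 (hc.coprime_dvd_left (orderOf_map_dvd mk x))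
    have hkN : k ∈ actTriv (pCore 2 G) V :=
      (hK ▸ iSup₂_le fun B hB => h.X_le_n1 hA hX (hSmem hB).1 : K ≤ actTriv (pCore 2 G) V) hk
    have hcK : k⁻¹ * x ∈ pCore 2 G := h.n1_ker_le_core (mem_inf.2 ⟨mul_mem (inv_mem hkN) hx.2,
      MonoidHom.mem_ker.2 (by rw [map_mul, map_inv, hke, inv_mul_cancel])⟩)
    refine CfsgLib.LocalEvenB.mem_of_coprime_sup (CfsgLib.Core.isPGroup_pCore 2 G) hQK ?_ hc
    rw [show x = k * (k⁻¹ * x) by group]
    exact mul_mem_sup hk hcK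
  exact ⟨heq, heq ▸ himg⟩

/-- `B(T)` normalises the subgroup over a block. -/
theorem Ctx.baumann_norm_blkE {Eb : Subgroup P} (hE : isBlk act Eb) :
    baumannSubgroupOf 2 (T : Subgroup G) ≤ normalizer (blkE 2 mk V Eb : Set G) ∧
      pCore 2 G ≤ normalizer (blkE 2 mk V Eb : Set G) := by
  obtain ⟨e, -⟩ := h.blkE_eq hA hX hE
  suffices hgen : ∀ D : Subgroup G, (∀ B ∈ sig 2 act ((T : Subgroup G).map mk) 2, D ≤ normalizer (X B : Set G)) →
      D ≤ normalizer (blkE 2 mk V Eb : Set G) from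
    ⟨hgen _ fun B hB => (hX B hB).baumann_norm, hgen _ fun B hB => (hX B hB).core_norm⟩
  intro D hD d hd
  refine PMinFF.mem_normalizer_of_conj fun k hk => ?_
  have hle : blkE 2 mk V Eb ≤ (blkE 2 mk V Eb).comap (MulAut.conj d).toMonoidHom := by
    conv_lhs => rw [e]
    exact iSup₂_le fun B hB x hx => h.X_le_blkE hA hX hB.1 hE hB.2 ((mem_normalizer_iff.1 (hD B hB.1 hd) x).1 hx)
  exact hle hk

omit hA hX in
theorem Ctx.blkE_conj (Eb : Subgroup P) (g : G) :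
    (blkE 2 mk V Eb).map (MulAut.conj g).toMonoidHom = blkE 2 mk V (PMinFF.cj (mk g) Eb) := by
  rw [blkE, blkE, res_map, Subgroup.map_inf _ _ _ (MulAut.conj g).injective]
  have e1 : (Eb.comap mk).map (MulAut.conj g).toMonoidHom = (PMinFF.cj (mk g) Eb).comap mk := by
    ext x
    change x ∈ PMinFF.cj g (Eb.comap mk) ↔ _
    rw [PMinFF.mem_cj, mem_comap, mem_comap, PMinFF.mem_cj, map_mul, map_mul, map_inv]
  have e2 : (actTriv (pCore 2 G) V).map (MulAut.conj g).toMonoidHom = actTriv (pCore 2 G) V :=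
    PMinFF.cj_eq_self ((normalizer_eq_top_iff.2 h.n1_normal).ge (mem_top g))
  rw [e1, e2]

omit hA hX in
/-- The blocks normalise the subgroup over each of them, and it is subnormal. -/
theorem Ctx.blkE_subnormal {Eb : Subgroup P} (hE : isBlk act Eb) :
    (sSup {E | isBlk act E}).comap mk ≤ normalizer (blkE 2 mk V Eb : Set G) ∧
      (blkE 2 mk V Eb).IsSubnormal := by
  obtain ⟨J, hJ⟩ : ∃ J, J = sSup {E | isBlk act E} := ⟨_, rfl⟩
  rw [← hJ]
  have hb := two_blocks h.pm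
  have hJn : J ≤ normalizer (Eb : Set P) := hJ ▸ sSup_le fun E' hE' => by
    by_cases e : E' = Eb
    · subst e; exact le_normalizer
    · exact le_normalizer_iff.2 fun a ha b hbE => by
        rw [hb.comm E' Eb hE' hE e a ha b hbE, mul_inv_cancel_right]; exact hbE
  have hn : J.comap mk ≤ normalizer (blkE 2 mk V Eb : Set G) := by
    refine le_trans ?_ (normalizer_le_normalizer_res _)
    intro g hg
    refine PMinFF.mem_normalizer_of_conj fun a ha => ⟨?_, h.n1_normal.conj_mem a ha.2 g⟩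
    show mk (g * a * g⁻¹) ∈ Eb
    rw [map_mul, map_mul, map_inv]
    exact (mem_normalizer_iff.1 (hJn hg) _).1 ha.1
  haveI hJnorm : J.Normal := ⟨fun n hn' g => by
    have hle : J ≤ J.comap (MulAut.conj g).toMonoidHom := by
      conv_lhs => rw [hJ]
      refine sSup_le fun E' hE' => map_le_iff_le_comap.1 ?_
      rw [hJ]
      exact le_sSup (hb.conj E' hE' g)
    exact hle hn'⟩
  have hle : blkE 2 mk V Eb ≤ J.comap mk :=
    (res_le _).trans (inf_le_left.trans (comap_mono (hJ ▸ le_sSup hE)))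
  exact ⟨hn, Subgroup.IsSubnormal.step _ (J.comap mk) hle (Subgroup.Normal.isSubnormal inferInstance)
    ((normal_subgroupOf_iff_le_normalizer hle).2 hn)⟩

omit hA hX in
theorem Ctx.blkE_core {Eb : Subgroup P} (hE : isBlk act Eb) :
    blkE 2 mk V Eb ⊓ mk.ker ≤ pCore 2 G ∧ pCoreOf 2 (blkE 2 mk V Eb) = blkE 2 mk V Eb ⊓ mk.ker := by
  have h1 : blkE 2 mk V Eb ⊓ mk.ker ≤ pCore 2 G := fun x hx =>
    h.n1_ker_le_core ⟨((res_le _).trans inf_le_right) hx.1, hx.2⟩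
  refine ⟨h1, le_antisymm (le_inf (CfsgLib.LocalEvenB.pCoreOf_le _) ?_) ?_⟩
  · refine (CfsgLib.Components.subnormal_pGroup_le_pCore ?_ (CfsgLib.LocalEvenB.isPGroup_pCoreOf _)).trans
      h.core_le_ker
    exact (CfsgLib.Core.normal_pCore 2 _).isSubnormal.trans' (h.blkE_subnormal hE).2
  · exact CfsgLib.LocalEvenB.le_pCoreOf inf_le_left ((CfsgLib.Core.isPGroup_pCore 2 G).to_le h1)
      (le_normalizer_iff.2 fun e he x hx => mem_inf.2 ⟨mul_mem (mul_mem he hx.1) (inv_mem he),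
        (MonoidHom.normal_ker mk).conj_mem x hx.2 e⟩)

/-- The commutator of `V` with the subgroup over a block. -/
theorem Ctx.blkE_comm_V {Eb : Subgroup P} (hE : isBlk act Eb) :
    ⁅V, blkE 2 mk V Eb⁆ ≤ V ∧ ⁅V, blkE 2 mk V Eb⁆ ≤ blkE 2 mk V Eb ∧
    ⁅⁅V, blkE 2 mk V Eb⁆, blkE 2 mk V Eb⁆ = ⁅V, blkE 2 mk V Eb⁆ ∧
    (∀ B ∈ sig 2 act ((T : Subgroup G).map mk) 2, B ≤ Eb → pCoreOf 2 (X B) ≤ ⁅V, blkE 2 mk V Eb⁆) ∧
    ∀ u ∈ img act Eb, ((Additive.toMul u : ↥V) : G) ∈ ⁅V, blkE 2 mk V Eb⁆ := by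
  obtain ⟨E, hEdef⟩ : ∃ E, E = blkE 2 mk V Eb := ⟨_, rfl⟩
  rw [← hEdef]
  haveI := h.V_normal
  have hVn : ⁅V, E⁆ ≤ V := commutator_le_left V E
  have hVE : V ≤ normalizer (E : Set G) := hEdef ▸ h.V_le_core.trans (h.baumann_norm_blkE hA hX hE).2
  have hVE' : ⁅V, E⁆ ≤ E := commutator_le.2 fun v hv e he => by
    rw [commutatorElement_def]
    exact mul_mem ((mem_normalizer_iff.1 (hVE hv) e).1 he) (inv_mem he)
  have hXE : ∀ B ∈ sig 2 act ((T : Subgroup G).map mk) 2, B ≤ Eb → X B ≤ E := fun B hB hle =>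
    hEdef ▸ h.X_le_blkE hA hX hB hE hle
  have hQV : ∀ B ∈ sig 2 act ((T : Subgroup G).map mk) 2, B ≤ Eb → pCoreOf 2 (X B) ≤ ⁅V, E⁆ := fun B hB hle => by
    obtain ⟨h1, h2, -⟩ := h.two_core hA hX hB
    rw [← h2]
    exact commutator_mono h1 (hXE B hB hle)
  have hQA : ∀ B ∈ sig 2 act ((T : Subgroup G).map mk) 2, B ≤ Eb → pCoreOf 2 (X B) ≤ ⁅⁅V, E⁆, E⁆ := fun B hB hle => by
    rw [← (h.two_core hA hX hB).2.1]
    exact commutator_mono (hQV B hB hle) (hXE B hB hle)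
  have hEA : E ≤ normalizer ((⁅⁅V, E⁆, E⁆ : Subgroup G) : Set G) := normalizer_commutator_ge_right _ E
  let K : Subgroup G :=
    { carrier := {e | e ∈ E ∧ ∀ v ∈ V, ⁅v, e⁆ ∈ ⁅⁅V, E⁆, E⁆}
      one_mem' := ⟨one_mem _, fun v _ => by simp⟩
      mul_mem' := fun {a b} ha hb => ⟨mul_mem ha.1 hb.1, fun v hv => by
        rw [show ⁅v, a * b⁆ = ⁅v, a⁆ * (a * ⁅v, b⁆ * a⁻¹) by simp only [commutatorElement_def]; group]
        exact mul_mem (ha.2 v hv) ((mem_normalizer_iff.1 (hEA ha.1) _).1 (hb.2 v hv))⟩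
      inv_mem' := fun {a} ha => ⟨inv_mem ha.1, fun v hv => by
        rw [show ⁅v, a⁻¹⁆ = a⁻¹ * ⁅v, a⁆⁻¹ * a⁻¹⁻¹ by simp only [commutatorElement_def]; group]
        exact (mem_normalizer_iff.1 (hEA (inv_mem ha.1)) _).1 (inv_mem (ha.2 v hv))⟩ }
  have hK : E ≤ K := by
    conv_lhs => rw [hEdef, (h.blkE_eq hA hX hE).1]
    refine iSup₂_le fun B hB x hx => ⟨hXE B hB.1 hB.2 hx, fun v hv => hQA B hB.1 hB.2 ((hX B hB.1).inter.le ⟨?_, ?_⟩)⟩
    · exact (hX B hB.1).comm_V v hv x hx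
    · exact h.core_le_ker (h.V_le_core (commutator_le_left V (X B) (commutator_mem_commutator hv hx)))
  refine ⟨hVn, hVE', le_antisymm (commutator_mono hVn le_rfl) (commutator_le.2 fun v hv e he => (hK he).2 v hv),
    hQV, ?_⟩
  -- commutators of the block on `V`
  obtain ⟨S, hS⟩ : ∃ S : AddSubgroup (Additive ↥V), ∀ u, u ∈ S ↔ ((Additive.toMul u : ↥V) : G) ∈ ⁅V, E⁆ :=
    ⟨Subgroup.toAddSubgroup ((⁅V, E⁆).subgroupOf V), fun u => Iff.rfl⟩
  intro u hu
  refine (hS u).1 ?_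
  let R : Subgroup P :=
    { carrier := {e | ∀ u, act e u - u ∈ S}
      one_mem' := fun u => by rw [OffSL2.act_one, sub_self]; exact zero_mem _
      mul_mem' := fun {a b} ha hb u => by
        rw [OffSL2.act_mul, show act a (act b u) - u = (act a (act b u) - act b u) + (act b u - u) by abel]
        exact add_mem (ha _) (hb _)
      inv_mem' := fun {a} ha u => by
        have := ha (act a⁻¹ u)
        rw [OffSL2.act_inv'] at this
        rw [← neg_sub]; exact neg_mem this }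
  have hres : ∀ B ∈ sig 2 act ((T : Subgroup G).map mk) 2, B ≤ Eb → pResidualOf 2 (L B) ≤ R := by
    intro B hB hle e he u
    obtain ⟨x, hx, rfl⟩ := (hX B hB).image.ge he
    rw [hS, toMul_sub, ← Subgroup.coe_subtype, map_div, Subgroup.coe_subtype, h.conj, div_eq_mul_inv,
      ← commutatorElement_def, ← commutatorElement_inv]
    exact inv_mem (commutator_mem_commutator (Additive.toMul u).2 (hXE B hB hle hx))
  have hR : Eb ≤ R := by
    refine (blk_eq_sup h.pm hA hE).le.trans (iSup₂_le fun B hB e he u => ?_)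
    have h1 := (pair_img_cover h.pm (hA.pairs.pair B hB.1) hB.1.1.1).2 (mem_img (act := act) he u)
    refine (?_ : img act (pResidualOf 2 (L B)) ≤ S) h1
    refine (AddSubgroup.closure_le _).2 ?_
    rintro _ ⟨e, he, u, rfl⟩
    exact hres B hB.1 hB.2 he u
  refine (?_ : img act Eb ≤ S) hu
  refine (AddSubgroup.closure_le _).2 ?_
  rintro _ ⟨e, he, u, rfl⟩
  exact hR he u

/-- `W` splits over the centraliser of all local blocks. -/
theorem Ctx.fix_all {w : G} (hw : w ∈ jW 2 (T : Subgroup G)) :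
    ∃ u ∈ V ⊓ jW 2 (T : Subgroup G), ∀ B ∈ sig 2 act ((T : Subgroup G).map mk) 2, ∀ x ∈ X B,
      x * (w * u⁻¹) = (w * u⁻¹) * x := by
  classical
  suffices ∀ s : Finset (Subgroup P), (∀ B ∈ s, B ∈ sig 2 act ((T : Subgroup G).map mk) 2) →
      ∃ u ∈ V ⊓ jW 2 (T : Subgroup G), ∀ B ∈ s, ∀ x ∈ X B, x * (w * u⁻¹) = (w * u⁻¹) * x by
    obtain ⟨u, hu, hall⟩ := this (Set.toFinite (sig 2 act ((T : Subgroup G).map mk) 2)).toFinset
      fun B hB => (Set.Finite.mem_toFinset _).1 hB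
    exact ⟨u, hu, fun B hB => hall B ((Set.Finite.mem_toFinset _).2 hB)⟩
  intro s hs
  induction s using Finset.induction_on with
  | empty => exact ⟨1, one_mem _, fun B hB => absurd hB (Finset.notMem_empty B)⟩
  | insert B s hBs ih =>
    obtain ⟨u, hu, hall⟩ := ih fun D hD => hs D (Finset.mem_insert_of_mem hD)
    have hB := hs B (Finset.mem_insert_self _ _)
    obtain ⟨d, hd, hdc, hdv⟩ := (hX B hB).fix_W (w * u⁻¹) (mul_mem hw (inv_mem hu.2))
    obtain ⟨c, hc, hcD, hcB⟩ := hA.fE_split h.pm hB (u := Additive.ofMul (⟨_, hdv.1⟩ : ↥V))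
      ((h.mem_fE_iff hA).2 hdv.2)
    obtain ⟨c', hc'⟩ : ∃ c' : ↥V, c' = Additive.toMul c := ⟨_, rfl⟩
    have hcW : (c' : G) ∈ jW 2 (T : Subgroup G) := hc' ▸ (h.mem_fE_iff hA).1 hc
    have hfix : ∀ D ∈ sig 2 act ((T : Subgroup G).map mk) 2, ∀ x ∈ X D, ∀ v : Additive ↥V,
        v ∈ fix act (L D) → x * (Additive.toMul v : ↥V) = (Additive.toMul v : ↥V) * x := fun D hD x hx v hv =>
      h.fix_iff.1 (hv _ (res_le (L D) ((hX D hD).image.le ⟨x, hx, rfl⟩)))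
    refine ⟨(c' : G) * u, mem_inf.2 ⟨mul_mem c'.2 hu.1, mul_mem hcW hu.2⟩, fun D hD x hx => ?_⟩
    rw [show w * ((c' : G) * u)⁻¹ = w * u⁻¹ * (c' : G)⁻¹ by group]
    rcases Finset.mem_insert.1 hD with rfl | hD'
    · obtain ⟨v, hv⟩ : ∃ v : ↥V, v = ⟨d⁻¹ * (w * u⁻¹), hdv.1⟩ := ⟨_, rfl⟩
      have h1 := hfix D hB x hx _ hcB
      rw [toMul_sub, ← hc', ← hv, toMul_ofMul, Subgroup.coe_div, div_eq_mul_inv] at h1
      have e : w * u⁻¹ * (c' : G)⁻¹ = d * ((v : G) * (c' : G)⁻¹) := by rw [hv]; group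
      rw [e]
      exact ((show Commute x d from hdc x hx).mul_right h1).eq
    · have h1 := hfix D (hs D hD) x hx _ (hcD D (hs D hD) fun e => hBs (e ▸ hD'))
      rw [← hc'] at h1
      exact ((show Commute x (w * u⁻¹) from hall D hD' x hx).mul_right (show Commute x (c' : G) from h1).inv_right).eq

/-- A lift of an atom in `T` centralising `B(T)` modulo the core of its block. -/
theorem Ctx.exists_lift {B Eb : Subgroup P} (hB : B ∈ sig 2 act ((T : Subgroup G).map mk) 2) (hE : isBlk act Eb)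
    (hle : B ≤ Eb) : ∃ t ∈ baumannSubgroupOf 2 (T : Subgroup G), t ^ 2 = 1 ∧ mk t ∈ B ∧ mk t ≠ 1 ∧
      ∀ s ∈ baumannSubgroupOf 2 (T : Subgroup G), ⁅t, s⁆ ∈ pCoreOf 2 (X B) := by
  obtain ⟨a, ha, ha2, hac, hout⟩ := (hX B hB).lift (h.two_core hA hX hB).2.2
  obtain ⟨d, hd, b, hb, hab⟩ := hA.mem_E h.pm hB ((h.baumann_image hA).le ⟨a, ha, rfl⟩)
  have hp := hA.pairs.pair B hB
  let K : Subgroup P :=
    { carrier := {e | ∀ u, act e u - u ∈ fix act (L B)}
      one_mem' := fun u => by rw [OffSL2.act_one, sub_self]; exact zero_mem _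
      mul_mem' := fun {a b} ha hb u => by
        rw [OffSL2.act_mul, show act a (act b u) - u = (act a (act b u) - act b u) + (act b u - u) by abel]
        exact add_mem (ha _) (hb _)
      inv_mem' := fun {a} ha u => by
        have := ha (act a⁻¹ u)
        rw [OffSL2.act_inv'] at this
        rw [← neg_sub]; exact neg_mem this }
  have hK : sSup (sig 2 act ((T : Subgroup G).map mk) 2 \ {B}) ≤ K :=
    sSup_le fun D hD x hx u => (hA.pairs.other B hB D hD.1 hD.2).2 x hx u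
  have hd1 : d = 1 := by
    refine h.pm.inj (AddMonoidHom.ext fun z => ?_)
    show act d z = act 1 z
    rw [OffSL2.act_one, ← sub_eq_zero]
    refine img_res_inf_fix h.pm hA hB hE hle ?_ (hK hd z)
    obtain ⟨u, hu⟩ : ∃ u, u = act b⁻¹ z := ⟨_, rfl⟩
    have hvT : ((Additive.toMul u : ↥V) : G) ∈ baumannSubgroupOf 2 (T : Subgroup G) :=
      h.R1_le_baumann ⟨h.V_le_core (Additive.toMul u).2, mem_centralizer_iff.2 fun w hw =>
        (h.V_comm_W (Additive.toMul u).2 hw).symm⟩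
    have h1 : act (mk a) u - u ∈ img act (pResidualOf 2 (L B)) := by
      have h2 := hac _ hvT
      have e : ((Additive.toMul (act (mk a) u - u) : ↥V) : G) = ⁅a, ((Additive.toMul u : ↥V) : G)⁆ := by
        rw [toMul_sub, ← Subgroup.coe_subtype, map_div, Subgroup.coe_subtype, h.conj, div_eq_mul_inv,
          commutatorElement_def]
      have := h.two_core_img hA hX hB (z := Additive.toMul (act (mk a) u - u)) (e.symm ▸ h2)
      exact this
    have h3 : act b u - u ∈ img act (pResidualOf 2 (L B)) :=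
      (pair_img_cover h.pm hp hB.1.1).2 (mem_img (hp.le hb) u)
    have h4 := sub_mem h1 h3
    rw [hab, OffSL2.act_mul, hu, OffSL2.act_inv', show act d z - act b⁻¹ z - (z - act b⁻¹ z) = act d z - z by abel] at h4
    exact h4
  rw [hd1, one_mul] at hab
  refine ⟨a, ha, ha2, hab ▸ hb, fun e => hout (e ▸ one_mem _), hac⟩

/-- The subgroup over a block meets `C_G(V)` in its commutator with `V`. -/
theorem Ctx.blkE_ker {Eb : Subgroup P} (hE : isBlk act Eb) :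
    blkE 2 mk V Eb ⊓ mk.ker = ⁅V, blkE 2 mk V Eb⁆ := by
  classical
  obtain ⟨hVn, hVE, -, hQV, -⟩ := h.blkE_comm_V hA hX hE
  obtain ⟨heq, himg⟩ := h.blkE_eq hA hX hE
  obtain ⟨hBn, hQn⟩ := h.baumann_norm_blkE hA hX hE
  refine le_antisymm ?_ (le_inf hVE (hVn.trans (h.V_le_core.trans h.core_le_ker)))
  obtain ⟨E, hEdef⟩ : ∃ E, E = blkE 2 mk V Eb := ⟨_, rfl⟩
  obtain ⟨Vi, hVi⟩ : ∃ Vi, Vi = ⁅V, E⁆ := ⟨_, rfl⟩
  rw [← hEdef] at hVn hVE hQV heq himg hBn hQn ⊢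
  rw [← hVi] at hVn hVE hQV ⊢
  obtain ⟨B1, hB1, hB1E⟩ := blk_has_sig h.pm hA hE
  by_cases hone : ∀ B ∈ sig 2 act ((T : Subgroup G).map mk) 2, B ≤ Eb → B = B1
  · have hEX : E = X B1 := le_antisymm (heq.le.trans (iSup₂_le fun B hB => by rw [hone B hB.1 hB.2]))
      (hEdef ▸ h.X_le_blkE hA hX hB1 hE hB1E)
    rw [hEX, (hX B1 hB1).inter]
    exact hQV B1 hB1 hB1E
  push Not at hone
  obtain ⟨B2, hB2, hB2E, hne⟩ := hone
  obtain ⟨m, inf, ρ, ψ, hr⟩ := exists_rep h.pm hA hE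
  obtain ⟨x1, a0, a1, c1', φ1, eB1, hx1, -, -⟩ := hr.pairs B1 hB1 hB1E
  obtain ⟨x2, c0, c1, c2', φ2, eB2, hx2, -, -⟩ := hr.pairs B2 hB2 hB2E
  obtain ⟨d1, d2, d3, d4⟩ := hr.disj B1 hB1 B2 hB2 hne.symm x1 x2 a0 a1 c0 c1 eB1 eB2 hx1.2.2.1 hx2.2.2.1
    hx1.2.1 hx2.2.1
  obtain ⟨t, ht, ht2, htB, ht1, htc⟩ := h.exists_lift hA hX hB1 hE hB1E
  obtain ⟨s, hs, hs2, hsB, hs1, hsc⟩ := h.exists_lift hA hX hB2 hE hB2E
  have hgen : ∀ {x : Eb} {c : Additive ↥V} {φ : Additive ↥V →+ ZMod 2} {g : P}, Tr act (x : P) c φ →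
      g ∈ zpowers (x : P) → g ≠ 1 → g = (x : P) := by
    intro x c φ g hx hg hg1
    obtain ⟨j, hj⟩ := hg
    have hex := hx.atom.1.el.exp _ (mem_zpowers (x : P))
    rcases Int.even_or_odd j with ⟨r, hr'⟩ | ⟨r, hr'⟩
    · exact absurd (hj.symm.trans (by
        show (x : P) ^ j = 1
        rw [hr', ← two_mul, zpow_mul, zpow_ofNat, hex, one_zpow])) hg1
    · rw [← hj]; show (x : P) ^ j = _
      rw [hr', zpow_add, zpow_mul, zpow_ofNat, hex, one_zpow, one_mul, zpow_one]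
  have hte : mk t = (x1 : P) := hgen hx1.1 (eB1 ▸ htB) ht1
  have hse : mk s = (x2 : P) := hgen hx2.1 (eB2 ▸ hsB) hs1
  -- the group generated by the block and the two lifts
  obtain ⟨S, hS⟩ : ∃ S, S = zpowers t ⊔ zpowers s := ⟨_, rfl⟩
  have hSB : S ≤ baumannSubgroupOf 2 (T : Subgroup G) := hS ▸ sup_le (zpowers_le.2 ht) (zpowers_le.2 hs)
  have hSp : IsPGroup 2 S := T.2.to_le (hSB.trans h.baumann_le)
  obtain ⟨Y, hY⟩ : ∃ Y, Y = E ⊔ S := ⟨_, rfl⟩
  have hEY : E ≤ Y := hY ▸ le_sup_left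
  have htY : t ∈ Y := hY ▸ mem_sup_right (hS ▸ mem_sup_left (mem_zpowers t))
  have hsY : s ∈ Y := hY ▸ mem_sup_right (hS ▸ mem_sup_right (mem_zpowers s))
  have hYimg : Y.map mk ≤ Eb := by
    rw [hY, Subgroup.map_sup, himg, hS, Subgroup.map_sup, MonoidHom.map_zpowers, MonoidHom.map_zpowers, hte, hse]
    exact sup_le (res_le Eb) (sup_le (zpowers_le.2 x1.2) (zpowers_le.2 x2.2))
  have hkerY : ∀ z ∈ Y, z ∈ mk.ker → z ∈ baumannSubgroupOf 2 (T : Subgroup G) ∧ z ∈ pCore 2 G := by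
    intro z hzY hzk
    obtain ⟨a, r, ha, hr', har, ⟨k, hk⟩, hrc⟩ := exists_parts (p := 2) z
    have hrE : r ∈ E := CfsgLib.LocalEvenB.mem_of_coprime_sup hSp (hSB.trans hBn)
      (hY.le ((zpowers_le.2 hzY) hr')) hrc
    have hrQ : r ∈ pCore 2 G := (h.blkE_core hE).1 ⟨hEdef.le hrE, (zpowers_le.2 hzk) hr'⟩
    obtain ⟨i, hi⟩ := (CfsgLib.Core.isPGroup_pCore 2 G) ⟨r, hrQ⟩
    have hr1 : r = 1 := orderOf_eq_one_iff.1 (Nat.eq_one_of_dvd_coprimes (hrc.pow_right i) dvd_rfl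
      (orderOf_dvd_of_pow_eq_one (congrArg Subtype.val hi)))
    have hzQ : z ∈ pCore 2 G := h.zpowers_le_core hzk (k := k) (by rw [← har, hr1, mul_one]; exact hk)
    refine ⟨h.R1_le_baumann ⟨hzQ, mem_centralizer_iff.2 fun w hw => ?_⟩, hzQ⟩
    obtain ⟨u, hu, hall⟩ := h.fix_all hA hX hw
    have hdW : w * u⁻¹ ∈ jW 2 (T : Subgroup G) := mul_mem hw (inv_mem hu.2)
    have hYc : Y ≤ centralizer ({w * u⁻¹} : Set G) := by
      rw [hY]
      refine sup_le (heq.le.trans (iSup₂_le fun B hB x hx =>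
        mem_centralizer_singleton_iff.2 (hall B hB.1 x hx))) (hSB.trans fun b hb =>
          mem_centralizer_singleton_iff.2 (mem_centralizer_iff.1 hb.2 _ hdW).symm)
    have c1 : Commute z (w * u⁻¹) := mem_centralizer_singleton_iff.1 (hYc hzY)
    have c2 : Commute z u := h.mem_ker.1 hzk u hu.1
    have := (c1.mul_right c2).eq
    rw [inv_mul_cancel_right] at this
    exact this.symm
  have hYn : Y ≤ normalizer (Vi : Set G) := by
    rw [hY]
    refine sup_le (hVi ▸ normalizer_commutator_ge_right V E) (hSB.trans fun b hb => ?_)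
    refine PMinFF.mem_normalizer_of_conj fun v hv => ?_
    have h1 : PMinFF.cj b Vi ≤ Vi := by
      rw [hVi, PMinFF.cj, map_commutator]
      exact commutator_mono (PMinFF.cj_eq_self ((normalizer_eq_top_iff.2 h.V_normal).ge (mem_top b))).le
        (PMinFF.cj_eq_self (hBn hb)).le
    exact h1 (PMinFF.conj_mem_cj hv)
  haveI hNn : (Vi.subgroupOf Y).Normal := ⟨fun v hv g => by
    rw [mem_subgroupOf] at hv ⊢
    exact (mem_normalizer_iff.1 (hYn g.2) _).1 hv⟩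
  let f : ↥Y →* ↥Eb := (mk.comp Y.subtype).codRestrict Eb fun g => hYimg ⟨g, g.2, rfl⟩
  have hfN : Vi.subgroupOf Y ≤ (ρ.comp f).ker := fun g hg => by
    rw [MonoidHom.mem_ker, MonoidHom.comp_apply]
    refine (congrArg ρ ?_).trans (map_one ρ)
    exact Subtype.ext (MonoidHom.mem_ker.1 (h.core_le_ker (h.V_le_core (hVn (mem_subgroupOf.1 hg)))))
  obtain ⟨π, hπ⟩ : ∃ π : ↥Y ⧸ Vi.subgroupOf Y →* Equiv.Perm (Fin (2 * m + 1)),
      ∀ g : ↥Y, π g = ρ (f g) := ⟨QuotientGroup.lift _ (ρ.comp f) hfN, fun g => rfl⟩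
  have hkπ : ∀ g : ↥Y, π g = 1 → (g : G) ∈ mk.ker := fun g hg => by
    rw [hπ] at hg
    exact MonoidHom.mem_ker.2 (congrArg Subtype.val (hr.bij.1 (hg.trans (map_one ρ).symm)) :)
  have hsurj : Function.Surjective π := by
    intro σ
    obtain ⟨z, rfl⟩ := hr.bij.2 σ
    have hmem : ∀ w : Eb, Equiv.Perm.sign (ρ w) = 1 → ∃ g : ↥Y, π g = ρ w := fun w hw => by
      obtain ⟨g, hg, hge⟩ := himg.ge ((hr.mem_res h.pm hA w).2 hw)
      exact ⟨⟨g, hEY hg⟩, by rw [hπ]; exact congrArg ρ (Subtype.ext hge)⟩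
    rcases Int.units_eq_one_or (Equiv.Perm.sign (ρ z)) with hz | hz
    · obtain ⟨g, hg⟩ := hmem z hz
      exact ⟨_, hg⟩
    · obtain ⟨g, hg⟩ := hmem (x1 * z) (by
        rw [map_mul, map_mul, hz, hx1.2.2.1, Equiv.Perm.sign_swap hx1.2.1]; decide)
      refine ⟨((⟨t, htY⟩ : ↥Y) * g : ↥Y), ?_⟩
      rw [QuotientGroup.mk_mul, map_mul, hg, hπ, show f ⟨t, htY⟩ = x1 from Subtype.ext hte, map_mul, ← mul_assoc,
        ← map_mul, show x1 * x1 = 1 from Subtype.ext (by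
          rw [Subgroup.coe_mul, ← pow_two]; exact hx1.1.atom.1.el.exp _ (mem_zpowers _)), map_one, one_mul]
  have hcomm1 : ∀ a b : ↥Y, ⁅(a : G), (b : G)⁆ ∈ Vi → (a : ↥Y ⧸ Vi.subgroupOf Y) * b = b * a := by
    intro a b hab
    refine commutatorElement_eq_one_iff_mul_comm.1 ?_
    rw [← QuotientGroup.mk'_apply, ← QuotientGroup.mk'_apply, ← map_commutatorElement, QuotientGroup.mk'_apply,
      QuotientGroup.eq_one_iff, mem_subgroupOf]
    rw [show ((⁅a, b⁆ : ↥Y) : G) = ⁅(a : G), (b : G)⁆ from map_commutatorElement Y.subtype a b]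
    exact hab
  have hsplit := split_ext (π := π) hsurj (fun z hz w => ?_) (fun z hz => ?_)
    (t := ((⟨t, htY⟩ : ↥Y) : ↥Y ⧸ Vi.subgroupOf Y)) (t' := ((⟨s, hsY⟩ : ↥Y) : ↥Y ⧸ Vi.subgroupOf Y))
    ?_ ?_ ?_ hx1.2.1 hx2.2.1 d1 d2 d3 d4 ?_ ?_
  rotate_left
  · -- central
    obtain ⟨z, rfl⟩ := QuotientGroup.mk_surjective z
    obtain ⟨w, rfl⟩ := QuotientGroup.mk_surjective w
    obtain ⟨hzB, hzQ⟩ := hkerY z z.2 (hkπ z hz)
    refine hcomm1 z w ?_
    let K : Subgroup G :=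
      { carrier := {g | g ∈ Y ∧ ⁅(z : G), g⁆ ∈ Vi}
        one_mem' := ⟨one_mem _, by simp⟩
        mul_mem' := fun {a b} ha hb => ⟨mul_mem ha.1 hb.1, by
          rw [show ⁅(z : G), a * b⁆ = ⁅(z : G), a⁆ * (a * ⁅(z : G), b⁆ * a⁻¹) by
            simp only [commutatorElement_def]; group]
          exact mul_mem ha.2 ((mem_normalizer_iff.1 (hYn ha.1) _).1 hb.2)⟩
        inv_mem' := fun {a} ha => ⟨inv_mem ha.1, by
          rw [show ⁅(z : G), a⁻¹⁆ = a⁻¹ * ⁅(z : G), a⁆⁻¹ * a⁻¹⁻¹ by simp only [commutatorElement_def]; group]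
          exact (mem_normalizer_iff.1 (hYn (inv_mem ha.1)) _).1 (inv_mem ha.2)⟩ }
    have hK : Y ≤ K := by
      conv_lhs => rw [hY]
      refine sup_le (heq.le.trans (iSup₂_le fun B hB x hx => ⟨hEY (hEdef ▸ h.X_le_blkE hA hX hB.1 hE hB.2 hx),
        hQV B hB.1 hB.2 ((hX B hB.1).comm_core _ hzQ x hx)⟩)) ?_
      rw [hS]
      refine sup_le (zpowers_le.2 ⟨htY, ?_⟩) (zpowers_le.2 ⟨hsY, ?_⟩)
      · rw [← commutatorElement_inv]; exact inv_mem (hQV B1 hB1 hB1E (htc _ hzB))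
      · rw [← commutatorElement_inv]; exact inv_mem (hQV B2 hB2 hB2E (hsc _ hzB))
    exact (hK w.2).2
  · obtain ⟨z, rfl⟩ := QuotientGroup.mk_surjective z
    obtain ⟨i, hi⟩ := (CfsgLib.Core.isPGroup_pCore 2 G) ⟨z, (hkerY z z.2 (hkπ z hz)).2⟩
    refine ⟨i, ?_⟩
    rw [← QuotientGroup.mk_pow, show z ^ 2 ^ i = 1 from Subtype.ext (congrArg Subtype.val hi :)]
    rfl
  · rw [← QuotientGroup.mk_mul, show (⟨t, htY⟩ : ↥Y) * ⟨t, htY⟩ = 1 from Subtype.ext (by
      rw [Subgroup.coe_mul, ← pow_two]; exact ht2)]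
    rfl
  · rw [← QuotientGroup.mk_mul, show (⟨s, hsY⟩ : ↥Y) * ⟨s, hsY⟩ = 1 from Subtype.ext (by
      rw [Subgroup.coe_mul, ← pow_two]; exact hs2)]
    rfl
  · exact hcomm1 _ _ (hQV B1 hB1 hB1E (htc s hs))
  · rw [hπ, show f ⟨t, htY⟩ = x1 from Subtype.ext hte]; exact hx1.2.2.1
  · rw [hπ, show f ⟨s, hsY⟩ = x2 from Subtype.ext hse]; exact hx2.2.2.1
  intro z hz
  have hz1 : ((⟨z, hEY hz.1⟩ : ↥Y) : ↥Y ⧸ Vi.subgroupOf Y) = 1 := by
    refine hsplit _ ?_ ?_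
    · rw [hπ, show f ⟨z, hEY hz.1⟩ = 1 from Subtype.ext (MonoidHom.mem_ker.1 hz.2), map_one]
    · have hres : E ≤ ((Subgroup.closure {y : ↥Y ⧸ Vi.subgroupOf Y | (orderOf y).Coprime 2}).comap
          (QuotientGroup.mk' (Vi.subgroupOf Y))).map Y.subtype := by
        have e : pResidualOf 2 E = E := hEdef ▸ res_res _
        conv_lhs => rw [← e]
        refine res_le_of fun g hg hc => ⟨⟨g, hEY hg⟩, subset_closure ?_, rfl⟩
        show (orderOf _).Coprime 2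
        exact (Subgroup.orderOf_mk g (hEY hg) ▸ hc).coprime_dvd_left (orderOf_map_dvd _ _)
      obtain ⟨z', hz', hze⟩ := hres hz.1
      rw [show z' = (⟨z, hEY hz.1⟩ : ↥Y) from Subtype.ext hze] at hz'
      exact hz'
  exact mem_subgroupOf.1 ((QuotientGroup.eq_one_iff _).1 hz1)

end CfsgLib.LocalEven.PMinPush
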