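import Cfsg.Agent.Lib.LocalEven.PMinPush.TwoBlock

/-!
# The exceptional block: centre, module sections, no quadratic action
-/

set_option autoImplicit false
set_option linter.all false

namespace CfsgLib.LocalEven.PMinPush

open Subgroup Cfsg CfsgLib.PushUp Matrix
open scoped commutatorElement

/-- An alternating invariant biadditive map on `F²` factors through the determinant. -/
theorem alt_bound {W : Type*} [Group W] {F : Type} [Field F] (β : (Fin 2 → F) → (Fin 2 → F) → W)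
    (hadd : ∀ u v w, β (u + v) w = β u w * β v w) (hanti : ∀ v w, β w v = (β v w)⁻¹)
    (hcomm : ∀ a b c d, β a b * β c d = β c d * β a b) (hdiag : ∀ v, β v v = 1)
    (hinv : ∀ (s : SpecialLinearGroup (Fin 2) F) v w,
      β ((s : Matrix (Fin 2) (Fin 2) F) *ᵥ v) ((s : Matrix (Fin 2) (Fin 2) F) *ᵥ w) = β v w) :
    ∃ f : Multiplicative F →* W, ∀ v w, β v w ∈ f.range := by
  have hadd' : ∀ u v w, β w (u + v) = β w u * β w v := fun u v w => by
    rw [hanti (u + v) w, hadd, _root_.mul_inv_rev, ← hanti, ← hanti, hcomm]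
  have hz : ∀ v, β 0 v = 1 := fun v => by
    have h := hadd 0 0 v
    rwa [add_zero, right_eq_mul] at h
  have hz' : ∀ v, β v 0 = 1 := fun v => by rw [hanti 0 v, hz, inv_one]
  obtain ⟨E1, hE1⟩ : ∃ E1 : F → (Fin 2 → F), E1 = fun a => ![a, 0] := ⟨_, rfl⟩
  obtain ⟨E2, hE2⟩ : ∃ E2 : F → (Fin 2 → F), E2 = fun a => ![0, a] := ⟨_, rfl⟩
  have hdec : ∀ v : Fin 2 → F, v = E1 (v 0) + E2 (v 1) := fun v => by
    subst hE1 hE2
    funext i; fin_cases i <;> simp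
  have h11 : ∀ a b, β (E1 a) (E1 b) = 1 := by
    intro a b
    obtain ⟨s, hs⟩ : ∃ s : SpecialLinearGroup (Fin 2) F, (s : Matrix (Fin 2) (Fin 2) F) = !![1, b; 0, 1] :=
      ⟨⟨!![1, b; 0, 1], by simp [Matrix.det_fin_two_of]⟩, rfl⟩
    have h := hinv s (E1 a) (E2 1)
    rw [hs, show !![1, b; 0, 1] *ᵥ E1 a = E1 a by subst hE1; funext i; fin_cases i <;> simp [Matrix.mulVec, dotProduct],
      show !![1, b; 0, 1] *ᵥ E2 1 = E1 b + E2 1 by
        subst hE1 hE2; funext i; fin_cases i <;> simp [Matrix.mulVec, dotProduct], hadd'] at h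
    simpa using h
  have h22 : ∀ a b, β (E2 a) (E2 b) = 1 := by
    intro a b
    obtain ⟨s, hs⟩ : ∃ s : SpecialLinearGroup (Fin 2) F, (s : Matrix (Fin 2) (Fin 2) F) = !![1, 0; b, 1] :=
      ⟨⟨!![1, 0; b, 1], by simp [Matrix.det_fin_two_of]⟩, rfl⟩
    have h := hinv s (E2 a) (E1 1)
    rw [hs, show !![1, 0; b, 1] *ᵥ E2 a = E2 a by subst hE2; funext i; fin_cases i <;> simp [Matrix.mulVec, dotProduct],
      show !![1, 0; b, 1] *ᵥ E1 1 = E2 b + E1 1 by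
        subst hE1 hE2; funext i; fin_cases i <;> simp [Matrix.mulVec, dotProduct], hadd'] at h
    simpa using h
  let f : Multiplicative F →* W := MonoidHom.mk' (fun a => β (E1 (Multiplicative.toAdd a)) (E2 1)) fun a b => by
    rw [← hadd]
    congr 1
    subst hE1
    funext i; fin_cases i <;> simp
  have h12 : ∀ a b, β (E1 a) (E2 b) ∈ f.range := by
    intro a b
    by_cases hb : b = 0
    · rw [hb, show E2 0 = 0 by subst hE2; funext i; fin_cases i <;> simp, hz']; exact one_mem _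
    obtain ⟨s, hs⟩ : ∃ s : SpecialLinearGroup (Fin 2) F, (s : Matrix (Fin 2) (Fin 2) F) = !![b, 0; 0, b⁻¹] :=
      ⟨⟨!![b, 0; 0, b⁻¹], by simp [Matrix.det_fin_two_of, hb]⟩, rfl⟩
    have h := hinv s (E1 a) (E2 b)
    rw [hs, show !![b, 0; 0, b⁻¹] *ᵥ E1 a = E1 (b * a) by
        subst hE1; funext i; fin_cases i <;> simp [Matrix.mulVec, dotProduct],
      show !![b, 0; 0, b⁻¹] *ᵥ E2 b = E2 1 by
        subst hE2; funext i; fin_cases i <;> simp [Matrix.mulVec, dotProduct, hb]] at h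
    exact ⟨Multiplicative.ofAdd (b * a), h⟩
  refine ⟨f, fun v w => ?_⟩
  rw [hdec v, hdec w, hadd, hadd', hadd', h11, h22, one_mul, mul_one, hanti (E1 (w 0)) (E2 (v 1))]
  exact mul_mem (h12 _ _) (inv_mem (h12 _ _))

variable {W : Type*} [Group W] [Finite W] {p : ℕ} [hp : Fact p.Prime] {G S Q M N : Subgroup W}
  {g₀ m₀ g₁ m₁ n : W} {J D : Subgroup W} {i : W}

theorem TwoFacts.sur (h : Setup p G S Q M N) (fc : TwoFacts p G S Q N J D i) :
    ∀ a ∈ nb p G S N, ∃ u ∈ J, a⁻¹ * u ∈ cU p G S N := by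
  intro a ha
  obtain ⟨w, hw, c, hc, -, -, rfl⟩ := fc.dec a ha
  exact ⟨w, hw, by rw [_root_.mul_inv_rev, inv_mul_cancel_right]; exact inv_mem hc⟩

theorem TwoFacts.comm_cap (h : Setup p G S Q M N) (t : Two p G S Q M N g₀ m₀ g₁ m₁ n)
    (fc : TwoFacts p G S Q N J D i) {j j' k : W} (hj : j ∈ J) (hk : k ∈ J) (he : j⁻¹ * j' ∈ cU p G S N) (hj' : j' ∈ J) :
    ⁅j', k⁆ = ⁅j, k⁆ := by
  obtain ⟨e, he'⟩ : ∃ e, e = j⁻¹ * j' := ⟨_, rfl⟩
  have hez : e ∈ zc p G S := (fc.cap.le (mem_inf.2 ⟨he' ▸ mul_mem (inv_mem hj) hj', he' ▸ he⟩)).2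
  have hc : e * k = k * e := h.zc_comm hez (t.d.nb_le (fc.le hk))
  rw [show j' = j * e by rw [he']; group]
  simp only [commutatorElement_def]
  calc j * e * k * (j * e)⁻¹ * k⁻¹ = j * (e * k) * e⁻¹ * j⁻¹ * k⁻¹ := by group
    _ = _ := by rw [hc]; group

theorem TwoFacts.card_le (h : Setup p G S Q M N) (t : Two p G S Q M N g₀ m₀ g₁ m₁ n)
    (fc : TwoFacts p G S Q N J D i) {F : Type} [Field F] [Fintype F]
    (hF : Fintype.card F * Nat.card ↥Q = Nat.card ↥S) : Nat.card ↥D ≤ Fintype.card F := by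
  obtain ⟨χ, σ, hσ, hadd, hsur, hk, -, hact⟩ := natSec_rep (t.sections h).2.2.2.1 hF
  have h1 : χ 1 = 0 := (hk 1 (one_mem _)).2 (one_mem _)
  have hsec : ∀ w, ∃ j ∈ J, χ j = w := fun w => by
    obtain ⟨a, ha, rfl⟩ := hsur w
    obtain ⟨u, hu, hb⟩ := fc.sur h a ha
    refine ⟨u, hu, ?_⟩
    rw [show u = a * (a⁻¹ * u) by group, hadd a ha _ hb.1, (hk _ hb.1).2 hb, add_zero]
  choose sec hsJ hsχ using hsec
  have hUG : nb p G S N ≤ G := t.d.nb_le.trans (h.QS.trans h.SG)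
  have hclass : ∀ j ∈ J, ∀ j' ∈ J, χ j = χ j' → ∀ k ∈ J, ⁅j', k⁆ = ⁅j, k⁆ ∧ ⁅k, j'⁆ = ⁅k, j⁆ := by
    intro j hj j' hj' e k hkJ
    have hm : j⁻¹ * j' ∈ cU p G S N := by
      refine (hk _ (mul_mem (inv_mem (fc.le hj)) (fc.le hj'))).1 ?_
      rw [hadd _ (inv_mem (fc.le hj)) _ (fc.le hj'), ← e, ← hadd _ (inv_mem (fc.le hj)) _ (fc.le hj),
        inv_mul_cancel, h1]
    have e1 := fc.comm_cap h t hj hkJ hm hj'
    exact ⟨e1, by rw [← commutatorElement_inv, e1, commutatorElement_inv]⟩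
  have hDc : ∀ d ∈ D, ∀ g ∈ G, g * d = d * g := fun d hd g hg => cen_comm (fc.Dcen hd).2 hg
  have hb1 : ∀ u v w, ⁅sec (u + v), sec w⁆ = ⁅sec u, sec w⁆ * ⁅sec v, sec w⁆ := by
    intro u v w
    show ⁅sec (u + v), sec w⁆ = ⁅sec u, sec w⁆ * ⁅sec v, sec w⁆
    have e1 := (hclass (sec u * sec v) (mul_mem (hsJ u) (hsJ v)) (sec (u + v)) (hsJ _)
      (by rw [hadd _ (fc.le (hsJ u)) _ (fc.le (hsJ v)), hsχ, hsχ, hsχ]) (sec w) (hsJ w)).1
    rw [e1]
    have hd : ⁅sec v, sec w⁆ ∈ D := fc.Deq ▸ commutator_mem_commutator (hsJ v) (hsJ w)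
    have hc := hDc _ hd ⁅sec u, sec w⁆ (hUG (fc.le (fc.Dle (fc.Deq ▸ commutator_mem_commutator (hsJ u) (hsJ w)))))
    rw [hc]
    have hc2 := hDc _ hd (sec u) (hUG (fc.le (hsJ u)))
    rw [show ⁅sec u * sec v, sec w⁆ = sec u * ⁅sec v, sec w⁆ * (sec u)⁻¹ * ⁅sec u, sec w⁆ by
      simp only [commutatorElement_def]; group, hc2, mul_inv_cancel_right]
  have hb2 : ∀ a b c d, ⁅sec a, sec b⁆ * ⁅sec c, sec d⁆ = ⁅sec c, sec d⁆ * ⁅sec a, sec b⁆ := by
    intro a b c d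
    exact hDc _ (fc.Deq ▸ commutator_mem_commutator (hsJ c) (hsJ d)) _
      (hUG (fc.le (fc.Dle (fc.Deq ▸ commutator_mem_commutator (hsJ a) (hsJ b)))))
  have hb3 : ∀ (s : SpecialLinearGroup (Fin 2) F) v w, ⁅sec ((s : Matrix (Fin 2) (Fin 2) F) *ᵥ v), sec ((s : Matrix (Fin 2) (Fin 2) F) *ᵥ w)⁆ = ⁅sec v, sec w⁆ := by
    intro s v w
    obtain ⟨g, rfl⟩ := hσ s
    obtain ⟨a, ha⟩ : ∃ a, a = (g : W) * sec v * (g : W)⁻¹ := ⟨_, rfl⟩
    obtain ⟨b, hb⟩ : ∃ b, b = (g : W) * sec w * (g : W)⁻¹ := ⟨_, rfl⟩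
    have haJ : a ∈ J := ha ▸ fc.stab g g.2 _ (hsJ v)
    have hbJ : b ∈ J := hb ▸ fc.stab g g.2 _ (hsJ w)
    show ⁅sec _, sec _⁆ = ⁅sec v, sec w⁆
    have ea : χ a = χ (sec ((σ g : Matrix (Fin 2) (Fin 2) F) *ᵥ v)) := by
      rw [hsχ, ha, hact g _ (fc.le (hsJ v)), hsχ]
    have eb : χ b = χ (sec ((σ g : Matrix (Fin 2) (Fin 2) F) *ᵥ w)) := by
      rw [hsχ, hb, hact g _ (fc.le (hsJ w)), hsχ]
    rw [(hclass a haJ _ (hsJ _) ea _ (hsJ _)).1, (hclass b hbJ _ (hsJ _) eb a haJ).2, ha, hb, ← conjugate_commutatorElement,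
      hDc _ (fc.Deq ▸ commutator_mem_commutator (hsJ v) (hsJ w)) (g : W) g.2, mul_inv_cancel_right]
  obtain ⟨f, hf⟩ := alt_bound (fun v w => ⁅sec v, sec w⁆) hb1 (fun v w => (commutatorElement_inv _ _).symm) hb2
    (fun v => by show ⁅sec v, sec v⁆ = 1; simp) hb3
  have hle : D ≤ f.range := by
    rw [fc.Deq, commutator_le]
    intro a ha b hb
    have e1 := (hclass (sec (χ a)) (hsJ _) a ha (hsχ _) b hb).1
    have e2 := (hclass (sec (χ b)) (hsJ _) b hb (hsχ _) (sec (χ a)) (hsJ _)).2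
    rw [e1, e2]
    exact hf _ _
  refine (card_le_of_le hle).trans ?_
  calc Nat.card ↥f.range ≤ Nat.card (Multiplicative F) := Nat.card_le_card_of_surjective _ f.rangeRestrict_surjective
    _ = _ := by rw [Nat.card_congr Multiplicative.toAdd, Nat.card_eq_fintype_card]

theorem TwoFacts.le_card (h : Setup p G S Q M N) (t : Two p G S Q M N g₀ m₀ g₁ m₁ n)
    (fc : TwoFacts p G S Q N J D i) {F : Type} [Field F] [Fintype F]
    (hF : Fintype.card F * Nat.card ↥Q = Nat.card ↥S) : Fintype.card F ≤ Nat.card ↥D := by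
  obtain ⟨⟨z, hz, hzQ⟩, y₁, -, -⟩ := t.exists_out h
  obtain ⟨A, hA⟩ : ∃ A, A = zv p G S (g₀ * m₀) := ⟨_, rfl⟩
  have hzS := t.Z2_le_S h hz
  have hAv : ∀ y ∈ A, y ∈ vb p G S (g₀ * m₀) := fun y hy => le_vb _ (hA ▸ hy)
  let f : ↥A →* W := MonoidHom.mk' (fun y => Tm z (y : W)) fun y y' => by
    rw [Subgroup.coe_mul, t.Tm_mul h hzS (hAv _ y.2) (hAv _ y'.2)]
  have hker : f.ker.map A.subtype ≤ A ⊓ cj n Q := by
    rintro _ ⟨y, hy, rfl⟩
    refine ⟨y.2, ?_⟩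
    by_contra hc
    exact t.Tm_ne h hz hzQ (hAv _ y.2) hc (by rw [show Tm z (y : W) = 1 from hy]; exact one_mem _)
  have hrange : f.range ≤ cj n D := by
    rintro _ ⟨⟨y, hy⟩, rfl⟩
    show Tm z y ∈ cj n D
    obtain ⟨z', hz'⟩ : ∃ z', z' = n⁻¹ * z * n := ⟨_, rfl⟩
    obtain ⟨y', hy'⟩ : ∃ y', y' = n⁻¹ * y * n := ⟨_, rfl⟩
    have hz'U : z' ∈ nb p G S N := by
      refine zv_le_nb t.r.hg t.r.hm ((zv_translate n (g₁ * m₁) z').1 ?_)
      rw [hz', show n * (n⁻¹ * z * n) * n⁻¹ = z by group]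
      exact hz
    have hy'G : y' ∈ G := by
      refine h.SG ?_
      have : y ∈ cj n S := by
        rw [h.cj_S t.l.hn]
        exact h.QS (t.d.nb_le (zv_le_nb t.l.hg t.l.hm (hA ▸ hy)))
      rw [CfsgLib.PushUp.mem_cj] at this
      exact hy' ▸ this
    have e : Tm z y = n * Tm z' y' * n⁻¹ := by
      rw [Tm_conj, hz', hy', show n * (n⁻¹ * z * n) * n⁻¹ = z by group, show n * (n⁻¹ * y * n) * n⁻¹ = y by group]
    rw [e]
    refine CfsgLib.PushUp.conj_mem_cj ?_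
    have hUG : nb p G S N ≤ G := t.d.nb_le.trans (h.QS.trans h.SG)
    obtain ⟨w, hw, c, hc, -, hcX, rfl⟩ := fc.dec z' hz'U
    obtain ⟨a, ha⟩ : ∃ a, a = w * ⁅c, y'⁆ * w⁻¹ := ⟨_, rfl⟩
    obtain ⟨b, hb⟩ : ∃ b, b = ⁅w, y'⁆ := ⟨_, rfl⟩
    have hc0 : ⁅c, y'⁆ ∈ zc p G S := by
      rw [← commutatorElement_inv]
      exact inv_mem (((t.mem_cU h).1 hc).2 y' hy'G)
    have haz : a ∈ zc p G S := ha ▸ zc_stable G S w (hUG (fc.le hw)) _ hc0
    have hbJ : b ∈ J := by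
      rw [hb, commutatorElement_def, show w * y' * w⁻¹ * y'⁻¹ = w * (y' * w⁻¹ * y'⁻¹) by group]
      exact mul_mem hw (fc.stab y' hy'G _ (inv_mem hw))
    have hv : ⁅w * c, y'⁆ = a * b := by rw [ha, hb]; simp only [commutatorElement_def]; group
    have h1 : Tm (w * c) y' = ⁅w * c, a * b⁆ := by rw [← hv]; rfl
    rw [h1, fc.Deq]
    have ha' : (w * c) * a = a * (w * c) := (h.zc_comm haz (t.d.nb_le (mul_mem (fc.le hw) hc.1))).symm
    have hcb : c * b = b * c :=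
      (mem_centralizer_iff.1 hcX b (fc.core.ge hbJ).1).symm
    have h2 : ⁅w * c, a * b⁆ = ⁅w, b⁆ := by
      simp only [commutatorElement_def]
      have hab : a * b = b * a := h.zc_comm haz (t.d.nb_le (fc.le hbJ))
      calc w * c * (a * b) * (w * c)⁻¹ * (a * b)⁻¹ = (w * c * a) * b * (w * c)⁻¹ * b⁻¹ * a⁻¹ := by group
        _ = a * (w * (c * b) * c⁻¹ * w⁻¹ * b⁻¹) * a⁻¹ := by rw [ha']; group
        _ = a * (w * b * w⁻¹ * b⁻¹) * a⁻¹ := by rw [hcb]; group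
        _ = _ := by
          have : a * (w * b * w⁻¹ * b⁻¹) = (w * b * w⁻¹ * b⁻¹) * a := h.zc_comm haz (t.d.nb_le
            (fc.le (mul_mem (mul_mem (mul_mem hw hbJ) (inv_mem hw)) (inv_mem hbJ))))
          rw [this, mul_inv_cancel_right]
    rw [h2]
    exact commutator_mem_commutator hw hbJ
  have h1 : Nat.card ↥A ≤ Nat.card ↥D * Nat.card ↥(A ⊓ cj n Q) := by
    rw [Subgroup.card_eq_card_quotient_mul_card_subgroup f.ker, Nat.card_congr (QuotientGroup.quotientKerEquivRange f).toEquiv,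
      ← CfsgLib.PushUp.card_cj n D]
    refine Nat.mul_le_mul (card_le_of_le hrange) ?_
    rw [← card_map_of_injective A.subtype_injective]
    exact card_le_of_le hker
  have hAn : A ≤ normalizer (cj n Q : Set W) := le_normalizer_iff.2 fun v hv r hr =>
      h.normalizes_Qn t.l.hn (h.cj_S t.l.hn ▸ t.l.V_le h t.d (hA ▸ hv)) hr
  have h2 := CfsgLib.PLocal.card_sup_mul_card_inf A (cj n Q) hAn
  rw [hA, t.l.full h t.d, ← hA, CfsgLib.PushUp.card_cj, ← hF] at h2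
  refine Nat.le_of_mul_le_mul_right ?_ (Nat.card_pos : 0 < Nat.card ↥(A ⊓ cj n Q))
  refine le_trans (le_of_eq ?_) h1
  refine Nat.eq_of_mul_eq_mul_right (Nat.card_pos : 0 < Nat.card ↥Q) ?_
  rw [mul_right_comm, ← h2]

theorem TwoFacts.omega (h : Setup p G S Q M N) (t : Two p G S Q M N g₀ m₀ g₁ m₁ n)
    (fc : TwoFacts p G S Q N J D i) : omegaOneCenter p J = J ⊓ zc p G S := by
  refine le_antisymm (fun u hu => ?_) (fun u hu => CfsgLib.LocalEvenB.PushCL.mem_omegaOneCenter.2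
    ⟨⟨hu.1, mem_centralizer_iff.2 fun v hv => (h.zc_comm hu.2 (t.d.nb_le (fc.le hv))).symm⟩, h.zc_pow u hu.2⟩)
  obtain ⟨⟨huJ, huc⟩, -⟩ := CfsgLib.LocalEvenB.PushCL.mem_omegaOneCenter.1 hu
  by_contra hne
  have huB : u ∉ cU p G S N := fun e => hne (fc.cap.le (mem_inf.2 ⟨huJ, e⟩))
  obtain ⟨F, i1, i2, χ0, σ0, hF, -⟩ := (t.sections h).2.2.2.1.coord
  obtain ⟨χ, σ, hσ, hadd, hsur, hk, -, hact⟩ := natSec_rep (t.sections h).2.2.2.1 hF
  have h1 : χ 1 = 0 := (hk 1 (one_mem _)).2 (one_mem _)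
  have hinv : ∀ v ∈ nb p G S N, χ v⁻¹ = - χ v := fun v hv => eq_neg_of_add_eq_zero_left (by
    rw [← hadd _ (inv_mem hv) _ hv, inv_mul_cancel, h1])
  let U' : AddSubgroup (Fin 2 → F) :=
    { carrier := {w | ∃ v ∈ J ⊓ centralizer (J : Set W), χ v = w}
      zero_mem' := ⟨1, one_mem _, h1⟩
      add_mem' := fun {a b} ⟨v, hv, ev⟩ ⟨v', hv', ev'⟩ =>
        ⟨v * v', mul_mem hv hv', by rw [hadd v (fc.le hv.1) v' (fc.le hv'.1), ev, ev']⟩
      neg_mem' := fun {a} ⟨v, hv, ev⟩ => ⟨v⁻¹, inv_mem hv, by rw [hinv v (fc.le hv.1), ev]⟩ }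
  have hst : Stable G (J ⊓ centralizer (J : Set W)) := fun g hg v hv => ⟨fc.stab g hg v hv.1,
    mem_centralizer_iff.2 fun w hw => by
      have := mem_centralizer_iff.1 hv.2 _ (fc.stab.inv hg hw)
      simpa [mul_assoc] using congrArg (fun z => g * z * g⁻¹) this⟩
  have htop : U' = ⊤ := addSubgroup_eq_top (fun T w hw => by
    obtain ⟨v, hv, rfl⟩ := hw
    obtain ⟨g, rfl⟩ := hσ T
    exact ⟨_, hst g g.2 v hv, hact g v (fc.le hv.1)⟩) ⟨u, ⟨huJ, huc⟩, rfl⟩ fun e => huB ((hk u (fc.le huJ)).1 e)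
  have hJab : J ≤ centralizer (J : Set W) := by
    intro j hj
    obtain ⟨v, hv, ev⟩ : χ j ∈ U' := htop ▸ AddSubgroup.mem_top _
    have hm : v⁻¹ * j ∈ cU p G S N := (hk _ (mul_mem (inv_mem (fc.le hv.1)) (fc.le hj))).1 (by
      rw [hadd _ (inv_mem (fc.le hv.1)) _ (fc.le hj), hinv _ (fc.le hv.1), ev, neg_add_cancel])
    have hmz := (fc.cap.le (mem_inf.2 ⟨mul_mem (inv_mem hv.1) hj, hm⟩)).2
    rw [show j = v * (v⁻¹ * j) by group]
    exact mul_mem hv.2 (mem_centralizer_iff.2 fun w hw => (h.zc_comm hmz (t.d.nb_le (fc.le hw))).symm)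
  have hD1 : D = ⊥ := by rw [fc.Deq, commutator_eq_bot_iff_le_centralizer]; exact hJab
  have hc := fc.le_card h t hF
  rw [hD1, card_bot] at hc
  exact absurd hc (not_le.2 Fintype.one_lt_card)

set_option maxHeartbeats 1000000 in
theorem TwoFacts.quad (h : Setup p G S Q M N) (t : Two p G S Q M N g₀ m₀ g₁ m₁ n)
    (fc : TwoFacts p G S Q N J D i) {b : W} (hb : b ∈ S) (hbQ : b ∉ Q) :
    ¬ ⁅⁅J, zpowers b⁆, zpowers b⁆ ≤ centralizer (G : Set W) := by
  intro hle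
  obtain ⟨-, y, hy, hyQ⟩ := t.exists_out h
  have hyv := le_vb (p := p) (G := G) (S := S) _ hy
  have hbm := (t.full₂ h).ge hb
  rw [← SetLike.mem_coe, coe_mul_of_left_le_normalizer_right _ _
    (((t.Z2_le_S h).trans h.SG).trans (stable_le_normalizer h.Qn))] at hbm
  obtain ⟨z, hz, q₀, hq₀, hbe⟩ := hbm
  change z * q₀ = b at hbe
  have hzQ : z ∉ Q := fun e => hbQ (hbe ▸ mul_mem e hq₀)
  have hzS := t.Z2_le_S h hz
  obtain ⟨w, hw, c, hc, hci, hcX, hye⟩ := fc.dec y (zv_le_nb t.l.hg t.l.hm hy)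
  have hwQ : w ∈ Q := t.d.nb_le (fc.le hw)
  have hcu := ((t.mem_cU h).1 hc).2
  have hp2 : p ≠ 2 := by have := fc.three; omega
  have hiG := res_le (p := p) G fc.iX
  -- `[q₀, c]` is central
  obtain ⟨k, hk⟩ : ∃ k, k = ⁅q₀, c⁆ := ⟨_, rfl⟩
  have hkz : k ∈ zc p G S := hk ▸ hcu q₀ (h.SG (h.QS hq₀))
  have hkX : ∀ x ∈ pResidualOf p G, x * k * x⁻¹ = k := by
    intro x hx
    obtain ⟨r, hr⟩ : ∃ r, r = ⁅x, q₀⁆ := ⟨_, rfl⟩
    have hrJ : r ∈ J := hr ▸ fc.XQ x hx q₀ hq₀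
    have hcx : x * c = c * x := mem_centralizer_iff.1 hcX x hx
    have hcr : r * c = c * r := mem_centralizer_iff.1 hcX r (fc.core.ge hrJ).1
    have hrk : k * r = r * k := h.zc_comm hkz (t.d.nb_le (fc.le hrJ))
    calc x * k * x⁻¹ = ⁅r * q₀, c⁆ := by
          rw [hk, conjugate_commutatorElement, show x * c * x⁻¹ = c by rw [hcx, mul_inv_cancel_right],
            show x * q₀ * x⁻¹ = r * q₀ by rw [hr, commutatorElement_def]; group]
      _ = r * k * r⁻¹ * (r * c * r⁻¹ * c⁻¹) := by rw [hk]; simp only [commutatorElement_def]; group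
      _ = k := by rw [hcr, mul_inv_cancel_right, mul_inv_cancel, mul_one, ← hrk, mul_inv_cancel_right]
  have hkG : k ∈ centralizer (G : Set W) := by
    obtain ⟨F, i1, i2, χ0, σ0, hF, -⟩ := (h.natSec_zc (t.centralizer_eq h)).coord
    obtain ⟨x, hx, -, hfix, -⟩ := exists_fpf_elem h (h.natSec_zc (t.centralizer_eq h)) hF
    exact (hfix k hkz (mul_inv_eq_iff_eq_mul.1 (hkX x hx))).2
  -- `[b, c]` commutes with `b`
  obtain ⟨e, he⟩ : ∃ e, e = ⁅b, c⁆ := ⟨_, rfl⟩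
  have hez : e ∈ zc p G S := he ▸ hcu b (h.SG hb)
  obtain ⟨z₀, hz₀, hzc⟩ := t.comm_Qn h (t.cent_le_Qn h hc.1 hcu)
  have hzom : ⁅z, c⁆ ∈ om p S := by
    rw [commutatorElement_def, (hzc z hz).1]
    exact h.quad_central hzS hz₀
  have heb : b * e = e * b := by
    have e1 : e = k * ⁅z, c⁆ := by
      rw [he, ← hbe, show ⁅z * q₀, c⁆ = z * ⁅q₀, c⁆ * z⁻¹ * ⁅z, c⁆ by simp only [commutatorElement_def]; group,
        ← hk, cen_comm hkG (h.SG hzS), mul_inv_cancel_right]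
    have e2 : b * k = k * b := cen_comm hkG (h.SG hb)
    have e3 : b * ⁅z, c⁆ = ⁅z, c⁆ * b := hzom.2.1 b hb
    rw [e1]
    exact (Commute.mul_right e2 e3).eq
  have heq : Tm b y = ⁅b, ⁅b, w⁆⁆ := by
    obtain ⟨u, hu⟩ : ∃ u, u = ⁅b, w⁆ := ⟨_, rfl⟩
    have hwe : w * e = e * w := (h.zc_comm hez hwQ).symm
    have e1 : b * y * b⁻¹ * y⁻¹ = u * e := by
      rw [hye, show b * (w * c) * b⁻¹ * (w * c)⁻¹ = ⁅b, w⁆ * (w * ⁅b, c⁆ * w⁻¹) by
        simp only [commutatorElement_def]; group, ← hu, ← he, hwe, mul_inv_cancel_right]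
    unfold Tm
    rw [e1, ← hu, commutatorElement_def]
    calc b * (u * e) * b⁻¹ * (u * e)⁻¹ = b * u * (e * b⁻¹ * e⁻¹) * u⁻¹ := by group
      _ = _ := by
        rw [show e * b⁻¹ * e⁻¹ = b⁻¹ by rw [(show Commute b e from heb).inv_left.eq.symm, mul_inv_cancel_right]]
  have hTG : Tm b y ∈ centralizer (G : Set W) := by
    rw [heq, ← commutatorElement_inv]
    refine inv_mem (hle (commutator_mem_commutator ?_ (mem_zpowers b)))
    rw [commutator_comm]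
    exact commutator_mem_commutator (mem_zpowers b) hw
  obtain ⟨c', hc', -, hcT⟩ := t.Tm_coset h hzS hq₀ hyv
  rw [hbe] at hcT
  refine t.Tm_ne h hz hzQ hyv hyQ ?_
  rw [show Tm z y = c'⁻¹ * Tm b y by rw [hcT]; group]
  exact mul_mem (inv_mem hc') hTG

theorem two_block (h : Setup p G S Q M N) (t : Two p G S Q M N g₀ m₀ g₁ m₁ n) : RankOut p G S Q := by
  obtain ⟨J, D, i, fc⟩ := two_facts h t
  have hC := t.centralizer_eq h
  have hN1 := h.natSec_zc hC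
  obtain ⟨hRst, hRle, hRdec, -⟩ := zc_decomp h hC
  obtain ⟨F, i1, i2, χ, σ, hcF, -⟩ := h.zCoord
  obtain ⟨k, hk1, hk, -⟩ := field_facts h hcF
  obtain ⟨X, hX⟩ : ∃ X, X = pResidualOf p G := ⟨_, rfl⟩
  have hcore : pCoreOf p (pResidualOf p G) = J := (pCoreOf_res h).trans fc.core
  have hom := fc.omega h t
  have hWc : omegaOneCenter p J ⊓ centralizer (pResidualOf p G : Set W) = D := by
    rw [hom]
    refine le_antisymm (fun u hu => fc.Dfix ⟨hu.1.1, hu.2⟩) fun u hu => ⟨⟨fc.Dle hu, (fc.Dcen hu).1⟩,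
      centralizer_le (res_le G) (fc.Dcen hu).2⟩
  have hXC : pResidualOf p G ⊓ centralizer (pResidualOf p G : Set W) = D := by
    refine le_antisymm (fun c hc => fc.Dfix ⟨?_, hc.2⟩) fun u hu =>
      ⟨(fc.core.ge (fc.Dle hu)).1, centralizer_le (res_le G) (fc.Dcen hu).2⟩
    refine fc.core.le ⟨hc.1, hC.le ⟨res_le G hc.1, mem_centralizer_iff.2 fun z hz => ?_⟩⟩
    obtain ⟨a, ha, b, hb, rfl⟩ := hRdec z hz
    have h1 : a * c = c * a := mem_centralizer_iff.1 hc.2 a (fc.core.ge (fc.Rle ha)).1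
    have h2 : c * b = b * c := cen_comm hb.2 (res_le G hc.1)
    exact ((show Commute a c from h1).mul_left (show Commute b c from h2.symm)).eq
  have hDne : Nat.card ↥D = 3 ^ k := by
    rw [← fc.three, ← hk]
    exact le_antisymm (fc.card_le h t hcF) (fc.le_card h t hcF)
  have hJp : IsPGroup p ↥J := h.pS.to_le (fc.le.trans (t.d.nb_le.trans h.QS))
  refine ⟨⟨res_res G, res_comm_S h, hcore.symm ▸ fc.comm, F, i1, i2, k, hk1, hk, res_iso h hN1 hcF, ?_,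
    Or.inr ⟨fc.three, ?_, ?_, ?_, ?_, ?_, fun b hb hbC hle => ?_⟩⟩, ?_, pCoreOf_res h, fun e => ?_⟩
  · rw [hcore, hWc, hom]
    refine acts_res h hN1 hcF (fun g hg u hu => ⟨fc.stab g hg u hu.1, zc_stable G S g hg u hu.2⟩) inf_le_right ?_
      fun z hz => ?_
    · refine le_antisymm (fun u hu => ⟨⟨fc.Dle hu, (fc.Dcen hu).1⟩, fc.Dcen hu⟩)
        fun u hu => fc.Dfix ⟨hu.1.1, centralizer_le (res_le G) hu.2.2⟩
    · obtain ⟨a, ha, b, hb, rfl⟩ := hRdec z hz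
      exact ⟨a, ⟨fc.Rle ha, hRle ha⟩, by rw [_root_.mul_inv_rev, inv_mul_cancel_right]; exact inv_mem hb⟩
  · rw [hcore, hom, ← fc.cap]
    exact acts_res h (t.sections h).2.2.2.1 hcF fc.stab fc.le rfl (fc.sur h)
  · rw [hcore, hWc, fc.Deq]
  · rw [hcore, hWc, fc.Deq]
    refine le_antisymm ?_ ?_
    · haveI : (D.subgroupOf J).Normal := ⟨fun d hd g => by
        rw [mem_subgroupOf] at hd ⊢
        show (g : W) * d * (g : W)⁻¹ ∈ D
        rw [cen_comm (fc.Dcen hd).2 (h.SG (h.QS (t.d.nb_le (fc.le g.2)))), mul_inv_cancel_right]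
        exact hd⟩
      rw [← fc.Deq]
      refine (map_mono (CfsgLib.PGroups.frattini_le_of_elementary (p := p) (N := D.subgroupOf J) ?_ fun x => ?_)).trans ?_
      · rw [commutator_def, commutator_le]
        intro a _ b _
        rw [mem_subgroupOf, fc.Deq, show ((⁅a, b⁆ : ↥J) : W) = ⁅(a : W), (b : W)⁆ from map_commutatorElement J.subtype a b]
        exact commutator_mem_commutator a.2 b.2
      · rw [show x ^ p = 1 from Subtype.ext (by rw [SubmonoidClass.coe_pow, fc.three]; exact fc.cube _ (fc.le x.2))]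
        exact one_mem _
      · rintro _ ⟨x, hx, rfl⟩; exact hx
    · rw [← Subgroup.map_subtype_commutator]
      exact map_mono (CfsgLib.PGroups.commutator_le_frattini' hJp)
  · rw [hcore, hWc, hXC]
  · rw [hXC]; exact hDne
  · rw [hcore, hXC] at hle
    rw [hcore, hom] at hbC
    refine fc.quad h t hb (fun hQ => hbC (mem_centralizer_iff.2 fun z hz => ?_)) (hle.trans fun d hd => (fc.Dcen hd).2)
    exact h.zc_comm hz.2 hQ
  · rw [hcore, hom]; exact inf_le_right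
  · rw [hcore] at e
    have hab : ⁅J, J⁆ = ⊥ := by
      rw [commutator_eq_bot_iff_le_centralizer]
      intro a ha
      have ha' : a ∈ omegaOneCenter p J := e ▸ ha
      exact (CfsgLib.LocalEvenB.PushCL.mem_omegaOneCenter.1 ha').1.2
    rw [← fc.Deq] at hab
    rw [hab, card_bot] at hDne
    exact absurd hDne.symm (Nat.one_lt_pow (by omega) (by norm_num)).ne'

/-- The analysis applies to every setup. -/
theorem rank_block (h : Setup p G S Q M N) : RankOut p G S Q := by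
  have h' := h.enlarge
  obtain ⟨b, hb1, d⟩ := h'.exists_dist
  have hb2 := h'.dist_le_two d
  obtain rfl | rfl : b = 1 ∨ b = 2 := by omega
  · obtain ⟨n, o⟩ := h'.exists_one d
    exact one_block h' o
  · obtain ⟨g₀, m₀, g₁, m₁, n, t⟩ := h'.exists_two (fun x hxG hx => mem_sup_right ⟨hxG, by
      show x ∈ normalizer (S : Set W)
      rw [mem_normalizer_iff]
      intro y
      refine ⟨hx y, fun hy => ?_⟩
      have := CfsgLib.PushUp.mem_cj.1 ((cj_eq_of_forall hx).ge hy)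
      simpa [mul_assoc] using this⟩) d
    exact two_block h' t

end CfsgLib.LocalEven.PMinPush
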